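import Mathlib
import Groth.Agent.S0543
set_option autoImplicit false
set_option linter.style.haveILetI false
universe u
open IsLocalRing

namespace Groth.Agent.Lib.helper24.AdicLocal

variable (A : Type u) [CommRing A] [IsLocalRing A] [IsNoetherianRing A] (I : Ideal A)

theorem isLocalRing (hI : I ≠ ⊤) : IsLocalRing (AdicCompletion I A) := by
  have fg : I.FG := (isNoetherianRing_iff_ideal_fg A).mp inferInstance I
  have hle : I ≤ maximalIdeal A := le_maximalIdeal hI
  haveI hmax := AdicCompletion.isMaximal_map_of_le I (maximalIdeal A) hle fg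
  haveI := AdicCompletion.isAdicComplete_self I fg
  refine IsLocalRing.of_unique_max_ideal
    ⟨(maximalIdeal A).map (algebraMap A (AdicCompletion I A)), hmax, fun J hJ => ?_⟩
  have h1 : I.map (algebraMap A (AdicCompletion I A)) ≤ J :=
    (IsAdicComplete.le_jacobson_bot _).trans (sInf_le ⟨bot_le, hJ⟩)
  -- `J` is the comap of its image in `A ⧸ I`
  let e : AdicCompletion I A →+* A ⧸ I := (AdicCompletion.evalOneₐ I).toRingHom
  have he : Function.Surjective e := AdicCompletion.evalOneₐ_surjective I
  have hke : RingHom.ker e = I.map (algebraMap A (AdicCompletion I A)) :=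
    AdicCompletion.ker_evalOneₐ_eq_map I fg
  have hker : RingHom.ker e ≤ J := by rw [hke]; exact h1
  have hker' : RingHom.ker e ≤ (maximalIdeal A).map (algebraMap A (AdicCompletion I A)) := by
    rw [hke]; exact Ideal.map_mono hle
  have hJ' : (J.map e).IsMaximal :=
    Ideal.IsMaximal.map_of_surjective_of_ker_le he hker
  haveI : Nontrivial (A ⧸ I) := Ideal.Quotient.nontrivial_iff.mpr hI
  haveI : IsLocalRing (A ⧸ I) := IsLocalRing.of_surjective' (Ideal.Quotient.mk I)
    Ideal.Quotient.mk_surjective
  have h2 : J.map e = maximalIdeal (A ⧸ I) := IsLocalRing.eq_maximalIdeal hJ'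
  have h3 : ((maximalIdeal A).map (algebraMap A (AdicCompletion I A))).map e =
      maximalIdeal (A ⧸ I) :=
    IsLocalRing.eq_maximalIdeal (Ideal.IsMaximal.map_of_surjective_of_ker_le he hker')
  have h4 := congrArg (Ideal.comap e) (h2.trans h3.symm)
  rw [Ideal.comap_map_of_surjective' e he, Ideal.comap_map_of_surjective' e he,
    sup_eq_left.mpr hker, sup_eq_left.mpr hker'] at h4
  exact h4

theorem maximalIdeal_eq_map (hI : I ≠ ⊤) :
    haveI := isLocalRing A I hI
    maximalIdeal (AdicCompletion I A) = (maximalIdeal A).map (algebraMap A (AdicCompletion I A)) := by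
  haveI := isLocalRing A I hI
  have fg : I.FG := (isNoetherianRing_iff_ideal_fg A).mp inferInstance I
  exact (IsLocalRing.eq_maximalIdeal
    (AdicCompletion.isMaximal_map_of_le I (maximalIdeal A) (le_maximalIdeal hI) fg)).symm


theorem comap_maximalIdeal (hI : I ≠ ⊤) :
    haveI := isLocalRing A I hI
    (maximalIdeal (AdicCompletion I A)).comap (algebraMap A (AdicCompletion I A)) = maximalIdeal A := by
  haveI := isLocalRing A I hI
  symm
  apply (maximalIdeal.isMaximal A).eq_of_le
  · exact Ideal.comap_ne_top _ (maximalIdeal.isMaximal _).ne_top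
  · rw [maximalIdeal_eq_map A I hI]
    exact Ideal.le_comap_map

theorem isLocalHom (hI : I ≠ ⊤) :
    haveI := isLocalRing A I hI
    IsLocalHom (algebraMap A (AdicCompletion I A)) := by
  haveI := isLocalRing A I hI
  apply ((IsLocalRing.local_hom_TFAE _).out 0 2).mpr
  rw [maximalIdeal_eq_map A I hI]

theorem ringKrullDim_eq (hI : I ≠ ⊤) : ringKrullDim (AdicCompletion I A) = ringKrullDim A := by
  haveI := isLocalRing A I hI
  set Ah := AdicCompletion I A with hAh
  haveI : IsNoetherianRing Ah := Groth.Agent.S0543.result A _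
  haveI : (maximalIdeal Ah).LiesOver (maximalIdeal A) := ⟨(comap_maximalIdeal A I hI).symm⟩
  have h := Ideal.height_eq_height_add_of_liesOver_of_hasGoingDown (R := A) (S := Ah)
    (maximalIdeal A) (maximalIdeal Ah)
  have h0 : (Ideal.map (Ideal.Quotient.mk (Ideal.map (algebraMap A Ah) (maximalIdeal A)))
      (maximalIdeal Ah)) = ⊥ := by
    rw [Ideal.map_eq_bot_iff_le_ker, Ideal.mk_ker, maximalIdeal_eq_map A I hI]
  rw [h0] at h
  have hbot : (⊥ : Ideal (Ah ⧸ Ideal.map (algebraMap A Ah) (maximalIdeal A))).height = 0 := by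
    haveI : (Ideal.map (algebraMap A Ah) (maximalIdeal A)).IsMaximal := by
      rw [← maximalIdeal_eq_map A I hI]; infer_instance
    letI := Ideal.Quotient.field (Ideal.map (algebraMap A Ah) (maximalIdeal A))
    exact Ideal.height_bot
  rw [hbot, add_zero] at h
  rw [← IsLocalRing.maximalIdeal_height_eq_ringKrullDim, ← IsLocalRing.maximalIdeal_height_eq_ringKrullDim, h]

theorem exists_sub_mem (hI : I ≠ ⊤) (b : AdicCompletion I A) :
    haveI := isLocalRing A I hI
    ∃ a : A, b - algebraMap A (AdicCompletion I A) a ∈ maximalIdeal (AdicCompletion I A) := by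
  haveI := isLocalRing A I hI
  have fg : I.FG := (isNoetherianRing_iff_ideal_fg A).mp inferInstance I
  obtain ⟨a, ha⟩ := Ideal.Quotient.mk_surjective (AdicCompletion.evalOneₐ I b)
  refine ⟨a, ?_⟩
  have h1 : b - algebraMap A (AdicCompletion I A) a ∈
      RingHom.ker (AdicCompletion.evalOneₐ I).toRingHom := by
    rw [RingHom.mem_ker, map_sub]
    change AdicCompletion.evalOneₐ I b - AdicCompletion.evalOneₐ I (AdicCompletion.of I A a) = 0
    rw [AdicCompletion.evalOneₐ_of, ha, sub_self]
  rw [AdicCompletion.ker_evalOneₐ_eq_map I fg] at h1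
  rw [maximalIdeal_eq_map A I hI]
  exact Ideal.map_mono (le_maximalIdeal hI) h1

theorem residueField_map_bijective (hI : I ≠ ⊤) :
    haveI := isLocalRing A I hI
    haveI := isLocalHom A I hI
    Function.Bijective (IsLocalRing.ResidueField.map (algebraMap A (AdicCompletion I A))) := by
  haveI := isLocalRing A I hI
  haveI := isLocalHom A I hI
  refine ⟨RingHom.injective _, fun x => ?_⟩
  obtain ⟨y, rfl⟩ := residue_surjective x
  obtain ⟨a, ha⟩ := exists_sub_mem A I hI y
  refine ⟨residue A a, ?_⟩
  rw [IsLocalRing.ResidueField.map_residue]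
  symm
  exact (Ideal.Quotient.mk_eq_mk_iff_sub_mem _ _).mpr ha

theorem spanFinrank_maximalIdeal_eq (hI : I ≠ ⊤) :
    haveI := isLocalRing A I hI
    (maximalIdeal (AdicCompletion I A)).spanFinrank = (maximalIdeal A).spanFinrank := by
  haveI := isLocalRing A I hI
  haveI := isLocalHom A I hI
  set Ah := AdicCompletion I A with hAh
  haveI : IsNoetherianRing Ah := Groth.Agent.S0543.result A _
  haveI : Module.FaithfullyFlat A Ah := Module.FaithfullyFlat.of_flat_of_isLocalHom
  have fg : (maximalIdeal A).FG := (isNoetherianRing_iff_ideal_fg A).mp inferInstance _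
  have comapeq := comap_maximalIdeal A I hI
  let f := Ideal.mapCotangent _ _ (Algebra.ofId A Ah) (le_of_eq comapeq.symm)
  have inj : Function.Injective f := by
    rw [← LinearMap.ker_eq_bot, LinearMap.ker_eq_bot']
    intro m hm
    rcases Ideal.toCotangent_surjective _ m with ⟨m', hm'⟩
    simp only [← hm', Ideal.mapCotangent_toCotangent, Algebra.ofId_apply, Ideal.toCotangent_eq_zero,
      maximalIdeal_eq_map A I hI, ← Ideal.map_pow, f] at hm
    have : (m' : A) ∈ (Ideal.map (algebraMap A Ah) (maximalIdeal A ^ 2)).comap (algebraMap A Ah) := hm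
    rw [Ideal.comap_map_eq_self_of_faithfullyFlat] at this
    rw [← hm', Ideal.toCotangent_eq_zero]
    exact this
  have surj : Function.Surjective f := by
    intro m
    rcases Ideal.toCotangent_surjective _ m with ⟨⟨y, hy⟩, hm'⟩
    have key : ∀ y ∈ (maximalIdeal A) • (⊤ : Submodule A Ah), ∃ l ∈ maximalIdeal A,
        algebraMap A Ah l - y ∈ maximalIdeal Ah ^ 2 := by
      intro y hy
      refine Submodule.smul_induction_on hy ?_ ?_
      · intro x hx b _
        obtain ⟨a, ha⟩ := exists_sub_mem A I hI b
        refine ⟨x * a, Ideal.mul_mem_right _ _ hx, ?_⟩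
        have : algebraMap A Ah (x * a) - x • b = - (algebraMap A Ah x * (b - algebraMap A Ah a)) := by
          rw [Algebra.smul_def, map_mul]; ring
        rw [this, pow_two]
        refine neg_mem (Ideal.mul_mem_mul ?_ ha)
        rw [maximalIdeal_eq_map A I hI]
        exact Ideal.mem_map_of_mem _ hx
      · rintro y1 y2 ⟨l1, hl1, h1⟩ ⟨l2, hl2, h2⟩
        refine ⟨l1 + l2, Ideal.add_mem _ hl1 hl2, ?_⟩
        have : algebraMap A Ah (l1 + l2) - (y1 + y2) =
            (algebraMap A Ah l1 - y1) + (algebraMap A Ah l2 - y2) := by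
          rw [map_add]; ring
        rw [this]
        exact Ideal.add_mem _ h1 h2
    have hy' : y ∈ (maximalIdeal A) • (⊤ : Submodule A Ah) := by
      rw [Ideal.smul_top_eq_map, Submodule.restrictScalars_mem, ← maximalIdeal_eq_map A I hI]
      exact hy
    obtain ⟨l, hl, hly⟩ := key y hy'
    refine ⟨(maximalIdeal A).toCotangent ⟨l, hl⟩, ?_⟩
    simp only [Ideal.mapCotangent_toCotangent, Algebra.ofId_apply, ← hm', Ideal.toCotangent_eq, f]
    exact hly
  have rkeq := rank_eq_of_equiv_equiv _
    (LinearEquiv.ofBijective f ⟨inj, surj⟩).toAddEquiv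
    (residueField_map_bijective A I hI) (fun r m ↦ by
      rcases IsLocalRing.residue_surjective r with ⟨s, rfl⟩
      exact map_smul f s m )
  have fg' : (maximalIdeal Ah).FG := (isNoetherianRing_iff_ideal_fg Ah).mp inferInstance _
  rw [IsLocalRing.spanFinrank_maximalIdeal_eq_finrank_cotangentSpace_of_fg fg,
    IsLocalRing.spanFinrank_maximalIdeal_eq_finrank_cotangentSpace_of_fg fg', eq_comm]
  exact congrArg Cardinal.toNat rkeq

end Groth.Agent.Lib.helper24.AdicLocal
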