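import Mathlib

/-!
# Tor-free local criterion of flatness for a nilpotent ideal (helper24)

* `chaseA`: a four-lemma style diagram chase.
* `P1`: if `(A/I) ⊗ M` is flat over `A/I`, then `- ⊗[A] M` preserves injections between modules
  killed by `I`.
-/

namespace Groth.Agent.Lib.helper24.NilFlat
universe u v w
open TensorProduct Function

section Chase
variable {R : Type*} [CommRing R]
  {X1 X2 X3 Y1 Y2 Y3 : Type*}
  [AddCommGroup X1] [AddCommGroup X2] [AddCommGroup X3]
  [AddCommGroup Y1] [AddCommGroup Y2] [AddCommGroup Y3]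
  [Module R X1] [Module R X2] [Module R X3] [Module R Y1] [Module R Y2] [Module R Y3]

/-- Four-lemma style chase: in a commutative diagram with top row exact at `X2`, if `a`, `c` and
`f2` are injective then so is `b`. -/
theorem chaseA (f1 : X1 →ₗ[R] X2) (g1 : X2 →ₗ[R] X3) (f2 : Y1 →ₗ[R] Y2) (g2 : Y2 →ₗ[R] Y3)
    (a : X1 →ₗ[R] Y1) (b : X2 →ₗ[R] Y2) (c : X3 →ₗ[R] Y3)
    (hex : Exact f1 g1) (c1 : ∀ x, b (f1 x) = f2 (a x)) (c2 : ∀ x, c (g1 x) = g2 (b x))
    (ha : Injective a) (hc : Injective c) (hf2 : Injective f2) : Injective b := by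
  rw [injective_iff_map_eq_zero]
  intro x hx
  have h1 : g1 x = 0 := by
    apply hc
    rw [c2, hx, map_zero, map_zero]
  obtain ⟨x', rfl⟩ := (hex x).mp h1
  have h2 : a x' = 0 := by
    apply hf2
    rw [← c1, hx, map_zero]
  have h3 : x' = 0 := by
    apply ha
    rw [h2, map_zero]
  rw [h3, map_zero]

end Chase

section P1
variable {A : Type u} [CommRing A] (I : Ideal A) (M : Type v) [AddCommGroup M] [Module A M]

/-- If `(A/I) ⊗ M` is flat over `A/I`, then `- ⊗[A] M` preserves injectivity of maps between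
modules killed by `I`. -/
theorem P1 [hflat : Module.Flat (A ⧸ I) ((A ⧸ I) ⊗[A] M)]
    {N' : Type w} {N : Type w} [AddCommGroup N'] [Module A N'] [AddCommGroup N] [Module A N]
    (hN' : ∀ a ∈ I, ∀ x : N', a • x = 0) (hN : ∀ a ∈ I, ∀ x : N, a • x = 0)
    (f : N' →ₗ[A] N) (hf : Injective f) : Injective (f.rTensor M) := by
  have tN' : Module.IsTorsionBySet A N' (I : Set A) := fun x a => hN' a a.2 x
  have tN : Module.IsTorsionBySet A N (I : Set A) := fun x a => hN a a.2 x
  let _ : Module (A ⧸ I) N' := tN'.module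
  let _ : Module (A ⧸ I) N := tN.module
  have : IsScalarTower A (A ⧸ I) N' := tN'.isScalarTower
  have : IsScalarTower A (A ⧸ I) N := tN.isScalarTower
  let f' : N' →ₗ[A ⧸ I] N := f.extendScalarsOfSurjective Ideal.Quotient.mk_surjective
  have hf' : Injective f' := hf
  have hflat' : Injective (f'.rTensor ((A ⧸ I) ⊗[A] M)) :=
    Module.Flat.rTensor_preserves_injective_linearMap f' hf'
  let e₁ := AlgebraTensorModule.cancelBaseChange A (A ⧸ I) (A ⧸ I) N' M
  let e₂ := AlgebraTensorModule.cancelBaseChange A (A ⧸ I) (A ⧸ I) N M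
  have nat : ∀ z, e₂ (f'.rTensor ((A ⧸ I) ⊗[A] M) z) = f.rTensor M (e₁ z) := by
    intro z
    induction z using TensorProduct.induction_on with
    | zero => simp
    | add x y hx hy => simp only [map_add, hx, hy]
    | tmul q w =>
      induction w using TensorProduct.induction_on with
      | zero => simp
      | add x y hx hy => simp only [tmul_add, map_add, hx, hy]
      | tmul b a =>
        have hsm : f (b • q) = b • f q := map_smul f' b q
        simp [e₁, e₂, f', hsm]
  intro x y hxy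
  obtain ⟨x', rfl⟩ := e₁.surjective x
  obtain ⟨y', rfl⟩ := e₁.surjective y
  rw [← nat, ← nat] at hxy
  rw [hflat' (e₂.injective hxy)]

end P1

section Descent
variable {A : Type u} [CommRing A] (I : Ideal A) (M : Type v) [AddCommGroup M] [Module A M]

theorem rTensor_inclusion_injective_of_comp {P Q : Submodule A A} (h : P ≤ Q)
    (hP : Injective (P.subtype.rTensor M)) : Injective ((Submodule.inclusion h).rTensor M) := by
  have : P.subtype.rTensor M = (Q.subtype.rTensor M) ∘ₗ ((Submodule.inclusion h).rTensor M) := by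
    rw [← LinearMap.rTensor_comp, Submodule.subtype_comp_inclusion]
  rw [this] at hP
  exact Injective.of_comp hP

/-- One step of the descending induction. -/
theorem step [Module.Flat (A ⧸ I) ((A ⧸ I) ⊗[A] M)] (j : ℕ)
    (hαj : Injective ((I ^ j).subtype.rTensor M))
    (hαj1 : Injective ((I ^ (j + 1)).subtype.rTensor M))
    (ih : ∀ 𝔟 : Ideal A, 𝔟 ≤ I ^ (j + 1) → Injective (𝔟.subtype.rTensor M))
    (𝔞 : Ideal A) (h𝔞 : 𝔞 ≤ I ^ j) : Injective (𝔞.subtype.rTensor M) := by
  let 𝔟 : Ideal A := 𝔞 ⊓ I ^ (j + 1)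
  have hle : I ^ (j + 1) ≤ I ^ j := Ideal.pow_le_pow_right (Nat.le_succ j)
  let f1 : ↥𝔟 →ₗ[A] ↥𝔞 := Submodule.inclusion inf_le_left
  let f2 : ↥(I ^ (j + 1)) →ₗ[A] ↥(I ^ j) := Submodule.inclusion hle
  let a : ↥𝔟 →ₗ[A] ↥(I ^ (j + 1)) := Submodule.inclusion inf_le_right
  let b : ↥𝔞 →ₗ[A] ↥(I ^ j) := Submodule.inclusion h𝔞
  let K1 := LinearMap.range f1
  let K2 := LinearMap.range f2
  have hK : K1 ≤ K2.comap b := by
    rintro _ ⟨x, rfl⟩
    exact ⟨a x, rfl⟩
  let c : (↥𝔞 ⧸ K1) →ₗ[A] (↥(I ^ j) ⧸ K2) := K1.mapQ K2 b hK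
  have hc : Injective c := by
    rw [← LinearMap.ker_eq_bot, Submodule.ker_mapQ, eq_bot_iff, Submodule.map_le_iff_le_comap]
    intro x hx
    rw [Submodule.mem_comap] at hx
    obtain ⟨y, hy⟩ := hx
    have hxy : (x : A) = (y : A) := (congrArg Subtype.val hy).symm
    rw [Submodule.mem_comap, Submodule.mem_bot, Submodule.mkQ_apply,
      Submodule.Quotient.mk_eq_zero]
    exact ⟨⟨(x : A), ⟨x.2, hxy ▸ y.2⟩⟩, rfl⟩
  -- the two quotients are killed by `I`
  have hkill1 : ∀ i ∈ I, ∀ q : (↥𝔞 ⧸ K1), i • q = 0 := by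
    intro i hi q
    obtain ⟨x, rfl⟩ := Submodule.Quotient.mk_surjective _ q
    rw [← Submodule.Quotient.mk_smul, Submodule.Quotient.mk_eq_zero]
    refine ⟨⟨i * (x : A), ⟨𝔞.mul_mem_left i x.2, ?_⟩⟩, rfl⟩
    rw [pow_succ']
    exact Ideal.mul_mem_mul hi (h𝔞 x.2)
  have hkill2 : ∀ i ∈ I, ∀ q : (↥(I ^ j) ⧸ K2), i • q = 0 := by
    intro i hi q
    obtain ⟨x, rfl⟩ := Submodule.Quotient.mk_surjective _ q
    rw [← Submodule.Quotient.mk_smul, Submodule.Quotient.mk_eq_zero]
    refine ⟨⟨i * (x : A), ?_⟩, rfl⟩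
    rw [pow_succ']
    exact Ideal.mul_mem_mul hi x.2
  have hc' : Injective (c.rTensor M) := P1 I M hkill1 hkill2 c hc
  have ha' : Injective (a.rTensor M) :=
    rTensor_inclusion_injective_of_comp M inf_le_right (ih 𝔟 inf_le_right)
  have hf2' : Injective (f2.rTensor M) := rTensor_inclusion_injective_of_comp M hle hαj1
  have hex : Exact (f1.rTensor M) (K1.mkQ.rTensor M) :=
    rTensor_exact M (LinearMap.exact_map_mkQ_range f1) (Submodule.mkQ_surjective K1)
  have hb' : Injective (b.rTensor M) := by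
    refine chaseA (f1.rTensor M) (K1.mkQ.rTensor M) (f2.rTensor M) (K2.mkQ.rTensor M)
      (a.rTensor M) (b.rTensor M) (c.rTensor M) hex ?_ ?_ ha' hc' hf2'
    · intro x
      rw [← LinearMap.comp_apply, ← LinearMap.comp_apply, ← LinearMap.rTensor_comp,
        ← LinearMap.rTensor_comp]
      rfl
    · intro x
      rw [← LinearMap.comp_apply, ← LinearMap.comp_apply, ← LinearMap.rTensor_comp,
        ← LinearMap.rTensor_comp]
      rfl
  have : 𝔞.subtype.rTensor M = ((I ^ j).subtype.rTensor M) ∘ₗ (b.rTensor M) := by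
    rw [← LinearMap.rTensor_comp, Submodule.subtype_comp_inclusion]
  rw [this]
  exact hαj.comp hb'

/-- Descent: if `I ^ n = ⊥`, `(A/I) ⊗ M` is flat over `A/I` and all the maps `I^j ⊗ M → A ⊗ M` are
injective, then `M` is flat over `A`. -/
theorem flat_of_pow_rTensor_injective [Module.Flat (A ⧸ I) ((A ⧸ I) ⊗[A] M)] (n : ℕ)
    (hn : I ^ n = ⊥) (hα : ∀ j, Injective ((I ^ j).subtype.rTensor M)) : Module.Flat A M := by
  have key : ∀ d j : ℕ, j + d = n → ∀ 𝔞 : Ideal A, 𝔞 ≤ I ^ j →
      Injective (𝔞.subtype.rTensor M) := by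
    intro d
    induction d with
    | zero =>
      intro j hj 𝔞 h𝔞
      rw [add_zero] at hj
      rw [hj, hn, le_bot_iff] at h𝔞
      have : Subsingleton ↥𝔞 := by
        rw [h𝔞]
        infer_instance
      exact Function.injective_of_subsingleton _
    | succ d ih =>
      intro j hj 𝔞 h𝔞
      exact step I M j (hα j) (hα (j + 1)) (ih (j + 1) (by omega)) 𝔞 h𝔞
  rw [Module.Flat.iff_rTensor_injective']
  intro 𝔞
  exact key n 0 (by omega) 𝔞 (by rw [pow_zero, Ideal.one_eq_top]; exact le_top)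

end Descent

section KerMap
variable {A : Type u} [CommRing A] (I : Ideal A) (M : Type v) [AddCommGroup M] [Module A M]

/-- Kernel of `I^j ⊗ M → (I^j/I^(j+1)) ⊗ (M/IM)`: it is the image of `I^(j+1) ⊗ M`. -/
theorem mem_range_of_map_eq_zero (j : ℕ) {G : Type w} [AddCommGroup G] [Module A G]
    (g : ↥(I ^ j) →ₗ[A] G) (hg : Surjective g)
    (hker : ∀ p : ↥(I ^ j), g p = 0 ↔ (p : A) ∈ I ^ (j + 1))
    (x : ↥(I ^ j) ⊗[A] M)
    (hx : TensorProduct.map g (I • (⊤ : Submodule A M)).mkQ x = 0) :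
    x ∈ LinearMap.range ((Submodule.inclusion
      (Ideal.pow_le_pow_right (Nat.le_succ j) : I ^ (j + 1) ≤ I ^ j)).rTensor M) := by
  set f2 : ↥(I ^ (j + 1)) →ₗ[A] ↥(I ^ j) := Submodule.inclusion
      (Ideal.pow_le_pow_right (Nat.le_succ j) : I ^ (j + 1) ≤ I ^ j) with hf2
  set L : Submodule A M := I • (⊤ : Submodule A M) with hL
  have hmk := TensorProduct.map_ker (LinearMap.exact_subtype_ker_map g) hg
    (LinearMap.exact_subtype_mkQ L) (Submodule.mkQ_surjective L)
  have hx' : x ∈ LinearMap.ker (TensorProduct.map g L.mkQ) := hx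
  rw [hmk] at hx'
  have h1 : LinearMap.range ((LinearMap.ker g).subtype.rTensor M) ≤
      LinearMap.range (f2.rTensor M) := by
    let κ : ↥(LinearMap.ker g) →ₗ[A] ↥(I ^ (j + 1)) :=
      { toFun := fun k => ⟨((k : ↥(I ^ j)) : A), (hker k).mp k.2⟩
        map_add' := fun _ _ => rfl
        map_smul' := fun _ _ => rfl }
    have : (LinearMap.ker g).subtype = f2 ∘ₗ κ := rfl
    rw [this, LinearMap.rTensor_comp]
    exact LinearMap.range_comp_le_range _ _
  have h2 : LinearMap.range (L.subtype.lTensor ↥(I ^ j)) ≤ LinearMap.range (f2.rTensor M) := by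
    rintro _ ⟨y, rfl⟩
    induction y using TensorProduct.induction_on with
    | zero => rw [map_zero]; exact Submodule.zero_mem _
    | add y z hy hz => rw [map_add]; exact Submodule.add_mem _ hy hz
    | tmul p l =>
      rw [LinearMap.lTensor_tmul, Submodule.subtype_apply]
      obtain ⟨l, hl⟩ := l
      show p ⊗ₜ[A] l ∈ _
      refine Submodule.smul_induction_on
        (p := fun m' : M => p ⊗ₜ[A] m' ∈ LinearMap.range (f2.rTensor M)) hl ?_ ?_
      · intro b hb m _
        have hbp : b * (p : A) ∈ I ^ (j + 1) := by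
          rw [pow_succ']
          exact Ideal.mul_mem_mul hb p.2
        refine ⟨(⟨b * (p : A), hbp⟩ : ↥(I ^ (j + 1))) ⊗ₜ[A] m, ?_⟩
        rw [LinearMap.rTensor_tmul, ← TensorProduct.smul_tmul]
        rfl
      · intro m1 m2 h1 h2
        rw [TensorProduct.tmul_add]
        exact Submodule.add_mem _ h1 h2
  exact (sup_le h2 h1) hx'

/-- One step of the descending induction for the maps `I^j ⊗ M → A ⊗ M`. -/
theorem alpha_step (j : ℕ) (hαj1 : Injective ((I ^ (j + 1)).subtype.rTensor M))
    (hG : ∀ x : ↥(I ^ j) ⊗[A] M, (I ^ j).subtype.rTensor M x = 0 →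
      x ∈ LinearMap.range ((Submodule.inclusion
        (Ideal.pow_le_pow_right (Nat.le_succ j) : I ^ (j + 1) ≤ I ^ j)).rTensor M)) :
    Injective ((I ^ j).subtype.rTensor M) := by
  rw [injective_iff_map_eq_zero]
  intro x hx
  obtain ⟨x', rfl⟩ := hG x hx
  have : (I ^ (j + 1)).subtype.rTensor M x' = 0 := by
    rw [← hx, ← LinearMap.comp_apply, ← LinearMap.rTensor_comp, Submodule.subtype_comp_inclusion]
  rw [hαj1 (this.trans (map_zero _).symm), map_zero]

end KerMap

section Free
variable {A : Type u} [CommRing A] (I : Ideal A) (M : Type v) [AddCommGroup M] [Module A M]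

/-- `I ⊗ M → A ⊗ M` injective implies `IF ⊗ M → F ⊗ M` injective for `F` free. -/
theorem free_case (h3 : Injective (I.subtype.rTensor M)) (S : Type w) :
    Injective ((I • (⊤ : Submodule A (S →₀ A))).subtype.rTensor M) := by
  classical
  let j : (S →₀ ↥I) →ₗ[A] (S →₀ A) := Finsupp.mapRange.linearMap I.subtype
  -- `j ⊗ M` is injective
  have hjM : Injective (j.rTensor M) := by
    let e1 := TensorProduct.finsuppLeft A A ↥I M S
    let e2 := TensorProduct.finsuppLeft A A A M S
    let φ : (S →₀ ↥I ⊗[A] M) →ₗ[A] (S →₀ A ⊗[A] M) :=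
      Finsupp.mapRange.linearMap (I.subtype.rTensor M)
    have hφ : Injective φ := Finsupp.mapRange_injective _ (map_zero _) h3
    have hcomm : ∀ t, e2 (j.rTensor M t) = φ (e1 t) := by
      intro t
      induction t using TensorProduct.induction_on with
      | zero => simp
      | add x y hx hy => simp only [map_add, hx, hy]
      | tmul p m =>
        ext s
        simp [e1, e2, φ, j]
    intro x y hxy
    apply e1.injective
    apply hφ
    rw [← hcomm, ← hcomm, hxy]
  -- `j` factors through `I • ⊤` surjectively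
  have hj_mem : ∀ p, j p ∈ (I • (⊤ : Submodule A (S →₀ A))) := by
    intro p
    induction p using Finsupp.induction_linear with
    | zero => rw [map_zero]; exact Submodule.zero_mem _
    | add f g hf hg => rw [map_add]; exact Submodule.add_mem _ hf hg
    | single s i =>
      have : j (Finsupp.single s i) = (i : A) • Finsupp.single s (1 : A) := by
        simp [j]
      rw [this]
      exact Submodule.smul_mem_smul i.2 Submodule.mem_top
  let j' : (S →₀ ↥I) →ₗ[A] ↥(I • (⊤ : Submodule A (S →₀ A))) := j.codRestrict _ hj_mem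
  have hj' : Surjective j' := by
    have hle : (I • (⊤ : Submodule A (S →₀ A))) ≤ LinearMap.range j := by
      rw [Submodule.smul_le]
      intro a ha f _
      refine ⟨f.mapRange (fun r => (⟨a * r, I.mul_mem_right r ha⟩ : ↥I))
        (Subtype.ext (mul_zero a)), ?_⟩
      ext s
      simp [j]
    rintro ⟨y, hy⟩
    obtain ⟨p, hp⟩ := hle hy
    exact ⟨p, Subtype.ext hp⟩
  have hcomp : j.rTensor M =
      ((I • (⊤ : Submodule A (S →₀ A))).subtype.rTensor M) ∘ₗ (j'.rTensor M) := by
    rw [← LinearMap.rTensor_comp]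
    rfl
  have hj'M : Surjective (j'.rTensor M) := LinearMap.rTensor_surjective M hj'
  intro x y hxy
  obtain ⟨x', rfl⟩ := hj'M x
  obtain ⟨y', rfl⟩ := hj'M y
  have : j.rTensor M x' = j.rTensor M y' := by
    rw [hcomp, LinearMap.comp_apply, LinearMap.comp_apply, hxy]
  rw [hjM this]

end Free

section Q
variable {A : Type u} [CommRing A] (I : Ideal A) (M : Type v) [AddCommGroup M] [Module A M]

/-- Chase: if `F → N` is surjective and `IF ⊗ M → F ⊗ M` is injective then `IN ⊗ M → N ⊗ M` is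
injective. -/
theorem Q_aux [Module.Flat (A ⧸ I) ((A ⧸ I) ⊗[A] M)]
    {N : Type w} [AddCommGroup N] [Module A N] {F : Type*} [AddCommGroup F] [Module A F]
    (π : F →ₗ[A] N) (hπ : Surjective π)
    (h3' : Injective ((I • (⊤ : Submodule A F)).subtype.rTensor M)) :
    Injective ((I • (⊤ : Submodule A N)).subtype.rTensor M) := by
  classical
  let K : Submodule A F := LinearMap.ker π
  let IF : Submodule A F := I • ⊤
  let IN : Submodule A N := I • ⊤
  have hmap : IF.map π = IN := by
    rw [Submodule.map_smul'', Submodule.map_top, LinearMap.range_eq_top.mpr hπ]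
  have hπI : ∀ f : ↥IF, (π.comp IF.subtype) f ∈ IN := by
    intro f
    rw [← hmap]
    exact ⟨f, f.2, rfl⟩
  let πI : ↥IF →ₗ[A] ↥IN := (π.comp IF.subtype).codRestrict IN hπI
  have hπIs : Surjective πI := by
    rintro ⟨y, hy⟩
    rw [← hmap] at hy
    obtain ⟨f, hf, rfl⟩ := hy
    exact ⟨⟨f, hf⟩, rfl⟩
  let KI : Submodule A ↥K := IF.comap K.subtype
  let c : (↥K ⧸ KI) →ₗ[A] (F ⧸ IF) := KI.mapQ IF K.subtype le_rfl
  have hc : Injective c := by
    rw [← LinearMap.ker_eq_bot, Submodule.ker_mapQ, eq_bot_iff, Submodule.map_le_iff_le_comap]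
    intro x hx
    rw [Submodule.mem_comap, Submodule.mem_bot, Submodule.mkQ_apply,
      Submodule.Quotient.mk_eq_zero]
    exact hx
  have hk1 : ∀ i ∈ I, ∀ q : (↥K ⧸ KI), i • q = 0 := by
    intro i hi q
    obtain ⟨k, rfl⟩ := Submodule.Quotient.mk_surjective _ q
    rw [← Submodule.Quotient.mk_smul, Submodule.Quotient.mk_eq_zero]
    show ((i • k : ↥K) : F) ∈ IF
    exact Submodule.smul_mem_smul hi Submodule.mem_top
  have hk2 : ∀ i ∈ I, ∀ q : (F ⧸ IF), i • q = 0 := by
    intro i hi q
    obtain ⟨f, rfl⟩ := Submodule.Quotient.mk_surjective _ q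
    rw [← Submodule.Quotient.mk_smul, Submodule.Quotient.mk_eq_zero]
    exact Submodule.smul_mem_smul hi Submodule.mem_top
  have hcM : Injective (c.rTensor M) := P1 I M hk1 hk2 c hc
  let ι : ↥KI →ₗ[A] ↥IF :=
    { toFun := fun k => ⟨((k : ↥K) : F), k.2⟩
      map_add' := fun _ _ => rfl
      map_smul' := fun _ _ => rfl }
  rw [injective_iff_map_eq_zero]
  intro z hz
  obtain ⟨w, rfl⟩ := LinearMap.rTensor_surjective M hπIs z
  have e1 : π.rTensor M (IF.subtype.rTensor M w) = 0 := by
    rw [← hz]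
    simp only [← LinearMap.comp_apply, ← LinearMap.rTensor_comp]
    rfl
  obtain ⟨v, hv⟩ := (rTensor_exact M (LinearMap.exact_subtype_ker_map π) hπ _).mp e1
  have e2 : (KI.mkQ.rTensor M) v = 0 := by
    apply hcM
    rw [map_zero]
    have h1 : c.rTensor M (KI.mkQ.rTensor M v) = IF.mkQ.rTensor M (K.subtype.rTensor M v) := by
      simp only [← LinearMap.comp_apply, ← LinearMap.rTensor_comp]
      rfl
    rw [h1, hv, ← LinearMap.comp_apply, ← LinearMap.rTensor_comp]
    have : IF.mkQ ∘ₗ IF.subtype = 0 := by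
      ext f : 1
      exact (Submodule.Quotient.mk_eq_zero IF).mpr f.2
    rw [this, LinearMap.rTensor_zero, LinearMap.zero_apply]
  obtain ⟨v', hv'⟩ := (rTensor_exact M (LinearMap.exact_subtype_mkQ KI)
    (Submodule.mkQ_surjective KI) v).mp e2
  have e3 : ι.rTensor M v' = w := by
    apply h3'
    calc IF.subtype.rTensor M (ι.rTensor M v')
        = (K.subtype.rTensor M) (KI.subtype.rTensor M v') := by
          simp only [← LinearMap.comp_apply, ← LinearMap.rTensor_comp]
          rfl
      _ = K.subtype.rTensor M v := by rw [hv']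
      _ = _ := hv
  rw [← e3, ← LinearMap.comp_apply, ← LinearMap.rTensor_comp]
  have : πI ∘ₗ ι = 0 := by
    ext k : 1
    exact Subtype.ext (LinearMap.mem_ker.mp (k : ↥K).2)
  rw [this, LinearMap.rTensor_zero, LinearMap.zero_apply]

/-- `IN ⊗ M → N ⊗ M` is injective for every module `N` (vanishing of `Tor₁(N/IN, M)`). -/
theorem Q [Module.Flat (A ⧸ I) ((A ⧸ I) ⊗[A] M)] (h3 : Injective (I.subtype.rTensor M))
    (N : Type w) [AddCommGroup N] [Module A N] :
    Injective ((I • (⊤ : Submodule A N)).subtype.rTensor M) :=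
  Q_aux I M (Finsupp.linearCombination A (id : N → N))
    (Finsupp.linearCombination_id_surjective A N) (free_case I M h3 N)

end Q

section Main
variable {A : Type u} [CommRing A] (I : Ideal A) (M : Type v) [AddCommGroup M] [Module A M]

theorem mem_smul_top_iff' (j : ℕ) (x : ↥(I ^ j)) :
    x ∈ (I • (⊤ : Submodule A ↥(I ^ j))) ↔ (x : A) ∈ I ^ (j + 1) := by
  have h : (I • (⊤ : Submodule A ↥(I ^ j))).map (I ^ j).subtype = I ^ (j + 1) := by
    rw [Submodule.map_smul'', Submodule.map_subtype_top, smul_eq_mul, ← pow_succ']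
  rw [← h]
  constructor
  · intro hx; exact ⟨x, hx, rfl⟩
  · rintro ⟨x', hx', hxx⟩
    have : x' = x := Subtype.ext hxx
    rwa [← this]

/-- All the maps `I^j ⊗ M → A ⊗ M` are injective as soon as `I ⊗ M → A ⊗ M` is and `M/IM` is flat
over `A/I`. -/
theorem pow_rTensor_injective [Module.Flat (A ⧸ I) ((A ⧸ I) ⊗[A] M)]
    (h3 : Injective (I.subtype.rTensor M)) (j : ℕ) : Injective ((I ^ j).subtype.rTensor M) := by
  induction j with
  | zero =>
    have h0 : I ^ 0 = ⊤ := by rw [pow_zero, Ideal.one_eq_top]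
    rw [h0]
    let e := LinearEquiv.rTensor M (Submodule.topEquiv (R := A) (M := A))
    have : (⊤ : Submodule A A).subtype.rTensor M = e.toLinearMap := by
      refine TensorProduct.ext' fun x m => ?_
      rfl
    rw [this]
    exact e.injective
  | succ j ih =>
    have hle : I ^ (j + 1) ≤ I ^ j := Ideal.pow_le_pow_right (Nat.le_succ j)
    let IN : Submodule A ↥(I ^ j) := I • ⊤
    have hQ : Injective (IN.subtype.rTensor M) := Q I M h3 ↥(I ^ j)
    let ψ : ↥(I ^ (j + 1)) →ₗ[A] ↥IN :=
      { toFun := fun x => ⟨⟨(x : A), hle x.2⟩, (mem_smul_top_iff' I j _).mpr x.2⟩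
        map_add' := fun _ _ => rfl
        map_smul' := fun _ _ => rfl }
    have hψ : Bijective ψ := by
      refine ⟨fun x y hxy => ?_, fun y => ?_⟩
      · have := congrArg (fun z : ↥IN => ((z : ↥(I ^ j)) : A)) hxy
        exact Subtype.ext this
      · exact ⟨⟨((y : ↥(I ^ j)) : A), (mem_smul_top_iff' I j _).mp y.2⟩, rfl⟩
    let ψe := LinearEquiv.ofBijective ψ hψ
    have hψM : Injective (ψ.rTensor M) := by
      have : ψ.rTensor M = (LinearEquiv.rTensor M ψe).toLinearMap := by
        refine TensorProduct.ext' fun x m => ?_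
        rfl
      rw [this]
      exact (LinearEquiv.rTensor M ψe).injective
    have hcomp : (I ^ (j + 1)).subtype.rTensor M =
        ((I ^ j).subtype.rTensor M) ∘ₗ (IN.subtype.rTensor M) ∘ₗ (ψ.rTensor M) := by
      rw [← LinearMap.rTensor_comp, ← LinearMap.rTensor_comp]
      rfl
    rw [hcomp]
    exact ih.comp (hQ.comp hψM)

/-- **Local criterion of flatness, nilpotent case** (Tor-free): if `I` is nilpotent, `(A/I) ⊗ M` is
flat over `A/I` and `I ⊗ M → A ⊗ M` is injective, then `M` is flat over `A`. -/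
theorem flat_of_isNilpotent [Module.Flat (A ⧸ I) ((A ⧸ I) ⊗[A] M)] (hI : IsNilpotent I)
    (h3 : Injective (I.subtype.rTensor M)) : Module.Flat A M := by
  obtain ⟨n, hn⟩ := hI
  exact flat_of_pow_rTensor_injective I M n hn (pow_rTensor_injective I M h3)

end Main

end Groth.Agent.Lib.helper24.NilFlat
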