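import Mathlib

/-!
# Successive approximation in a separated filtered module over a precomplete ring (helper24)
-/

namespace Groth.Agent.Lib.helper24.AdicApprox
universe u v

open Finset

variable {A : Type u} [CommRing A] (I : Ideal A) [IsPrecomplete I A]
  {M : Type v} [AddCommGroup M] [Module A M] (F : I.Filtration M)

/-- Successive approximation: if every element of `M' ∩ Nₙ` is congruent modulo `Nₙ₊₁` to a combination
of the `yᵢ ∈ M' ∩ N_{dᵢ}` with coefficients in `I^(n-dᵢ)`, then every element of `M' ∩ N_{n₀}` IS such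
a combination with coefficients in `I^(n₀-dᵢ)`. -/
theorem approx (hsep : ⨅ n, F.N n = ⊥) (M' : Submodule A M) {ι : Type*} [Fintype ι] (d : ι → ℕ) (y : ι → M)
    (hyM : ∀ i, y i ∈ M') (hy : ∀ i, y i ∈ F.N (d i))
    (H : ∀ n : ℕ, ∀ z : M, z ∈ M' → z ∈ F.N n → ∃ a : ι → A, (∀ i, a i ∈ I ^ (n - d i)) ∧
      z - ∑ i, a i • y i ∈ F.N (n + 1))
    (n0 : ℕ) (z : M) (hzM : z ∈ M') (hz : z ∈ F.N n0) :
    ∃ b : ι → A, (∀ i, b i ∈ I ^ (n0 - d i)) ∧ z = ∑ i, b i • y i := by
  classical
  choose! step hstep1 hstep3 using H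
  -- the sequence of remainders
  let zs : ℕ → M := fun j => Nat.rec z (fun j w => w - ∑ i, step (n0 + j) w i • y i) j
  have zs_zero : zs 0 = z := rfl
  have zs_succ : ∀ j, zs (j + 1) = zs j - ∑ i, step (n0 + j) (zs j) i • y i := fun j => rfl
  have hinv : ∀ j, zs j ∈ M' ∧ zs j ∈ F.N (n0 + j) := by
    intro j
    induction j with
    | zero => exact ⟨hzM, hz⟩
    | succ j ih =>
      refine ⟨?_, ?_⟩
      · rw [zs_succ]
        exact M'.sub_mem ih.1 (M'.sum_mem fun i _ => M'.smul_mem _ (hyM i))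
      · rw [zs_succ, ← add_assoc]
        exact hstep3 (n0 + j) (zs j) ih.1 ih.2
  let c : ℕ → ι → A := fun j i => step (n0 + j) (zs j) i
  have hc1 : ∀ j i, c j i ∈ I ^ (n0 + j - d i) := fun j i => hstep1 (n0 + j) (zs j) (hinv j).1 (hinv j).2 i
  let S : ℕ → ι → A := fun j i => ∑ l ∈ range j, c l i
  have hzsS : ∀ j, zs j = z - ∑ i, S j i • y i := by
    intro j
    induction j with
    | zero => simp [S, zs_zero]
    | succ j ih =>
      have e1 : zs (j + 1) = zs j - ∑ i, c j i • y i := zs_succ j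
      have e2 : ∀ i, S (j + 1) i = S j i + c j i := fun i => Finset.sum_range_succ (fun l => c l i) j
      rw [e1, ih, sub_sub, ← Finset.sum_add_distrib]
      congr 1
      refine Finset.sum_congr rfl fun i _ => ?_
      rw [e2, add_smul]
  -- Cauchy sequences of coefficients
  have hdiff : ∀ i : ι, ∀ m n : ℕ, m ≤ n → S (n + d i) i - S (m + d i) i ∈ I ^ m := by
    intro i m n hmn
    have h1 : S (n + d i) i - S (m + d i) i = ∑ l ∈ Ico (m + d i) (n + d i), c l i := by
      rw [Finset.sum_Ico_eq_sub _ (by omega : m + d i ≤ n + d i)]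
    rw [h1]
    refine Ideal.sum_mem _ fun l hl => ?_
    rw [Finset.mem_Ico] at hl
    exact Ideal.pow_le_pow_right (by omega) (hc1 l i)
  have hcauchy : ∀ i : ι, ∃ L : A, ∀ n, S (n + d i) i - L ∈ I ^ n := by
    intro i
    obtain ⟨L, hL⟩ := IsPrecomplete.prec' (I := I) (M := A) (fun n => S (n + d i) i) (by
      intro m n hmn
      rw [SModEq.sub_mem, smul_eq_mul, Ideal.mul_top]
      have := hdiff i m n hmn
      rw [← neg_sub]
      exact (I ^ m).neg_mem this)
    refine ⟨L, fun n => ?_⟩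
    have := hL n
    rwa [SModEq.sub_mem, smul_eq_mul, Ideal.mul_top] at this
  choose b hb using hcauchy
  refine ⟨b, ?_, ?_⟩
  · -- coefficient bound
    intro i
    have h1 : S (n0 + d i) i ∈ I ^ (n0 - d i) := by
      refine Ideal.sum_mem _ fun l _ => ?_
      exact Ideal.pow_le_pow_right (by omega) (hc1 l i)
    have h2 : S (n0 + d i) i - b i ∈ I ^ (n0 - d i) :=
      Ideal.pow_le_pow_right (by omega) (hb i n0)
    have : b i = S (n0 + d i) i - (S (n0 + d i) i - b i) := by ring
    rw [this]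
    exact (I ^ (n0 - d i)).sub_mem h1 h2
  · -- the limit is z
    rw [← sub_eq_zero]
    have hmem : ∀ j, z - ∑ i, b i • y i ∈ F.N j := by
      intro j
      let D := Finset.univ.sup d
      have hD : ∀ i, d i ≤ D := fun i => Finset.le_sup (Finset.mem_univ i)
      let J := j + D
      have h1 : z - ∑ i, b i • y i = zs J + ∑ i, (S J i - b i) • y i := by
        rw [hzsS J]
        simp only [sub_smul, Finset.sum_sub_distrib]
        abel
      rw [h1]
      refine (F.N j).add_mem ?_ ((F.N j).sum_mem fun i _ => ?_)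
      · exact F.antitone (by omega : j ≤ n0 + J) (hinv J).2
      · have h2 : S J i - b i ∈ I ^ (J - d i) := by
          have := hb i (J - d i)
          rwa [Nat.sub_add_cancel (by have := hD i; omega : d i ≤ J)] at this
        have h3 : (S J i - b i) • y i ∈ F.N (J - d i + d i) :=
          F.pow_smul_le (J - d i) (d i) (Submodule.smul_mem_smul h2 (hy i))
        rw [Nat.sub_add_cancel (by have := hD i; omega : d i ≤ J)] at h3
        exact F.antitone (by omega : j ≤ J) h3
    have : z - ∑ i, b i • y i ∈ ⨅ n, F.N n := by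
      rw [Submodule.mem_iInf]
      exact hmem
    rwa [hsep, Submodule.mem_bot] at this

/-- Summation of an `I`-adically convergent series with a shift `d`. -/
theorem series (c : ℕ → A) (d : ℕ) (hc : ∀ l, c l ∈ I ^ (l - d)) :
    ∃ B : A, ∀ J, (∑ l ∈ range J, c l) - B ∈ I ^ (J - d) := by
  obtain ⟨L, hL⟩ := IsPrecomplete.prec' (I := I) (M := A) (fun n => ∑ l ∈ range (n + d), c l) (by
    intro m n hmn
    rw [SModEq.sub_mem, smul_eq_mul, Ideal.mul_top]
    have h1 : (∑ l ∈ range (n + d), c l) - ∑ l ∈ range (m + d), c l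
        = ∑ l ∈ Ico (m + d) (n + d), c l := by
      rw [Finset.sum_Ico_eq_sub _ (by omega : m + d ≤ n + d)]
    rw [← neg_sub, h1]
    refine (I ^ m).neg_mem (Ideal.sum_mem _ fun l hl => ?_)
    rw [Finset.mem_Ico] at hl
    exact Ideal.pow_le_pow_right (by omega) (hc l))
  refine ⟨L, fun J => ?_⟩
  by_cases hJ : d ≤ J
  · have := hL (J - d)
    rw [SModEq.sub_mem, smul_eq_mul, Ideal.mul_top, Nat.sub_add_cancel hJ] at this
    exact this
  · rw [Nat.sub_eq_zero_of_le (by omega), pow_zero, Ideal.one_eq_top]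
    trivial

/-- Under the hypotheses of `approx`, the submodule `M'` is closed for the topology of the
filtration. -/
theorem mem_of_forall_mem_sup (hsep : ⨅ n, F.N n = ⊥) (M' : Submodule A M) {ι : Type*} [Fintype ι]
    (d : ι → ℕ) (y : ι → M)
    (hyM : ∀ i, y i ∈ M') (hy : ∀ i, y i ∈ F.N (d i))
    (H : ∀ n : ℕ, ∀ z : M, z ∈ M' → z ∈ F.N n → ∃ a : ι → A, (∀ i, a i ∈ I ^ (n - d i)) ∧
      z - ∑ i, a i • y i ∈ F.N (n + 1))
    (w : M) (hw : ∀ n, w ∈ M' ⊔ F.N n) : w ∈ M' := by
  classical
  have h1 : ∀ n, ∃ z ∈ M', w - z ∈ F.N n := by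
    intro n
    obtain ⟨z, hz, r, hr, hzr⟩ := Submodule.mem_sup.mp (hw n)
    refine ⟨z, hz, ?_⟩
    rw [← hzr, add_sub_cancel_left]
    exact hr
  choose z hzM hzw using h1
  have hu : ∀ n, ∃ b : ι → A, (∀ i, b i ∈ I ^ (n - d i)) ∧ z (n + 1) - z n = ∑ i, b i • y i := by
    intro n
    refine approx I F hsep M' d y hyM hy H n _ (M'.sub_mem (hzM _) (hzM _)) ?_
    have : z (n + 1) - z n = (w - z n) - (w - z (n + 1)) := by abel
    rw [this]
    exact (F.N n).sub_mem (hzw n) (F.antitone (Nat.le_succ n) (hzw (n + 1)))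
  choose b hb1 hb2 using hu
  have hser : ∀ i, ∃ B : A, ∀ J, (∑ l ∈ range J, b l i) - B ∈ I ^ (J - d i) :=
    fun i => series I (fun l => b l i) (d i) (fun l => hb1 l i)
  choose B hB using hser
  have hzJ : ∀ J, z J = z 0 + ∑ i, (∑ l ∈ range J, b l i) • y i := by
    intro J
    induction J with
    | zero => simp
    | succ J ih =>
      have e : z (J + 1) = z J + ∑ i, b J i • y i := by rw [← hb2 J]; abel
      rw [e, ih, add_assoc, ← Finset.sum_add_distrib]
      congr 1
      refine Finset.sum_congr rfl fun i _ => ?_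
      rw [Finset.sum_range_succ, add_smul]
  have hfin : w = z 0 + ∑ i, B i • y i := by
    rw [← sub_eq_zero]
    have hmem : ∀ j, w - (z 0 + ∑ i, B i • y i) ∈ F.N j := by
      intro j
      let D := Finset.univ.sup d
      have hD : ∀ i, d i ≤ D := fun i => Finset.le_sup (Finset.mem_univ i)
      let J := j + D
      have e : w - (z 0 + ∑ i, B i • y i)
          = (w - z J) + ∑ i, ((∑ l ∈ range J, b l i) - B i) • y i := by
        rw [hzJ J]
        simp only [sub_smul, Finset.sum_sub_distrib]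
        abel
      rw [e]
      refine (F.N j).add_mem (F.antitone (by omega : j ≤ J) (hzw J))
        ((F.N j).sum_mem fun i _ => ?_)
      have h3 : ((∑ l ∈ range J, b l i) - B i) • y i ∈ F.N (J - d i + d i) :=
        F.pow_smul_le (J - d i) (d i) (Submodule.smul_mem_smul (hB i J) (hy i))
      rw [Nat.sub_add_cancel (by have := hD i; omega : d i ≤ J)] at h3
      exact F.antitone (by omega : j ≤ J) h3
    have : w - (z 0 + ∑ i, B i • y i) ∈ ⨅ n, F.N n := by
      rw [Submodule.mem_iInf]
      exact hmem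
    rwa [hsep, Submodule.mem_bot] at this
  rw [hfin]
  exact M'.add_mem (hzM 0) (M'.sum_mem fun i _ => M'.smul_mem _ (hyM i))

end Groth.Agent.Lib.helper24.AdicApprox
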