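import Mathlib
import Groth.Prelude.Def_FSch3
set_option autoImplicit false
set_option linter.style.haveILetI false
universe u

namespace Groth.Agent.Lib.helper24.AdicUnit

variable {R : Type u} [CommRing R] (I : Ideal R)

/-- In `R ⧸ I^n`, an element whose image in `R ⧸ I^1` is a unit is a unit. -/
theorem isUnit_mk_pow_of_isUnit_mk_one (r : R) (n : ℕ)
    (h : IsUnit (Ideal.Quotient.mk (I ^ 1) r)) : IsUnit (Ideal.Quotient.mk (I ^ n) r) := by
  obtain ⟨u, hu⟩ := h
  obtain ⟨s, hs⟩ := Ideal.Quotient.mk_surjective (u⁻¹ : (R ⧸ I ^ 1)ˣ).val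
  have h1 : Ideal.Quotient.mk (I ^ 1) (r * s - 1) = 0 := by
    rw [map_sub, map_mul, map_one, hs, ← hu, Units.mul_inv, sub_self]
  have ht : r * s - 1 ∈ I := by
    have := Ideal.Quotient.eq_zero_iff_mem.mp h1
    simpa using this
  set t := r * s - 1 with htdef
  have hnil : IsNilpotent (Ideal.Quotient.mk (I ^ n) t) :=
    ⟨n, by rw [← map_pow]; exact Ideal.Quotient.eq_zero_iff_mem.mpr (Ideal.pow_mem_pow ht n)⟩
  have hrs : Ideal.Quotient.mk (I ^ n) r * Ideal.Quotient.mk (I ^ n) s =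
      1 + Ideal.Quotient.mk (I ^ n) t := by
    rw [htdef, map_sub, map_mul, map_one]; ring
  have hun : IsUnit (Ideal.Quotient.mk (I ^ n) r * Ideal.Quotient.mk (I ^ n) s) := by
    rw [hrs, add_comm]; exact hnil.isUnit_add_one
  exact isUnit_of_mul_isUnit_left hun

theorem isUnit_evalₐ_of_isUnit_evalₐ_one (x : AdicCompletion I R)
    (h : IsUnit (AdicCompletion.evalₐ I 1 x)) (n : ℕ) : IsUnit (AdicCompletion.evalₐ I n x) := by
  obtain ⟨c, rfl⟩ := AdicCompletion.mk_surjective I R x
  rw [AdicCompletion.evalₐ_mk] at h ⊢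
  by_cases hn : n = 0
  · subst hn
    haveI : Subsingleton (R ⧸ I ^ 0) := by
      rw [pow_zero]; exact Ideal.Quotient.subsingleton_iff.mpr Ideal.one_eq_top
    exact isUnit_of_subsingleton _
  have h1n : 1 ≤ n := Nat.one_le_iff_ne_zero.mpr hn
  have h2 : Ideal.Quotient.mk (I ^ 1) (c.val 1) = Ideal.Quotient.mk (I ^ 1) (c.val n) := by
    rw [Ideal.Quotient.eq]
    have hc := c.2 h1n
    rw [SModEq.sub_mem] at hc
    simpa using hc
  rw [h2] at h
  exact isUnit_mk_pow_of_isUnit_mk_one I (c.val n) n h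

/-- An element of the adic completion whose image in `R ⧸ I` is a unit is a unit. -/
theorem isUnit_of_isUnit_evalₐ_one (x : AdicCompletion I R)
    (h : IsUnit (AdicCompletion.evalₐ I 1 x)) : IsUnit x := by
  have hu : ∀ n, IsUnit (x.val n) := by
    intro n
    have h1 := isUnit_evalₐ_of_isUnit_evalₐ_one I x h n
    have h2 := AdicCompletion.factor_evalₐ_eq_eval (I := I) (n := n) x (by simp)
    have h3 : AdicCompletion.eval I R n x = x.val n := rfl
    rw [← h3, ← h2]
    exact h1.map _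
  let y : AdicCompletion I R := ⟨fun n => Ring.inverse (x.val n), by
    intro m n hmn
    have hx : AdicCompletion.transitionMap I R hmn (x.val n) = x.val m := x.2 hmn
    have e1 : AdicCompletion.transitionMap I R hmn (Ring.inverse (x.val n)) * x.val m = 1 := by
      rw [← hx, ← AdicCompletion.transitionMap_map_mul, Ring.inverse_mul_cancel _ (hu n),
        AdicCompletion.transitionMap_map_one]
    calc AdicCompletion.transitionMap I R hmn (Ring.inverse (x.val n))
        = AdicCompletion.transitionMap I R hmn (Ring.inverse (x.val n)) *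
            (x.val m * Ring.inverse (x.val m)) := by
          rw [Ring.mul_inverse_cancel _ (hu m), mul_one]
      _ = Ring.inverse (x.val m) := by rw [← mul_assoc, e1, one_mul]⟩
  refine IsUnit.of_mul_eq_one y ?_
  apply AdicCompletion.ext
  intro n
  rw [AdicCompletion.val_mul, AdicCompletion.val_one]
  exact Ring.mul_inverse_cancel _ (hu n)

theorem isUnit_iff_isUnit_evalₐ_one (x : AdicCompletion I R) :
    IsUnit x ↔ IsUnit (AdicCompletion.evalₐ I 1 x) :=
  ⟨fun h => h.map _, isUnit_of_isUnit_evalₐ_one I x⟩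


/-- For a local ring `C` and `K ≤ 𝔪`, units of `C ⧸ K^1` come from units. -/
theorem isUnit_mk_one_iff {C : Type u} [CommRing C] [IsLocalRing C] (K : Ideal C)
    (hK : K ≤ IsLocalRing.maximalIdeal C) (c : C) :
    IsUnit (Ideal.Quotient.mk (K ^ 1) c) ↔ IsUnit c := by
  refine ⟨fun h => ?_, fun h => h.map _⟩
  by_contra hc
  have hcm : c ∈ IsLocalRing.maximalIdeal C := (IsLocalRing.mem_maximalIdeal c).mpr hc
  obtain ⟨u, hu⟩ := h
  obtain ⟨d, hd⟩ := Ideal.Quotient.mk_surjective (u⁻¹ : (C ⧸ K ^ 1)ˣ).val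
  have h1 : Ideal.Quotient.mk (K ^ 1) (c * d - 1) = 0 := by
    rw [map_sub, map_mul, map_one, hd, ← hu, Units.mul_inv, sub_self]
  have ht : c * d - 1 ∈ IsLocalRing.maximalIdeal C := by
    have := Ideal.Quotient.eq_zero_iff_mem.mp h1
    rw [pow_one] at this
    exact hK this
  have h2 : (1 : C) ∈ IsLocalRing.maximalIdeal C := by
    have h3 := (IsLocalRing.maximalIdeal C).sub_mem
      ((IsLocalRing.maximalIdeal C).mul_mem_right d hcm) ht
    simp at h3
  exact (IsLocalRing.maximalIdeal.isMaximal C).ne_top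
    ((Ideal.eq_top_iff_one _).mpr h2)

theorem isLocalRing {C : Type u} [CommRing C] [IsLocalRing C] (K : Ideal C)
    (hK : K ≤ IsLocalRing.maximalIdeal C) : IsLocalRing (AdicCompletion K C) := by
  have hK1 : K ^ 1 ≠ ⊤ := by
    rw [pow_one]
    exact ne_top_of_le_ne_top (IsLocalRing.maximalIdeal.isMaximal C).ne_top hK
  haveI : Nontrivial (C ⧸ K ^ 1) := Ideal.Quotient.nontrivial_iff.mpr hK1
  haveI : IsLocalRing (C ⧸ K ^ 1) :=
    IsLocalRing.of_surjective' (Ideal.Quotient.mk _) Ideal.Quotient.mk_surjective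
  haveI : Nontrivial (AdicCompletion K C) :=
    (AdicCompletion.evalₐ K 1).toRingHom.domain_nontrivial
  refine IsLocalRing.of_isUnit_or_isUnit_of_isUnit_add (fun a b hab => ?_)
  rw [isUnit_iff_isUnit_evalₐ_one] at hab
  rw [isUnit_iff_isUnit_evalₐ_one, isUnit_iff_isUnit_evalₐ_one K b]
  rw [map_add] at hab
  exact IsLocalRing.isUnit_or_isUnit_of_isUnit_add hab

section ComplMap

variable {S T U : Type u} [CommRing S] [CommRing T] [CommRing U]

theorem evalₐ_complMap (I : Ideal S) (K : Ideal T) (g : S →+* T) (h : I.map g ≤ K) (n : ℕ)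
    (z : AdicCompletion I S) :
    AdicCompletion.evalₐ K n (FSch.complMap I K g h z) =
      Ideal.quotientMap (K ^ n) g (FSch.pow_le_comap_pow_of_map_le I K g h n)
        (AdicCompletion.evalₐ I n z) := by
  unfold FSch.complMap
  refine @AdicCompletion.evalₐ_liftRingHom _ _ _ _ K _ ?_ n z
  intro m n hle
  apply RingHom.ext
  intro x
  obtain ⟨y, rfl⟩ := AdicCompletion.mk_surjective I S x
  simp only [RingHom.coe_comp, Function.comp_apply, AlgHom.toRingHom_eq_coe, AlgHom.coe_toRingHom,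
    AdicCompletion.evalₐ_mk, Ideal.quotientMap_mk, Ideal.Quotient.factorPow, Ideal.Quotient.factor_mk]
  rw [Ideal.Quotient.eq]
  have hy := y.2 hle
  rw [SModEq.sub_mem] at hy
  simp only [smul_eq_mul, Ideal.mul_top] at hy
  rw [← map_sub]
  have hy' : (y : ℕ → S) n - (y : ℕ → S) m ∈ I ^ m := by
    rw [← neg_sub]; exact (I ^ m).neg_mem hy
  exact FSch.pow_le_comap_pow_of_map_le I K g h m hy'

theorem evalₐ_complMap_of_eq (I : Ideal S) (K : Ideal T) (g : S →+* T) (h : I.map g ≤ K) (n : ℕ)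
    (z : AdicCompletion I S) (s : S) (hz : AdicCompletion.evalₐ I n z = Ideal.Quotient.mk _ s) :
    AdicCompletion.evalₐ K n (FSch.complMap I K g h z) = Ideal.Quotient.mk _ (g s) := by
  rw [evalₐ_complMap, hz, Ideal.quotientMap_mk]

theorem complMap_of (I : Ideal S) (K : Ideal T) (g : S →+* T) (h : I.map g ≤ K) (s : S) :
    FSch.complMap I K g h (AdicCompletion.of I S s) = AdicCompletion.of K T (g s) := by
  apply AdicCompletion.ext_evalₐ
  intro n
  rw [evalₐ_complMap_of_eq I K g h n _ s (AdicCompletion.evalₐ_of I n s), AdicCompletion.evalₐ_of]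

theorem complMap_comp (I : Ideal S) (K : Ideal T) (L : Ideal U) (g₁ : S →+* T) (g₂ : T →+* U)
    (h₁ : I.map g₁ ≤ K) (h₂ : K.map g₂ ≤ L) (h₃ : I.map (g₂.comp g₁) ≤ L)
    (z : AdicCompletion I S) :
    FSch.complMap K L g₂ h₂ (FSch.complMap I K g₁ h₁ z) = FSch.complMap I L (g₂.comp g₁) h₃ z := by
  apply AdicCompletion.ext_evalₐ
  intro n
  obtain ⟨s, hs⟩ := Ideal.Quotient.mk_surjective (AdicCompletion.evalₐ I n z)
  rw [evalₐ_complMap_of_eq K L g₂ h₂ n _ (g₁ s) (evalₐ_complMap_of_eq I K g₁ h₁ n z s hs.symm),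
    evalₐ_complMap_of_eq I L (g₂.comp g₁) h₃ n z s hs.symm]
  rfl

end ComplMap

end Groth.Agent.Lib.helper24.AdicUnit
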