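import Mathlib
import Groth.Prelude.Def_CartDual
import Groth.Prelude.Def_AlphaP

/-!
# The dual of the Hopf algebra of α_p: the functional ξ dual to x, and its convolution powers
(helper24) Lemmas used for S16071–S16075.
-/

namespace Groth.Agent.Lib.helper24.AlphaPDual
universe u v
open CartDual
open scoped TensorProduct

section General
variable (R : Type u) [CommRing R] (A : Type v) [Ring A] [Bialgebra R A]

theorem one_apply (a : A) : (1 : D R A) a = Coalgebra.counit (R := R) a := by
  simp [LinearMap.convOne_def]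

theorem sum_apply {ι : Type*} (s : Finset ι) (f : ι → D R A) (a : A) :
    (∑ i ∈ s, f i) a = ∑ i ∈ s, f i a := by
  show (toDual R A (∑ i ∈ s, f i)) a = _
  rw [map_sum, LinearMap.sum_apply]
  rfl

theorem smul_apply (r : R) (f : D R A) (a : A) : (r • f) a = r * f a := rfl

theorem add_apply (f g : D R A) (a : A) : (f + g) a = f a + g a := rfl

theorem zero_apply (a : A) : (0 : D R A) a = 0 := rfl

theorem apply_zero (f : D R A) : f (0 : A) = 0 := by
  show f.ofConv 0 = 0
  rw [map_zero]

/-- On a group-like element, convolution of functionals is the product of the values. -/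
theorem mul_apply_of_grouplike (f g : D R A) {u : A} (hu : Coalgebra.comul (R := R) u = u ⊗ₜ[R] u) :
    (f * g) u = f u * g u := by
  rw [LinearMap.convMul_apply, hu]
  rfl

theorem pow_apply_of_grouplike (f : D R A) {u : A} (hu : Coalgebra.comul (R := R) u = u ⊗ₜ[R] u)
    (hu1 : Coalgebra.counit (R := R) u = 1) (n : ℕ) :
    (f ^ n) u = f u ^ n := by
  induction n with
  | zero => rw [pow_zero, pow_zero, one_apply, hu1]
  | succ n ih => rw [pow_succ, pow_succ, mul_apply_of_grouplike R A _ _ hu, ih]

/-- On a primitive element. -/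
theorem mul_apply_of_primitive (f g : D R A) {a : A}
    (ha : Coalgebra.comul (R := R) a = a ⊗ₜ[R] 1 + 1 ⊗ₜ[R] a) :
    (f * g) a = f a * g 1 + f 1 * g a := by
  rw [LinearMap.convMul_apply, ha, map_add, map_add]
  rfl

end General

section
variable (p : ℕ) [hp : Fact p.Prime] (R : Type u) [CommRing R]

include hp in
theorem nontrivial_of_charP [CharP R p] : Nontrivial R :=
  CharP.nontrivial_of_char_ne_one (R := R) (Fact.out : p.Prime).ne_one

variable [CharP R p]

/-- The functional dual to `x` for the basis `1, x, …, x^(p-1)`. -/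
noncomputable def xi : D R (AlphaP.A p R) :=
  haveI := nontrivial_of_charP p R
  WithConv.toConv ((AlphaP.basis p R).coord ⟨1, (Fact.out : p.Prime).one_lt⟩)

theorem xi_apply_x_pow (i : ℕ) : xi p R (AlphaP.x p R ^ i) = if i = 1 then 1 else 0 := by
  have := nontrivial_of_charP p R
  by_cases hi : i < p
  · have h1 : AlphaP.x p R ^ i = AlphaP.basis p R ⟨i, hi⟩ := by simp
    show (AlphaP.basis p R).coord ⟨1, (Fact.out : p.Prime).one_lt⟩ (AlphaP.x p R ^ i) = _
    rw [h1, Module.Basis.coord_apply, Module.Basis.repr_self, Finsupp.single_apply]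
    simp [Fin.ext_iff]
  · rw [AlphaP.x_pow_of_le p R (not_lt.mp hi), apply_zero]
    have : i ≠ 1 := by have := (Fact.out : p.Prime).one_lt; omega
    simp [this]

theorem comul_x_pow (m : ℕ) :
    Coalgebra.comul (R := R) (AlphaP.x p R ^ m) =
      ∑ k ∈ Finset.range (m + 1),
        (m.choose k : R) • ((AlphaP.x p R ^ k) ⊗ₜ[R] (AlphaP.x p R ^ (m - k))) := by
  rw [Bialgebra.comul_pow, AlphaP.comul_x, add_pow]
  refine Finset.sum_congr rfl fun k _ => ?_
  rw [Algebra.TensorProduct.tmul_pow, Algebra.TensorProduct.tmul_pow, one_pow, one_pow,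
    Algebra.TensorProduct.tmul_mul_tmul, mul_one, one_mul, mul_comm, ← nsmul_eq_mul,
    Nat.cast_smul_eq_nsmul]

theorem xi_pow_apply_x_pow (n m : ℕ) :
    (xi p R ^ n) (AlphaP.x p R ^ m) = if m = n then (n.factorial : R) else 0 := by
  induction n generalizing m with
  | zero =>
    rw [pow_zero, one_apply, Bialgebra.counit_pow, AlphaP.counit_x]
    cases m <;> simp
  | succ n ih =>
    rw [pow_succ, LinearMap.convMul_apply, comul_x_pow, map_sum, map_sum]
    simp only [map_smul, TensorProduct.map_tmul, LinearMap.mul'_apply]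
    simp only [ih, xi_apply_x_pow]
    by_cases hm : m = n + 1
    · subst hm
      rw [if_pos rfl, Finset.sum_eq_single n]
      · have h1 : n + 1 - n = 1 := by omega
        rw [if_pos rfl, if_pos h1, mul_one, Nat.choose_succ_self_right, Nat.factorial_succ,
          Nat.cast_mul, smul_eq_mul]
      · intro k _ hk
        rw [if_neg hk, zero_mul, smul_zero]
      · intro h
        exact absurd (Finset.mem_range.mpr (by omega)) h
    · rw [if_neg hm]
      apply Finset.sum_eq_zero
      intro k hk
      have hk' := Finset.mem_range.mp hk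
      by_cases h1 : k = n
      · have h2 : ¬ (m - k = 1) := by omega
        rw [if_neg h2, mul_zero, smul_zero]
      · rw [if_neg h1, zero_mul, smul_zero]

theorem xi_apply_one : xi p R (1 : AlphaP.A p R) = 0 := by
  have := xi_apply_x_pow p R 0
  rwa [pow_zero, if_neg (by norm_num)] at this

theorem xi_apply_x : xi p R (AlphaP.x p R) = 1 := by
  have := xi_apply_x_pow p R 1
  rwa [pow_one, if_pos rfl] at this

/-- Two functionals on `A p R` agreeing on the powers `x ^ i`, `i < p`, are equal. -/
theorem D_ext {f g : D R (AlphaP.A p R)}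
    (h : ∀ i : ℕ, i < p → f (AlphaP.x p R ^ i) = g (AlphaP.x p R ^ i)) : f = g := by
  have := nontrivial_of_charP p R
  apply WithConv.ext
  apply (AlphaP.basis p R).ext
  intro i
  rw [AlphaP.basis_apply]
  exact h i i.2

theorem xi_pow_p : xi p R ^ p = 0 := by
  apply D_ext
  intro i hi
  rw [xi_pow_apply_x_pow, if_neg (by omega)]
  rfl

omit hp [CharP R p] in
theorem apply_smul (f : D R (AlphaP.A p R)) (r : R) (a : AlphaP.A p R) : f (r • a) = r * f a := by
  show f.ofConv (r • a) = r * f.ofConv a
  rw [map_smul, smul_eq_mul]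

omit hp [CharP R p] in
theorem apply_sum {ι : Type*} (f : D R (AlphaP.A p R)) (s : Finset ι) (a : ι → AlphaP.A p R) :
    f (∑ i ∈ s, a i) = ∑ i ∈ s, f (a i) := by
  show f.ofConv (∑ i ∈ s, a i) = ∑ i ∈ s, f.ofConv (a i)
  rw [map_sum]

theorem xi_pow_apply_sum (c : Fin p → R) (n : Fin p) :
    (xi p R ^ (n : ℕ)) (∑ i : Fin p, c i • AlphaP.x p R ^ (i : ℕ)) =
      c n * ((n : ℕ).factorial : R) := by
  rw [apply_sum, Finset.sum_eq_single n]
  · rw [apply_smul, xi_pow_apply_x_pow, if_pos rfl]
  · intro i _ hin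
    rw [apply_smul, xi_pow_apply_x_pow, if_neg, mul_zero]
    intro h
    exact hin (Fin.ext h)
  · intro h; exact absurd (Finset.mem_univ n) h

theorem isUnit_factorial {n : ℕ} (hn : n < p) : IsUnit (n.factorial : R) :=
  (IsUnit.natCast_factorial_iff_of_charP p).mpr hn

/-- An element of `A p R` killed by all `ξ ^ n`, `n < p`, is zero. -/
theorem eq_zero_of_xi_pow_apply {a : AlphaP.A p R} (h : ∀ n : ℕ, n < p → (xi p R ^ n) a = 0) :
    a = 0 := by
  have := nontrivial_of_charP p R
  rw [← (AlphaP.basis p R).sum_repr a] at h ⊢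
  simp only [AlphaP.basis_apply] at h ⊢
  apply Finset.sum_eq_zero
  intro j _
  have h1 := xi_pow_apply_sum p R (fun i => (AlphaP.basis p R).repr a i) j
  rw [h j j.2] at h1
  have h2 := (isUnit_factorial p R j.2).mul_left_eq_zero.mp h1.symm
  rw [h2, zero_smul]

/-- `ξ ^ n` vanishes on primitive elements for `2 ≤ n`. -/
theorem xi_pow_apply_of_primitive {a : AlphaP.A p R}
    (ha : Coalgebra.comul (R := R) a = a ⊗ₜ[R] 1 + 1 ⊗ₜ[R] a) {n : ℕ} (hn : 2 ≤ n) :
    (xi p R ^ n) a = 0 := by
  obtain ⟨k, rfl⟩ : ∃ k, n = (k + 1) + 1 := ⟨n - 2, by omega⟩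
  rw [pow_succ, mul_apply_of_primitive R _ _ _ ha, xi_apply_one, mul_zero, zero_add]
  have h1 := xi_pow_apply_x_pow p R (k + 1) 0
  rw [pow_zero, if_neg (by omega)] at h1
  rw [h1, zero_mul]

/-- A primitive element of `A p R` is a multiple of `x`. -/
theorem eq_smul_x_of_primitive {a : AlphaP.A p R}
    (ha : Coalgebra.comul (R := R) a = a ⊗ₜ[R] 1 + 1 ⊗ₜ[R] a)
    (ha0 : Coalgebra.counit (R := R) a = 0) : a = (xi p R a) • AlphaP.x p R := by
  rw [← sub_eq_zero]
  apply eq_zero_of_xi_pow_apply
  intro n hn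
  have hsub : ∀ f : D R (AlphaP.A p R), f (a - (xi p R a) • AlphaP.x p R) =
      f a - xi p R a * f (AlphaP.x p R) := by
    intro f
    show f.ofConv (a - (xi p R a) • AlphaP.x p R) = f.ofConv a - xi p R a * f.ofConv (AlphaP.x p R)
    rw [map_sub, map_smul, smul_eq_mul]
  rw [hsub]
  rcases n with _ | _ | n
  · rw [pow_zero, one_apply, one_apply, ha0, AlphaP.counit_x, mul_zero, sub_zero]
  · rw [zero_add, pow_one, xi_apply_x, mul_one, sub_self]
  · have hx := xi_pow_apply_x_pow p R (n + 1 + 1) 1
    rw [pow_one, if_neg (by omega)] at hx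
    rw [xi_pow_apply_of_primitive p R ha (by omega), hx, mul_zero, sub_zero]

/-- In characteristic `p`, a linear combination of elements with vanishing `p`-th power has
vanishing `p`-th power. -/
theorem sum_mul_pow_p_eq_zero {ι : Type*} (s : Finset ι) (c a : ι → R) (ha : ∀ i ∈ s, a i ^ p = 0) :
    (∑ i ∈ s, c i * a i) ^ p = 0 := by
  rw [sum_pow_char p]
  apply Finset.sum_eq_zero
  intro i hi
  rw [mul_pow, ha i hi, mul_zero]

theorem sub_pow_p_eq_zero {a b : R} (ha : a ^ p = 0) (hb : b ^ p = 0) : (a - b) ^ p = 0 := by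
  rw [sub_pow_char, ha, hb, sub_zero]

include hp in
theorem one_pow_p_ne_zero : (1 : R) ^ p ≠ 0 := by
  have := nontrivial_of_charP p R
  rw [one_pow]
  exact one_ne_zero

/-- A linear form whose values on a spanning family are `p`-nilpotent cannot take the value `1`
(in characteristic `p`, where the `p`-nilpotent elements form an ideal and `R ≠ 0`). -/
theorem false_of_span_of_pow_eq_zero {B : Type*} [AddCommGroup B] [Module R B] (lam : B →ₗ[R] R)
    {ι : Type*} (v : ι → B) (hv : Submodule.span R (Set.range v) = ⊤)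
    (h : ∀ i, lam (v i) ^ p = 0) (a : B) (ha : lam a = 1) : False := by
  let N : Ideal R := RingHom.ker (frobenius R p)
  have hle : Submodule.span R (Set.range v) ≤ Submodule.comap lam N := by
    rw [Submodule.span_le]
    rintro _ ⟨i, rfl⟩
    show lam (v i) ∈ N
    rw [RingHom.mem_ker, frobenius_def]
    exact h i
  have hmem : a ∈ Submodule.comap lam N := hle (hv ▸ Submodule.mem_top)
  have h1 : lam a ∈ N := hmem
  rw [RingHom.mem_ker, frobenius_def, ha] at h1
  exact one_pow_p_ne_zero p R h1

end

end Groth.Agent.Lib.helper24.AlphaPDual
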