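import Mathlib
import Groth.Agent.Lib.helper21.LocalCrit
import Groth.Agent.Lib.helper24.ArtinReg

/-!
# Submodules with flat quotient, modulo a nilpotent ideal (helper24)

* `mem_smul_top_of_flat_quot`: `I ≤ A` with `A/I` flat over `C`; then `I ∩ 𝔞A = 𝔞I`.
* `le_of_le_sup_smul`: `I'' ≤ I ≤ I'' + 𝔫A` with `𝔫` nilpotent and `A/I` flat imply `I ≤ I''`.
-/

set_option autoImplicit false
set_option linter.style.haveILetI false
universe u

namespace Groth.Agent.Lib.helper24.ArtinReg

open TensorProduct Function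

section
variable {C : Type u} [CommRing C] {A : Type u} [AddCommGroup A] [Module C A]

theorem mem_smul_top_of_flat_quot (I : Submodule C A) [Module.Flat C (A ⧸ I)] (𝔞 : Ideal C)
    (z : I) (hz : (z : A) ∈ 𝔞 • (⊤ : Submodule C A)) : z ∈ 𝔞 • (⊤ : Submodule C I) := by
  have hinj := LinearMap.lTensor_injective_of_exact_of_flat I.mkQ (Submodule.mkQ_surjective I)
    I.subtype (Submodule.injective_subtype I) (LinearMap.exact_subtype_mkQ I) (C ⧸ 𝔞)
  rw [← Groth.Agent.H21.one_tmul_eq_zero_iff]
  apply hinj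
  rw [map_zero, LinearMap.lTensor_tmul, Groth.Agent.H21.one_tmul_eq_zero_iff]
  exact hz

theorem le_of_le_sup_smul (I I'' : Submodule C A) [Module.Flat C (A ⧸ I)] (𝔫 : Ideal C)
    (hnil : IsNilpotent 𝔫) (h1 : I'' ≤ I) (h2 : I ≤ I'' ⊔ 𝔫 • (⊤ : Submodule C A)) : I ≤ I'' := by
  have key : ∀ j : ℕ, I ≤ I'' ⊔ 𝔫 ^ j • (⊤ : Submodule C A) := by
    intro j
    induction j with
    | zero =>
      rw [pow_zero, Ideal.one_eq_top, Submodule.top_smul]
      exact le_sup_of_le_right le_top
    | succ j ih =>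
      intro x hx
      obtain ⟨y, hy, z, hz, hyz⟩ := Submodule.mem_sup.mp (ih hx)
      have hzI : z ∈ I := by
        have : z = x - y := by rw [← hyz]; abel
        rw [this]
        exact Submodule.sub_mem _ hx (h1 hy)
      have hz' := mem_smul_top_of_flat_quot I (𝔫 ^ j) ⟨z, hzI⟩ hz
      have hz'' : z ∈ I'' ⊔ 𝔫 ^ (j + 1) • (⊤ : Submodule C A) := by
        refine Submodule.smul_induction_on
          (p := fun w : I => (w : A) ∈ I'' ⊔ 𝔫 ^ (j + 1) • (⊤ : Submodule C A)) hz' ?_ ?_
        · intro c hc w _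
          obtain ⟨y', hy', z', hz', hw⟩ := Submodule.mem_sup.mp (h2 w.2)
          rw [Submodule.coe_smul, ← hw, smul_add]
          refine Submodule.add_mem _ (Submodule.mem_sup_left (Submodule.smul_mem _ c hy'))
            (Submodule.mem_sup_right ?_)
          rw [pow_succ, Submodule.mul_smul]
          exact Submodule.smul_mem_smul hc hz'
        · intro w w' hw hw'
          rw [Submodule.coe_add]
          exact Submodule.add_mem _ hw hw'
      rw [← hyz]
      exact Submodule.add_mem _ (Submodule.mem_sup_left hy) hz''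
  obtain ⟨n, hn⟩ := hnil
  have := key n
  rwa [hn, Ideal.zero_eq_bot, Submodule.bot_smul, sup_bot_eq] at this

end

end Groth.Agent.Lib.helper24.ArtinReg
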