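import Mathlib
import Groth.Agent.Lib.helper14.AdicExact

/-!
# Completion along a principal ideal and bounded torsion (helper24)

`BT a X`: the `a`-power torsion of `X` is bounded.  If `M/rM` has bounded `a`-power torsion and `r` is
`M`-regular then `0 → M^ → M^ → (M/rM)^ → 0` (multiplication by `r`) is exact, for the `a`-adic
completions.  `main`: a weakly regular sequence all of whose successive quotients have bounded
`a`-power torsion stays weakly regular on the completion, and the kernel of `M^ → (M/(rs)M)^` is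
`(rs) M^`.
-/
set_option autoImplicit false
set_option linter.style.haveILetI false
universe u v

namespace Groth.Agent.Lib.helper24.BddTors

open RingTheory.Sequence Pointwise

variable {A : Type u} [CommRing A] (a : A)

/-- bounded `a`-power torsion -/
def BT (X : Type v) [AddCommGroup X] [Module A X] : Prop :=
  ∃ N : ℕ, ∀ x : X, (∃ m : ℕ, a ^ m • x = 0) → a ^ N • x = 0

theorem BT.congr {X Y : Type v} [AddCommGroup X] [Module A X] [AddCommGroup Y] [Module A Y]
    (e : X ≃ₗ[A] Y) (h : BT a X) : BT a Y := by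
  obtain ⟨N, hN⟩ := h
  refine ⟨N, fun y ⟨m, hm⟩ => ?_⟩
  have h1 : a ^ N • e.symm y = 0 := hN (e.symm y) ⟨m, by rw [← map_smul, hm, map_zero]⟩
  have := congrArg e h1
  rwa [map_smul, e.apply_symm_apply, map_zero] at this

theorem mem_pow_smul_top_iff {M : Type v} [AddCommGroup M] [Module A M] (k : ℕ) (x : M) :
    x ∈ (Ideal.span {a}) ^ k • (⊤ : Submodule A M) ↔ ∃ m : M, a ^ k • m = x := by
  rw [Ideal.span_singleton_pow, Submodule.ideal_span_singleton_smul,
    Submodule.mem_smul_pointwise_iff_exists]
  simp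

theorem AR {M : Type v} [AddCommGroup M] [Module A M] (r : A) (N : ℕ)
    (hN : ∀ x : QuotSMulTop r M, (∃ m : ℕ, a ^ m • x = 0) → a ^ N • x = 0) (n : ℕ) :
    ((Ideal.span {a}) ^ (n + N) • ⊤ : Submodule A M) ⊓ LinearMap.range (LinearMap.lsmul A M r) ≤
      Submodule.map (LinearMap.lsmul A M r) ((Ideal.span {a}) ^ n • ⊤ : Submodule A M) := by
  rintro x ⟨hx1, m', hm'⟩
  obtain ⟨m, hm⟩ := (mem_pow_smul_top_iff a _ x).1 hx1
  have h0 : a ^ (n + N) • (Submodule.Quotient.mk m : QuotSMulTop r M) = 0 := by
    rw [← Submodule.Quotient.mk_smul, hm, Submodule.Quotient.mk_eq_zero, ← hm']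
    exact Submodule.smul_mem_pointwise_smul _ _ _ Submodule.mem_top
  have h1 := hN _ ⟨_, h0⟩
  rw [← Submodule.Quotient.mk_smul, Submodule.Quotient.mk_eq_zero,
    Submodule.mem_smul_pointwise_iff_exists] at h1
  obtain ⟨m'', -, hm''⟩ := h1
  refine ⟨a ^ n • m'', (mem_pow_smul_top_iff a _ _).2 ⟨m'', rfl⟩, ?_⟩
  rw [LinearMap.lsmul_apply, smul_comm, hm'', ← hm, smul_smul, ← pow_add]

section step

variable {M : Type u} [AddCommGroup M] [Module A M]

theorem map_lsmul (r : A) (x : AdicCompletion (Ideal.span {a}) M) :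
    AdicCompletion.map (Ideal.span {a}) (LinearMap.lsmul A M r) x = r • x := by
  ext n
  rw [AdicCompletion.map_val_apply, AdicCompletion.val_smul_apply]
  obtain ⟨y, hy⟩ := Submodule.Quotient.mk_surjective _ (x.val n)
  rw [← hy, LinearMap.reduceModIdeal_apply, LinearMap.lsmul_apply, Submodule.Quotient.mk_smul]

/-- the three consequences for one regular element -/
theorem step (r : A) (hr : IsSMulRegular M r) (hbt : BT a (QuotSMulTop r M)) :
    IsSMulRegular (AdicCompletion (Ideal.span {a}) M) r ∧
    Function.Surjective (AdicCompletion.map (Ideal.span {a}) (r • (⊤ : Submodule A M)).mkQ) ∧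
    ∀ x : AdicCompletion (Ideal.span {a}) M,
      AdicCompletion.map (Ideal.span {a}) (r • (⊤ : Submodule A M)).mkQ x = 0 ↔
        ∃ z : AdicCompletion (Ideal.span {a}) M, r • z = x := by
  obtain ⟨N, hN⟩ := hbt
  have hf : Function.Injective (LinearMap.lsmul A M r) := hr
  have hg : Function.Surjective (r • (⊤ : Submodule A M)).mkQ := Submodule.mkQ_surjective _
  have hfg : Function.Exact (LinearMap.lsmul A M r) (r • (⊤ : Submodule A M)).mkQ := by
    intro y
    rw [Submodule.mkQ_apply, Submodule.Quotient.mk_eq_zero, Submodule.mem_smul_pointwise_iff_exists]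
    simp
  have hAR := AR a (M := M) r N hN
  have h_inj := H14.adicMap_injective_of_AR (Ideal.span {a}) hf N hAR
  have h_ex := H14.adicMap_exact_of_AR (Ideal.span {a}) hf hfg hg N hAR
  refine ⟨?_, AdicCompletion.map_surjective _ hg, fun x => ?_⟩
  · intro x y hxy
    apply h_inj
    rw [map_lsmul, map_lsmul]
    exact hxy
  · rw [h_ex x]
    constructor
    · rintro ⟨z, hz⟩
      exact ⟨z, by rw [← map_lsmul, hz]⟩
    · rintro ⟨z, hz⟩
      exact ⟨z, by rw [map_lsmul, hz]⟩

end step

section main

theorem map_mkQ_smul_eq_zero {M : Type u} [AddCommGroup M] [Module A M] (J : Ideal A)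
    (x : AdicCompletion (Ideal.span {a}) M)
    (hx : x ∈ (J • ⊤ : Submodule A (AdicCompletion (Ideal.span {a}) M))) :
    AdicCompletion.map (Ideal.span {a}) (J • (⊤ : Submodule A M)).mkQ x = 0 := by
  refine Submodule.smul_induction_on
    (p := fun x => AdicCompletion.map (Ideal.span {a}) (J • (⊤ : Submodule A M)).mkQ x = 0) hx ?_ ?_
  · intro r hr y _
    ext n
    rw [AdicCompletion.map_val_apply, AdicCompletion.val_smul_apply, AdicCompletion.val_zero_apply]
    obtain ⟨z, hz⟩ := Submodule.Quotient.mk_surjective _ (y.val n)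
    rw [← hz, ← Submodule.Quotient.mk_smul, LinearMap.reduceModIdeal_apply, Submodule.mkQ_apply,
      Submodule.Quotient.mk_smul]
    have : (Submodule.Quotient.mk (r • z) : M ⧸ (J • ⊤ : Submodule A M)) = 0 := by
      rw [Submodule.Quotient.mk_eq_zero]
      exact Submodule.smul_mem_smul hr Submodule.mem_top
    rw [← Submodule.Quotient.mk_smul, this, Submodule.Quotient.mk_zero]
  · intro x y hx hy
    rw [map_add, hx, hy, add_zero]

theorem main (rs : List A) : ∀ (M : Type u) [AddCommGroup M] [Module A M],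
    IsWeaklyRegular M rs →
    (∀ i ≤ rs.length, BT a (M ⧸ (Ideal.ofList (rs.take i) • ⊤ : Submodule A M))) →
    IsWeaklyRegular (AdicCompletion (Ideal.span {a}) M) rs ∧
    ∀ x : AdicCompletion (Ideal.span {a}) M,
      AdicCompletion.map (Ideal.span {a}) (Ideal.ofList rs • ⊤ : Submodule A M).mkQ x = 0 →
        x ∈ (Ideal.ofList rs • ⊤ : Submodule A (AdicCompletion (Ideal.span {a}) M)) := by
  induction rs with
  | nil =>
    intro M _ _ _ _
    refine ⟨IsWeaklyRegular.nil _ _, fun x hx => ?_⟩
    have hbot : (Ideal.ofList ([] : List A) • ⊤ : Submodule A M) = ⊥ := by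
      rw [Ideal.ofList_nil, Submodule.bot_smul]
    have hinj : Function.Injective (Ideal.ofList ([] : List A) • ⊤ : Submodule A M).mkQ := by
      rw [← LinearMap.ker_eq_bot, Submodule.ker_mkQ, hbot]
    have h := H14.adicMap_injective_of_AR (Ideal.span {a}) hinj 0 (fun n => by
      refine inf_le_left.trans ?_
      rw [Submodule.map_smul'', Submodule.map_top, Submodule.range_mkQ, add_zero])
    have : x = 0 := h (by rw [hx, map_zero])
    rw [this]
    exact Submodule.zero_mem _
  | cons r rs ih =>
    intro M _ _ hreg hbd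
    obtain ⟨hr, hrs⟩ := (isWeaklyRegular_cons_iff M r rs).1 hreg
    -- bounded torsion for the quotients of `M/rM`
    have hbd' : ∀ i ≤ rs.length,
        BT a (QuotSMulTop r M ⧸ (Ideal.ofList (rs.take i) • ⊤ : Submodule A (QuotSMulTop r M))) := by
      intro i hi
      have h1 := hbd (i + 1) (by simp; omega)
      rw [List.take_succ_cons] at h1
      exact h1.congr a (Submodule.quotOfListConsSMulTopEquivQuotSMulTopInner M r (rs.take i))
    have hbt : BT a (QuotSMulTop r M) := by
      have h1 := hbd' 0 (Nat.zero_le _)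
      rw [List.take_zero] at h1
      exact h1.congr a (Submodule.quotEquivOfEqBot _ (by rw [Ideal.ofList_nil, Submodule.bot_smul]))
    obtain ⟨ih1, ih2⟩ := ih (QuotSMulTop r M) hrs hbd'
    obtain ⟨s1, s2, s3⟩ := step a r hr hbt
    set g := AdicCompletion.map (Ideal.span {a}) (r • (⊤ : Submodule A M)).mkQ with hg
    -- the equivalence `M^/rM^ ≃ (M/rM)^`
    have hker : LinearMap.ker (g.restrictScalars A) =
        (r • ⊤ : Submodule A (AdicCompletion (Ideal.span {a}) M)) := by
      ext x
      rw [LinearMap.mem_ker, LinearMap.restrictScalars_apply, s3 x,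
        Submodule.mem_smul_pointwise_iff_exists]
      simp
    let e : QuotSMulTop r (AdicCompletion (Ideal.span {a}) M) ≃ₗ[A]
        AdicCompletion (Ideal.span {a}) (QuotSMulTop r M) :=
      (Submodule.quotEquivOfEq _ _ hker.symm).trans
        ((g.restrictScalars A).quotKerEquivOfSurjective s2)
    refine ⟨(isWeaklyRegular_cons_iff _ r rs).2 ⟨s1, (e.isWeaklyRegular_congr rs).2 ih1⟩,
      fun x hx => ?_⟩
    -- kernel
    have hcomp : (Ideal.ofList rs • ⊤ : Submodule A (QuotSMulTop r M)).mkQ ∘ₗ
        (r • (⊤ : Submodule A M)).mkQ =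
        (Submodule.quotOfListConsSMulTopEquivQuotSMulTopInner M r rs).toLinearMap ∘ₗ
          (Ideal.ofList (r :: rs) • ⊤ : Submodule A M).mkQ := by
      ext m
      rfl
    have h1 : AdicCompletion.map (Ideal.span {a})
        (Ideal.ofList rs • ⊤ : Submodule A (QuotSMulTop r M)).mkQ (g x) = 0 := by
      rw [hg, ← LinearMap.comp_apply, AdicCompletion.map_comp, hcomp, ← AdicCompletion.map_comp,
        LinearMap.comp_apply, hx, map_zero]
    have h2 := ih2 (g x) h1
    have h3 : (Ideal.ofList rs • ⊤ : Submodule A (AdicCompletion (Ideal.span {a}) (QuotSMulTop r M))) =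
        Submodule.map (g.restrictScalars A) (Ideal.ofList rs • ⊤) := by
      have hs2 : LinearMap.range (g.restrictScalars A) = ⊤ := LinearMap.range_eq_top.2 s2
      rw [Submodule.map_smul'', Submodule.map_top, hs2]
    rw [h3] at h2
    obtain ⟨y, hy, hyx⟩ := h2
    have h4 : g (x - y) = 0 := by
      rw [map_sub, sub_eq_zero]
      exact hyx.symm
    obtain ⟨z, hz⟩ := (s3 _).1 h4
    have : x = r • z + y := by rw [hz]; abel
    rw [this, Ideal.ofList_cons_smul]
    exact Submodule.add_mem_sup (Submodule.smul_mem_pointwise_smul _ _ _ Submodule.mem_top) hy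

end main

end Groth.Agent.Lib.helper24.BddTors
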