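import Mathlib

/-!
# Projectivity of a cokernel and exchange of kernels with base change (helper24)

* `exists_split` : `d' : M' → N'`, `g' : N' → C'` surjective, exact, `C'`, `N'` projective ⇒
  `id = ι ∘ π + τ ∘ d'` with `ι : ker d' ↪ M'`.
* `cancel_nat` : naturality of `AlgebraTensorModule.cancelBaseChange`.
* `ker_le_range_of_projective` : `R → S` flat, `S → K`; if `S ⊗ (N ⧸ range d)` is `S`-projective then
  `ker (K ⊗ d) ≤ range (K ⊗ (ker d ↪ M))`.
* `lTensor_subtype_injective_of_ker_le` : conversely the inclusion gives injectivity of
  `K ⊗ range d → K ⊗ N`.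
* `free_localizedModule_of_injective` : at a prime `p`, this injectivity for `K = κ(p)` gives that
  `(N ⧸ range d)_p` is free over `R_p` (for `M` finite, `N` finite projective).
-/

set_option autoImplicit false
set_option linter.style.haveILetI false

namespace Groth.Agent.Lib.helper24.CokerProj

open TensorProduct

universe u v w

section split

variable {S : Type*} [CommRing S] {M' N' C' : Type*} [AddCommGroup M'] [Module S M']
  [AddCommGroup N'] [Module S N'] [AddCommGroup C'] [Module S C']

theorem exists_split (d' : M' →ₗ[S] N') (g' : N' →ₗ[S] C') (hg : Function.Surjective g')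
    (hex : Function.Exact d' g') [Module.Projective S C'] [Module.Projective S N'] :
    ∃ (π : M' →ₗ[S] LinearMap.ker d') (τ : N' →ₗ[S] M'),
      (LinearMap.id : M' →ₗ[S] M') = (LinearMap.ker d').subtype ∘ₗ π + τ ∘ₗ d' := by
  obtain ⟨s, hs⟩ := Module.projective_lifting_property g' LinearMap.id hg
  have hs' : ∀ c, g' (s c) = c := fun c => LinearMap.congr_fun hs c
  let φ : N' →ₗ[S] N' := LinearMap.id - s ∘ₗ g'
  have hmem : ∀ n : N', φ n ∈ LinearMap.range d' := by
    intro n
    rw [← hex.linearMap_ker_eq, LinearMap.mem_ker]
    simp [φ, hs']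
  let r : N' →ₗ[S] LinearMap.range d' := LinearMap.codRestrict _ φ hmem
  have hr : ∀ x : LinearMap.range d', r x.1 = x := by
    intro x
    apply Subtype.ext
    have h0 : g' x.1 = 0 := (hex x.1).2 (LinearMap.mem_range.1 x.2)
    simp [r, φ, h0]
  haveI : Module.Projective S (LinearMap.range d') :=
    Module.Projective.of_split (LinearMap.range d').subtype r (by ext x; simp [hr])
  obtain ⟨σ, hσ⟩ := Module.projective_lifting_property d'.rangeRestrict LinearMap.id
    (LinearMap.surjective_rangeRestrict _)
  have hσ' : ∀ x, d'.rangeRestrict (σ x) = x := fun x => LinearMap.congr_fun hσ x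
  have hσ'' : ∀ x : LinearMap.range d', d' (σ x) = x.1 := by
    intro x
    have := congrArg Subtype.val (hσ' x)
    simpa using this
  let ψ : M' →ₗ[S] M' := LinearMap.id - σ ∘ₗ d'.rangeRestrict
  have hmem2 : ∀ m : M', ψ m ∈ LinearMap.ker d' := by
    intro m
    rw [LinearMap.mem_ker]
    simp [ψ, hσ'']
  refine ⟨LinearMap.codRestrict _ ψ hmem2, σ ∘ₗ r, ?_⟩
  ext m
  have h1 : r (d' m) = d'.rangeRestrict m := hr (d'.rangeRestrict m)
  simp [ψ, h1]

end split

section cancel

variable {R : Type*} [CommRing R] {S : Type*} [CommRing S] [Algebra R S] {K : Type*} [CommRing K]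
  [Algebra R K] [Algebra S K] [IsScalarTower R S K]
  {X Y : Type*} [AddCommGroup X] [Module R X] [AddCommGroup Y] [Module R Y]

theorem cancel_nat (u : X →ₗ[R] Y) (t : K ⊗[S] (S ⊗[R] X)) :
    AlgebraTensorModule.cancelBaseChange R S K K Y ((u.baseChange S).baseChange K t) =
      u.baseChange K (AlgebraTensorModule.cancelBaseChange R S K K X t) := by
  induction t using TensorProduct.induction_on with
  | zero => simp
  | add a b ha hb => simp only [map_add, ha, hb]
  | tmul k y =>
    induction y using TensorProduct.induction_on with
    | zero => simp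
    | add a b ha hb => simp only [tmul_add, map_add, ha, hb]
    | tmul s x => simp

end cancel

section conv

variable {R : Type*} [CommRing R] {S : Type*} [CommRing S] [Algebra R S] [Module.Flat R S]
  {K : Type*} [CommRing K] [Algebra R K] [Algebra S K] [IsScalarTower R S K]
  {M N : Type*} [AddCommGroup M] [Module R M] [AddCommGroup N] [Module R N]

theorem ker_le_range_of_projective (d : M →ₗ[R] N) [Module.Projective S (S ⊗[R] N)]
    [Module.Projective S (S ⊗[R] (N ⧸ LinearMap.range d))] :
    LinearMap.ker (d.baseChange K) ≤
      LinearMap.range ((LinearMap.ker d).subtype.baseChange K) := by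
  -- the base-changed sequence over `S`
  have hex : Function.Exact (d.baseChange S) ((LinearMap.range d).mkQ.baseChange S) := by
    rw [LinearMap.baseChange_eq_ltensor, LinearMap.baseChange_eq_ltensor]
    exact lTensor_exact S (LinearMap.exact_map_mkQ_range d) (Submodule.mkQ_surjective _)
  have hsurj : Function.Surjective ((LinearMap.range d).mkQ.baseChange S) := by
    rw [LinearMap.baseChange_eq_ltensor]
    exact LinearMap.lTensor_surjective S (Submodule.mkQ_surjective _)
  obtain ⟨π, τ, hid⟩ := exists_split (d.baseChange S) _ hsurj hex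
  -- kernel of `d_S` is the image of `S ⊗ ker d`
  have hexk : Function.Exact ((LinearMap.ker d).subtype.baseChange S) (d.baseChange S) := by
    rw [LinearMap.baseChange_eq_ltensor, LinearMap.baseChange_eq_ltensor]
    exact Module.Flat.lTensor_exact S (LinearMap.exact_subtype_ker_map d)
  have hθmem : ∀ t, (LinearMap.ker d).subtype.baseChange S t ∈ LinearMap.ker (d.baseChange S) := by
    intro t
    rw [LinearMap.mem_ker]
    exact (hexk _).2 ⟨t, rfl⟩
  let θ : S ⊗[R] LinearMap.ker d →ₗ[S] LinearMap.ker (d.baseChange S) :=
    LinearMap.codRestrict _ ((LinearMap.ker d).subtype.baseChange S) hθmem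
  have hθ : Function.Surjective θ := by
    rintro ⟨z, hz⟩
    obtain ⟨t, ht⟩ := (hexk z).1 (LinearMap.mem_ker.1 hz)
    exact ⟨t, Subtype.ext ht⟩
  have hθK : Function.Surjective (θ.baseChange K) := by
    rw [LinearMap.baseChange_eq_ltensor]
    exact LinearMap.lTensor_surjective K hθ
  have hιθ : (LinearMap.ker (d.baseChange S)).subtype ∘ₗ θ =
      (LinearMap.ker d).subtype.baseChange S := by
    ext t
    rfl
  intro y hy
  rw [LinearMap.mem_ker] at hy
  set eM := AlgebraTensorModule.cancelBaseChange R S K K M with heM
  set eN := AlgebraTensorModule.cancelBaseChange R S K K N with heN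
  set y' := eM.symm y with hy'
  have h1 : (d.baseChange S).baseChange K y' = 0 := by
    apply eN.injective
    rw [cancel_nat, hy', LinearEquiv.apply_symm_apply, hy, map_zero]
  have h2 : y' = ((LinearMap.ker (d.baseChange S)).subtype.baseChange K) (π.baseChange K y') := by
    have := congrArg (fun f => (LinearMap.baseChange K f) y') hid
    simp only [LinearMap.baseChange_id, LinearMap.baseChange_add, LinearMap.baseChange_comp,
      LinearMap.add_apply, LinearMap.comp_apply, LinearMap.id_apply, h1, map_zero, add_zero] at this
    exact this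
  obtain ⟨w, hw⟩ := hθK (π.baseChange K y')
  rw [← hw, ← LinearMap.comp_apply, ← LinearMap.baseChange_comp, hιθ] at h2
  refine ⟨AlgebraTensorModule.cancelBaseChange R S K K (LinearMap.ker d) w, ?_⟩
  rw [← cancel_nat, ← h2, hy', LinearEquiv.apply_symm_apply]

end conv

section inj

variable {R : Type*} [CommRing R] {K : Type*} [AddCommGroup K] [Module R K]
  {M N : Type*} [AddCommGroup M] [Module R M] [AddCommGroup N] [Module R N]

theorem lTensor_subtype_injective_of_ker_le (d : M →ₗ[R] N)
    (H : LinearMap.ker (d.lTensor K) ≤ LinearMap.range ((LinearMap.ker d).subtype.lTensor K)) :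
    Function.Injective ((LinearMap.range d).subtype.lTensor K) := by
  rw [injective_iff_map_eq_zero]
  intro z hz
  obtain ⟨y, rfl⟩ := LinearMap.lTensor_surjective K (LinearMap.surjective_rangeRestrict d) z
  have h1 : d.lTensor K y = 0 := by
    rw [← hz, ← LinearMap.comp_apply, ← LinearMap.lTensor_comp]
    rfl
  obtain ⟨w, rfl⟩ := H (LinearMap.mem_ker.2 h1)
  rw [← LinearMap.comp_apply, ← LinearMap.lTensor_comp]
  have : d.rangeRestrict ∘ₗ (LinearMap.ker d).subtype = 0 := by
    ext x
    simp
  rw [this, LinearMap.lTensor_zero, LinearMap.zero_apply]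

theorem ker_le_of_lTensor_subtype_injective (d : M →ₗ[R] N)
    (H : Function.Injective ((LinearMap.range d).subtype.lTensor K)) :
    LinearMap.ker (d.lTensor K) ≤ LinearMap.range ((LinearMap.ker d).subtype.lTensor K) := by
  intro y hy
  rw [LinearMap.mem_ker] at hy
  have h1 : d.rangeRestrict.lTensor K y = 0 := by
    apply H
    rw [map_zero, ← LinearMap.comp_apply, ← LinearMap.lTensor_comp]
    exact hy
  have hex := lTensor_exact K (LinearMap.exact_subtype_ker_map d.rangeRestrict)
    (LinearMap.surjective_rangeRestrict d)
  obtain ⟨w, hw⟩ := (hex y).1 h1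
  have hker : LinearMap.ker d.rangeRestrict = LinearMap.ker d := LinearMap.ker_rangeRestrict d
  -- transport along the equality of kernels
  let e : LinearMap.ker d.rangeRestrict ≃ₗ[R] LinearMap.ker d := LinearEquiv.ofEq _ _ hker
  refine ⟨e.toLinearMap.lTensor K w, ?_⟩
  rw [← LinearMap.comp_apply, ← LinearMap.lTensor_comp, ← hw]
  rfl

end inj

section prime

variable {R : Type u} [CommRing R] (p : Ideal R) [p.IsPrime]
  {M : Type v} {N : Type w} [AddCommGroup M] [Module R M] [AddCommGroup N] [Module R N]
  [Module.Finite R M] [Module.Finite R N] [Module.Projective R N]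

theorem free_tensor_of_injective (d : M →ₗ[R] N)
    (H : Function.Injective ((LinearMap.range d).subtype.lTensor p.ResidueField)) :
    Module.Free (Localization.AtPrime p)
      (Localization.AtPrime p ⊗[R] (N ⧸ LinearMap.range d)) := by
  have hg : Function.Surjective ((LinearMap.range d).mkQ.baseChange (Localization.AtPrime p)) := by
    rw [LinearMap.baseChange_eq_ltensor]
    exact LinearMap.lTensor_surjective _ (Submodule.mkQ_surjective _)
  have hex : Function.Exact ((LinearMap.range d).subtype.baseChange (Localization.AtPrime p))
      ((LinearMap.range d).mkQ.baseChange (Localization.AtPrime p)) := by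
    rw [LinearMap.baseChange_eq_ltensor, LinearMap.baseChange_eq_ltensor]
    exact lTensor_exact _ (LinearMap.exact_subtype_mkQ _) (Submodule.mkQ_surjective _)
  haveI : Module.Finite R (LinearMap.range d) := Module.Finite.range d
  haveI : Module.Free (Localization.AtPrime p) (Localization.AtPrime p ⊗[R] N) :=
    Module.free_of_flat_of_isLocalRing
  have hf : Function.Injective
      (((LinearMap.range d).subtype.baseChange (Localization.AtPrime p)).lTensor
        (IsLocalRing.ResidueField (Localization.AtPrime p))) := by
    intro a b hab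
    apply (AlgebraTensorModule.cancelBaseChange R (Localization.AtPrime p) p.ResidueField
      p.ResidueField (LinearMap.range d)).injective
    apply H
    have h1 := cancel_nat (S := Localization.AtPrime p) (K := p.ResidueField)
      (LinearMap.range d).subtype a
    have h2 := cancel_nat (S := Localization.AtPrime p) (K := p.ResidueField)
      (LinearMap.range d).subtype b
    rw [← LinearMap.baseChange_eq_ltensor (A := p.ResidueField), ← h1, ← h2]
    congr 1
  exact Module.free_of_lTensor_residueField_injective _ _ hg hex hf

theorem free_localizedModule_of_injective (d : M →ₗ[R] N)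
    (H : Function.Injective ((LinearMap.range d).subtype.lTensor p.ResidueField)) :
    Module.Free (Localization.AtPrime p)
      (LocalizedModule p.primeCompl (N ⧸ LinearMap.range d)) := by
  haveI := free_tensor_of_injective p d H
  exact Module.Free.of_equiv (IsLocalizedModule.isBaseChange p.primeCompl (Localization.AtPrime p)
    (LocalizedModule.mkLinearMap p.primeCompl (N ⧸ LinearMap.range d))).equiv

end prime

end Groth.Agent.Lib.helper24.CokerProj
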