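import Mathlib
import Groth.Agent.Lib.helper24.CokerProj

/-!
# Complements to `CokerProj` (helper24)

* `subtype_baseChange_injective_of_projective` : `R → S` flat, `S → K`; if `S ⊗ (N ⧸ range d)` and
  `S ⊗ N` are `S`-projective then `K ⊗ ker d → K ⊗ M` is injective.
* `projective_of_exact` : `0 → I → F → C → 0` exact, `F`, `C` projective ⇒ `I` projective.
-/

set_option autoImplicit false
set_option linter.style.haveILetI false

namespace Groth.Agent.Lib.helper24.CokerProj

open TensorProduct

section conv

variable {R : Type*} [CommRing R] {S : Type*} [CommRing S] [Algebra R S] [Module.Flat R S]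
  {K : Type*} [CommRing K] [Algebra R K] [Algebra S K] [IsScalarTower R S K]
  {M N : Type*} [AddCommGroup M] [Module R M] [AddCommGroup N] [Module R N]

theorem subtype_baseChange_injective_of_projective (d : M →ₗ[R] N)
    [Module.Projective S (S ⊗[R] N)]
    [Module.Projective S (S ⊗[R] (N ⧸ LinearMap.range d))] :
    Function.Injective ((LinearMap.ker d).subtype.baseChange K) := by
  have hex : Function.Exact (d.baseChange S) ((LinearMap.range d).mkQ.baseChange S) := by
    rw [LinearMap.baseChange_eq_ltensor, LinearMap.baseChange_eq_ltensor]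
    exact lTensor_exact S (LinearMap.exact_map_mkQ_range d) (Submodule.mkQ_surjective _)
  have hsurj : Function.Surjective ((LinearMap.range d).mkQ.baseChange S) := by
    rw [LinearMap.baseChange_eq_ltensor]
    exact LinearMap.lTensor_surjective S (Submodule.mkQ_surjective _)
  obtain ⟨π, τ, hid⟩ := exists_split (d.baseChange S) _ hsurj hex
  -- `π` is a retraction of the inclusion of the kernel
  have hπ : π ∘ₗ (LinearMap.ker (d.baseChange S)).subtype = LinearMap.id := by
    ext x
    have h1 := LinearMap.congr_fun hid x.1
    simp only [LinearMap.id_apply, LinearMap.add_apply, LinearMap.comp_apply,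
      Submodule.subtype_apply] at h1
    rw [LinearMap.mem_ker.1 x.2, map_zero, add_zero] at h1
    exact h1.symm
  -- the map `S ⊗ ker d → S ⊗ M` is injective with image the kernel of `d_S`
  have hιinj : Function.Injective ((LinearMap.ker d).subtype.baseChange S) := by
    rw [LinearMap.baseChange_eq_ltensor]
    exact Module.Flat.lTensor_preserves_injective_linearMap _ (Submodule.subtype_injective _)
  have hexk : Function.Exact ((LinearMap.ker d).subtype.baseChange S) (d.baseChange S) := by
    rw [LinearMap.baseChange_eq_ltensor, LinearMap.baseChange_eq_ltensor]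
    exact Module.Flat.lTensor_exact S (LinearMap.exact_subtype_ker_map d)
  -- a retraction of `ι_S`
  let θinv : LinearMap.ker (d.baseChange S) →ₗ[S] S ⊗[R] LinearMap.ker d :=
    ((LinearEquiv.ofInjective _ hιinj).symm : _ →ₗ[S] _) ∘ₗ
      (LinearEquiv.ofEq _ _ (LinearMap.exact_iff.1 hexk)).toLinearMap
  have hret : (θinv ∘ₗ π) ∘ₗ (LinearMap.ker d).subtype.baseChange S = LinearMap.id := by
    ext t
    have hmem : (LinearMap.ker d).subtype.baseChange S (1 ⊗ₜ t) ∈
        LinearMap.ker (d.baseChange S) := (hexk _).2 ⟨_, rfl⟩
    have h1 : π ((LinearMap.ker d).subtype.baseChange S (1 ⊗ₜ t)) =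
        ⟨(LinearMap.ker d).subtype.baseChange S (1 ⊗ₜ t), hmem⟩ :=
      LinearMap.congr_fun hπ ⟨_, hmem⟩
    simp only [AlgebraTensorModule.curry_apply, curry_apply, LinearMap.coe_restrictScalars,
      LinearMap.comp_apply, LinearMap.id_apply]
    rw [h1]
    simp only [θinv, LinearMap.comp_apply, LinearEquiv.coe_coe]
    apply (LinearEquiv.ofInjective _ hιinj).injective
    rw [LinearEquiv.apply_symm_apply]
    rfl
  -- hence `K ⊗_S ι_S` is injective, and we transfer along `cancelBaseChange`
  have hKinj : Function.Injective (((LinearMap.ker d).subtype.baseChange S).baseChange K) := by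
    apply Function.LeftInverse.injective (g := (θinv ∘ₗ π).baseChange K)
    intro t
    rw [← LinearMap.comp_apply, ← LinearMap.baseChange_comp, hret, LinearMap.baseChange_id,
      LinearMap.id_apply]
  intro a b hab
  apply (AlgebraTensorModule.cancelBaseChange R S K K (LinearMap.ker d)).symm.injective
  apply hKinj
  apply (AlgebraTensorModule.cancelBaseChange R S K K M).injective
  rw [cancel_nat, cancel_nat, LinearEquiv.apply_symm_apply, LinearEquiv.apply_symm_apply, hab]

end conv

section exact

variable {S : Type*} [CommRing S] {I F C : Type*} [AddCommGroup I] [Module S I]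
  [AddCommGroup F] [Module S F] [AddCommGroup C] [Module S C]

theorem projective_of_exact (f : I →ₗ[S] F) (g : F →ₗ[S] C) (hf : Function.Injective f)
    (hg : Function.Surjective g) (hex : Function.Exact f g) [Module.Projective S F]
    [Module.Projective S C] : Module.Projective S I := by
  obtain ⟨s, hs⟩ := Module.projective_lifting_property g LinearMap.id hg
  have hs' : ∀ c, g (s c) = c := fun c => LinearMap.congr_fun hs c
  let φ : F →ₗ[S] F := LinearMap.id - s ∘ₗ g
  have hmem : ∀ n : F, φ n ∈ LinearMap.range f := by
    intro n
    rw [← hex.linearMap_ker_eq, LinearMap.mem_ker]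
    simp [φ, hs']
  let r : F →ₗ[S] I := ((LinearEquiv.ofInjective f hf).symm : _ →ₗ[S] _) ∘ₗ
    LinearMap.codRestrict _ φ hmem
  refine Module.Projective.of_split f r ?_
  ext x
  simp only [LinearMap.comp_apply, LinearMap.id_apply, r, LinearEquiv.coe_coe]
  apply (LinearEquiv.ofInjective f hf).injective
  rw [LinearEquiv.apply_symm_apply]
  apply Subtype.ext
  have h0 : g (f x) = 0 := (hex (f x)).2 ⟨x, rfl⟩
  simp [φ, h0]

end exact

end Groth.Agent.Lib.helper24.CokerProj
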