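import Mathlib
import Groth.Prelude.Def_CartDual2

/-!
# Helper lemmas for unit components of finite Hopf algebras (helper24)
Used for S16079 and S15896.
-/

namespace Groth.Agent.Lib.helper24.ConnMult
universe u v w
open CartDual
open scoped TensorProduct

/-- In a local ring, an idempotent is `0` or `1`. -/
theorem idempotent_eq_zero_or_one {Q : Type*} [CommRing Q] [IsLocalRing Q] {q : Q}
    (hq : IsIdempotentElem q) : q = 0 ∨ q = 1 := by
  rcases IsLocalRing.isUnit_or_isUnit_one_sub_self q with h | h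
  · right
    exact (IsIdempotentElem.iff_eq_one_of_isUnit h).mp hq
  · left
    have h1 : q * (1 - q) = 0 := by
      rw [mul_sub, mul_one, hq.eq, sub_self]
    exact (h.mul_left_eq_zero).mp h1

/-- An idempotent with counit `1` maps to `1` in any local ring with a compatible augmentation. -/
theorem map_idempotent_eq_one {R : Type*} {C : Type*} {Q : Type*} [CommRing R] [Nontrivial R]
    [CommRing C] [CommRing Q] [IsLocalRing Q] (εC : C →+* R) (εQ : Q →+* R) (g : C →+* Q)
    (hg : ∀ c, εQ (g c) = εC c) {f : C} (hf : IsIdempotentElem f) (hf1 : εC f = 1) : g f = 1 := by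
  rcases idempotent_eq_zero_or_one (hf.map g) with h | h
  · exfalso
    have := hg f
    rw [h, map_zero, hf1] at this
    exact zero_ne_one this
  · exact h

/-- `lTensor (mulLeft f)` is multiplication by `1 ⊗ f`. -/
theorem lTensor_mulLeft_eq {R : Type*} [CommRing R] {D : Type*} [CommRing D] [Algebra R D]
    (f : D) (z : D ⊗[R] D) :
    LinearMap.lTensor D (LinearMap.mulLeft R f) z = ((1 : D) ⊗ₜ[R] f) * z := by
  induction z using TensorProduct.induction_on with
  | zero => simp
  | add z₁ z₂ h₁ h₂ => rw [map_add, h₁, h₂, mul_add]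
  | tmul a b =>
    rw [LinearMap.lTensor_tmul, Algebra.TensorProduct.tmul_mul_tmul, one_mul]
    rfl

section QuotMap
variable {R : Type u} [CommRing R] {A : Type v} {B : Type w} [CommRing A] [CommRing B]
  [Bialgebra R A] [Bialgebra R B] (I : Ideal A) (J : Ideal B)
  [(I.restrictScalars R).IsCoideal] [(J.restrictScalars R).IsCoideal]

/-- The algebra map induced on quotients. -/
noncomputable def quotAlgHom (ψ : B →ₐc[R] A) (h : ∀ b ∈ J, ψ b ∈ I) : B ⧸ J →ₐ[R] A ⧸ I :=
  Ideal.Quotient.liftₐ J ((Ideal.Quotient.mkₐ R I).comp (ψ : B →ₐ[R] A))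
    (fun b hb => by
      show Ideal.Quotient.mk I (ψ b) = 0
      exact Ideal.Quotient.eq_zero_iff_mem.mpr (h b hb))

omit [(I.restrictScalars R).IsCoideal] [(J.restrictScalars R).IsCoideal] in
@[simp] theorem quotAlgHom_mk (ψ : B →ₐc[R] A) (h : ∀ b ∈ J, ψ b ∈ I) (b : B) :
    quotAlgHom I J ψ h (Ideal.Quotient.mk J b) = Ideal.Quotient.mk I (ψ b) := rfl

/-- The bialgebra map induced on quotients by bi-ideals. -/
noncomputable def quotBialgHom (ψ : B →ₐc[R] A) (h : ∀ b ∈ J, ψ b ∈ I) : B ⧸ J →ₐc[R] A ⧸ I :=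
  BialgHom.ofAlgHom (quotAlgHom I J ψ h)
    (by
      apply Ideal.Quotient.algHom_ext R
      apply AlgHom.ext
      intro b
      show Coalgebra.counit (R := R) (Ideal.Quotient.mk I (ψ b)) = Coalgebra.counit (R := R) (Ideal.Quotient.mk J b)
      rw [Bialgebra.Quotient.counit_mk, Bialgebra.Quotient.counit_mk, CoalgHomClass.counit_comp_apply])
    (by
      apply Ideal.Quotient.algHom_ext R
      apply AlgHom.ext
      intro b
      show Algebra.TensorProduct.map (quotAlgHom I J ψ h) (quotAlgHom I J ψ h)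
          (Coalgebra.comul (R := R) (Ideal.Quotient.mk J b)) =
        Coalgebra.comul (R := R) (Ideal.Quotient.mk I (ψ b))
      rw [Bialgebra.Quotient.comul_mk, Bialgebra.Quotient.comul_mk, ← CoalgHomClass.map_comp_comul_apply]
      generalize Coalgebra.comul (R := R) b = t
      induction t using TensorProduct.induction_on with
      | zero => simp
      | add t₁ t₂ h₁ h₂ => simp only [map_add, h₁, h₂]
      | tmul b₁ b₂ => rfl)

@[simp] theorem quotBialgHom_mk (ψ : B →ₐc[R] A) (h : ∀ b ∈ J, ψ b ∈ I) (b : B) :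
    quotBialgHom I J ψ h (Ideal.Quotient.mk J b) = Ideal.Quotient.mk I (ψ b) := rfl

end QuotMap

section Invariant
variable {R : Type u} [CommRing R] [Nontrivial R] {A0 : Type v} {B0 : Type w}
  [CommRing A0] [Bialgebra R A0] [Module.Finite R A0] [Module.Projective R A0] [Coalgebra.IsCocomm R A0]
  [CommRing B0] [Bialgebra R B0] [Module.Finite R B0] [Module.Projective R B0] [Coalgebra.IsCocomm R B0]

/-- If `fB` is an idempotent of the dual of `B0` with counit `1` and local quotient by `1 - fB`,
and `fA` is an idempotent with counit `1` of the dual of `A0`, then the transpose `T` of a bialgebra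
map `B0 → A0` satisfies `fB * T fA = fB`. -/
theorem mul_transpose_idempotent (ψ0 : B0 →ₐc[R] A0)
    (fA : D R A0) (hfA : IsIdempotentElem fA) (hfAε : Bialgebra.counitAlgHom R (D R A0) fA = 1)
    (fB : D R B0) (hfB : IsIdempotentElem fB) (hfBε : Bialgebra.counitAlgHom R (D R B0) fB = 1)
    [IsLocalRing (D R B0 ⧸ Ideal.span ({1 - fB} : Set (D R B0)))] :
    fB * CartDual.transpose R ψ0 fA = fB := by
  have hcz : ∀ a ∈ Ideal.span ({1 - fB} : Set (D R B0)),
      (Bialgebra.counitAlgHom R (D R B0)).toRingHom a = 0 := by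
    intro a ha
    obtain ⟨d, rfl⟩ := Ideal.mem_span_singleton'.mp ha
    rw [map_mul, map_sub, map_one]
    have : (Bialgebra.counitAlgHom R (D R B0)).toRingHom fB = 1 := hfBε
    rw [this, sub_self, mul_zero]
  have h2 : Ideal.Quotient.mk (Ideal.span ({1 - fB} : Set (D R B0))) (CartDual.transpose R ψ0 fA) = 1 := by
    refine map_idempotent_eq_one (R := R) (C := D R A0)
      (Q := D R B0 ⧸ Ideal.span ({1 - fB} : Set (D R B0)))
      (Bialgebra.counitAlgHom R (D R A0)).toRingHom
      (Ideal.Quotient.lift _ (Bialgebra.counitAlgHom R (D R B0)).toRingHom hcz)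
      ((Ideal.Quotient.mk _).comp
        (CartDual.transpose R ψ0 : D R A0 →ₐ[R] D R B0).toRingHom) ?_ hfA hfAε
    intro c
    show Ideal.Quotient.lift _ _ hcz (Ideal.Quotient.mk _ (CartDual.transpose R ψ0 c)) = _
    rw [Ideal.Quotient.lift_mk]
    exact CoalgHomClass.counit_comp_apply (CartDual.transpose R ψ0) c
  have h4 : 1 - CartDual.transpose R ψ0 fA ∈ Ideal.span ({1 - fB} : Set (D R B0)) := by
    rw [← Ideal.Quotient.eq_zero_iff_mem, map_sub, map_one, h2, sub_self]
  obtain ⟨d, hd⟩ := Ideal.mem_span_singleton'.mp h4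
  have h5 : fB * (1 - CartDual.transpose R ψ0 fA) = 0 := by
    rw [← hd, mul_comm d, ← mul_assoc, mul_sub, mul_one, hfB.eq, sub_self, zero_mul]
  rw [mul_sub, mul_one, sub_eq_zero] at h5
  exact h5.symm

/-- Invariance is transported along transposes. -/
theorem transpose_invariant (ψ0 : B0 →ₐc[R] A0)
    (fA : D R A0) (hfA : IsIdempotentElem fA) (hfAε : Bialgebra.counitAlgHom R (D R A0) fA = 1)
    (fB : D R B0) (hfB : IsIdempotentElem fB) (hfBε : Bialgebra.counitAlgHom R (D R B0) fB = 1)
    [IsLocalRing (D R B0 ⧸ Ideal.span ({1 - fB} : Set (D R B0)))]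
    (x : D R A0)
    (hx : LinearMap.lTensor (D R A0) (LinearMap.mulLeft R fA) (Coalgebra.comul (R := R) x) = x ⊗ₜ[R] fA) :
    LinearMap.lTensor (D R B0) (LinearMap.mulLeft R fB)
      (Coalgebra.comul (R := R) (CartDual.transpose R ψ0 x)) = CartDual.transpose R ψ0 x ⊗ₜ[R] fB := by
  have h3 := mul_transpose_idempotent ψ0 fA hfA hfAε fB hfB hfBε
  rw [lTensor_mulLeft_eq] at hx ⊢
  have hM := congrArg (Algebra.TensorProduct.map (CartDual.transpose R ψ0 : D R A0 →ₐ[R] D R B0)
    (CartDual.transpose R ψ0 : D R A0 →ₐ[R] D R B0)) hx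
  rw [map_mul, Algebra.TensorProduct.map_tmul, Algebra.TensorProduct.map_tmul, map_one] at hM
  have hΔ : Algebra.TensorProduct.map (CartDual.transpose R ψ0 : D R A0 →ₐ[R] D R B0)
      (CartDual.transpose R ψ0 : D R A0 →ₐ[R] D R B0) (Coalgebra.comul (R := R) x) =
      Coalgebra.comul (R := R) (CartDual.transpose R ψ0 x) :=
    CoalgHomClass.map_comp_comul_apply (CartDual.transpose R ψ0) x
  rw [hΔ] at hM
  have hM' : ((1 : D R B0) ⊗ₜ[R] CartDual.transpose R ψ0 fA) *
      Coalgebra.comul (R := R) (CartDual.transpose R ψ0 x) =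
      CartDual.transpose R ψ0 x ⊗ₜ[R] CartDual.transpose R ψ0 fA := hM
  have e1 : ((1 : D R B0) ⊗ₜ[R] fB) * ((1 : D R B0) ⊗ₜ[R] CartDual.transpose R ψ0 fA) =
      (1 : D R B0) ⊗ₜ[R] fB := by
    rw [Algebra.TensorProduct.tmul_mul_tmul, one_mul, h3]
  calc ((1 : D R B0) ⊗ₜ[R] fB) * Coalgebra.comul (R := R) (CartDual.transpose R ψ0 x)
      = (((1 : D R B0) ⊗ₜ[R] fB) * ((1 : D R B0) ⊗ₜ[R] CartDual.transpose R ψ0 fA)) *
          Coalgebra.comul (R := R) (CartDual.transpose R ψ0 x) := by rw [e1]
    _ = ((1 : D R B0) ⊗ₜ[R] fB) * (((1 : D R B0) ⊗ₜ[R] CartDual.transpose R ψ0 fA) *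
          Coalgebra.comul (R := R) (CartDual.transpose R ψ0 x)) :=
        mul_assoc ((1 : D R B0) ⊗ₜ[R] fB) ((1 : D R B0) ⊗ₜ[R] CartDual.transpose R ψ0 fA)
          (Coalgebra.comul (R := R) (CartDual.transpose R ψ0 x))
    _ = CartDual.transpose R ψ0 x ⊗ₜ[R] fB := by
        rw [hM', Algebra.TensorProduct.tmul_mul_tmul, one_mul, h3]

end Invariant

section Unramified

/-- A section of an unramified algebra is cut out by an idempotent: there is an idempotent `f`
with `ε f = 1` and `f * c = ε c • f` for all `c`. -/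
theorem exists_idempotent_of_section (R : Type u) (C : Type v) [CommRing R] [CommRing C] [Algebra R C]
    [Algebra.EssFiniteType R C] [Algebra.FormallyUnramified R C] (ε : C →ₐ[R] R) :
    ∃ f : C, IsIdempotentElem f ∧ ε f = 1 ∧ ∀ c : C, f * c = ε c • f := by
  obtain ⟨e, he, hsp⟩ : ∃ e, IsIdempotentElem e ∧ KaehlerDifferential.ideal R C = Ideal.span {e} :=
    (Ideal.isIdempotentElem_iff_of_fg _ (KaehlerDifferential.ideal_fg R C)).mp <|
      (Ideal.cotangent_subsingleton_iff _).mp <| inferInstanceAs <| Subsingleton Ω[C⁄R]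
  let μ : C ⊗[R] C →ₐ[R] C :=
    Algebra.TensorProduct.lift ((Algebra.ofId R C).comp ε) (AlgHom.id R C) (fun _ _ => Commute.all _ _)
  have hμ : ∀ s t : C, μ (s ⊗ₜ[R] t) = ε s • t := by
    intro s t
    simp [μ, Algebra.TensorProduct.lift_tmul, Algebra.ofId_apply, Algebra.smul_def]
  have hεμ : ∀ z : C ⊗[R] C, ε (μ z) = ε (Algebra.TensorProduct.lmul' R z) := by
    intro z
    induction z using TensorProduct.induction_on with
    | zero => simp
    | add z₁ z₂ h₁ h₂ => simp only [map_add, h₁, h₂]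
    | tmul s t =>
      rw [hμ, map_smul, Algebra.TensorProduct.lmul'_apply_tmul, map_mul, smul_eq_mul]
  have he_mem : e ∈ KaehlerDifferential.ideal R C := by
    rw [hsp]; exact Ideal.mem_span_singleton_self e
  have hεe : ε (μ e) = 0 := by
    rw [hεμ]
    have : Algebra.TensorProduct.lmul' R e = 0 := he_mem
    rw [this, map_zero]
  refine ⟨1 - μ e, (he.map μ).one_sub, by rw [map_sub, map_one, hεe, sub_zero], ?_⟩
  intro c
  have hc : (1 : C) ⊗ₜ[R] c - c ⊗ₜ[R] (1 : C) ∈ Ideal.span {e} := by
    rw [← hsp]; exact KaehlerDifferential.one_smul_sub_smul_one_mem_ideal R c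
  obtain ⟨z, hz⟩ := Ideal.mem_span_singleton'.mp hc
  have h1 := congrArg μ hz
  rw [map_mul, map_sub, hμ, hμ, map_one, one_smul] at h1
  -- h1 : μ z * μ e = c - ε c • 1
  have h2 : (1 - μ e) * (c - ε c • (1 : C)) = 0 := by
    rw [← h1, mul_comm (μ z), ← mul_assoc, sub_mul, one_mul, (he.map μ).eq, sub_self, zero_mul]
  rw [mul_sub, sub_eq_zero] at h2
  rw [h2, mul_smul_comm, mul_one]

end Unramified

section EtaleInvariant
variable {R : Type u} [CommRing R] [Nontrivial R] {A0 : Type v} {B0 : Type w}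
  [CommRing A0] [Bialgebra R A0] [Module.Finite R A0] [Module.Projective R A0] [Coalgebra.IsCocomm R A0]
  [CommRing B0] [Bialgebra R B0] [Module.Finite R B0] [Module.Projective R B0] [Coalgebra.IsCocomm R B0]

/-- If the dual of `A0` is unramified, every linear form pulled back along a bialgebra map
`π : B0 → A0` is invariant under the unit component of the dual of `B0`. -/
theorem transpose_invariant_of_unramified (π : B0 →ₐc[R] A0)
    [Algebra.EssFiniteType R (D R A0)] [Algebra.FormallyUnramified R (D R A0)]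
    (e' : D R B0) (he' : IsIdempotentElem e') (hε' : Bialgebra.counitAlgHom R (D R B0) e' = 1)
    [IsLocalRing (D R B0 ⧸ Ideal.span ({1 - e'} : Set (D R B0)))] (y : D R A0) :
    LinearMap.lTensor (D R B0) (LinearMap.mulLeft R e')
      (Coalgebra.comul (R := R) (CartDual.transpose R π y)) = CartDual.transpose R π y ⊗ₜ[R] e' := by
  obtain ⟨f, hf, hf1, hfc⟩ := exists_idempotent_of_section R (D R A0) (Bialgebra.counitAlgHom R (D R A0))
  have h3 := mul_transpose_idempotent π f hf hf1 e' he' hε'
  have key : ∀ c : D R A0, e' * CartDual.transpose R π c =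
      (Coalgebra.counit (R := R) c) • e' := by
    intro c
    calc e' * CartDual.transpose R π c
        = (e' * CartDual.transpose R π f) * CartDual.transpose R π c := by rw [h3]
      _ = e' * CartDual.transpose R π (f * c) := by rw [mul_assoc, map_mul]
      _ = e' * CartDual.transpose R π ((Coalgebra.counit (R := R) c) • f) := by
          rw [hfc c]; rfl
      _ = (Coalgebra.counit (R := R) c) • e' := by
          rw [map_smul, mul_smul_comm, h3]
  rw [lTensor_mulLeft_eq, ← CoalgHomClass.map_comp_comul_apply]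
  have claim : ∀ t : D R A0 ⊗[R] D R A0,
      ((1 : D R B0) ⊗ₜ[R] e') *
        TensorProduct.map (CartDual.transpose R π : D R A0 →ₗ[R] D R B0)
          (CartDual.transpose R π : D R A0 →ₗ[R] D R B0) t =
      CartDual.transpose R π
        (TensorProduct.rid R (D R A0) (LinearMap.lTensor (D R A0) Coalgebra.counit t)) ⊗ₜ[R] e' := by
    intro t
    induction t using TensorProduct.induction_on with
    | zero =>
      rw [map_zero, map_zero, map_zero, map_zero, TensorProduct.zero_tmul]
      exact mul_zero ((1 : D R B0) ⊗ₜ[R] e')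
    | add t₁ t₂ h₁ h₂ =>
      rw [map_add, map_add, map_add, map_add, TensorProduct.add_tmul, ← h₁, ← h₂]
      exact mul_add ((1 : D R B0) ⊗ₜ[R] e') _ _
    | tmul c₁ c₂ =>
      rw [TensorProduct.map_tmul, Algebra.TensorProduct.tmul_mul_tmul, one_mul, LinearMap.lTensor_tmul,
        TensorProduct.rid_tmul, map_smul]
      show CartDual.transpose R π c₁ ⊗ₜ[R] (e' * CartDual.transpose R π c₂) = _
      rw [key, TensorProduct.tmul_smul, TensorProduct.smul_tmul']
  rw [claim, Coalgebra.lTensor_counit_comul, TensorProduct.rid_tmul, one_smul]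

end EtaleInvariant

end Groth.Agent.Lib.helper24.ConnMult
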