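import Mathlib
import Groth.Agent.Lib.helper24.NilFlat

/-!
# Flatness over a ring with nilpotent ideal, tested after an injective ring map (helper24)

`flat_of_injective`: `R → R'` injective, `I ⊆ R` nilpotent, `(R/I) ⊗ M` flat over `R/I` and
`R' ⊗ M` flat over `R'` imply `M` flat over `R`.
-/

namespace Groth.Agent.Lib.helper24.NilFlat
universe u v w
open TensorProduct Function

section BaseChangeInj
variable {R : Type u} [CommRing R] (B : Type v) [CommRing B] [Algebra R B]
  (M : Type w) [AddCommGroup M] [Module R M]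

/-- If `B ⊗ M` is flat over `B`, then `- ⊗[R] M` preserves injectivity of `B`-linear maps. -/
theorem rTensor_injective_of_baseChange_flat [Module.Flat B (B ⊗[R] M)]
    {N' N : Type*} [AddCommGroup N'] [Module R N'] [Module B N'] [IsScalarTower R B N']
    [AddCommGroup N] [Module R N] [Module B N] [IsScalarTower R B N]
    (f : N' →ₗ[B] N) (hf : Injective f) : Injective ((f.restrictScalars R).rTensor M) := by
  have hflat' : Injective (f.rTensor (B ⊗[R] M)) :=
    Module.Flat.rTensor_preserves_injective_linearMap f hf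
  let e₁ := AlgebraTensorModule.cancelBaseChange R B B N' M
  let e₂ := AlgebraTensorModule.cancelBaseChange R B B N M
  have nat : ∀ z, e₂ (f.rTensor (B ⊗[R] M) z) = (f.restrictScalars R).rTensor M (e₁ z) := by
    intro z
    induction z using TensorProduct.induction_on with
    | zero => simp
    | add x y hx hy => simp only [map_add, hx, hy]
    | tmul q w =>
      induction w using TensorProduct.induction_on with
      | zero => simp
      | add x y hx hy => simp only [tmul_add, map_add, hx, hy]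
      | tmul b a => simp [e₁, e₂]
  intro x y hxy
  obtain ⟨x', rfl⟩ := e₁.surjective x
  obtain ⟨y', rfl⟩ := e₁.surjective y
  rw [← nat, ← nat] at hxy
  rw [hflat' (e₂.injective hxy)]

end BaseChangeInj

section BC
variable (R : Type u) [CommRing R] (A : Type v) [CommRing A] [Algebra R A]
  (B : Type w) [CommRing B] [Algebra R B] [Algebra A B] [IsScalarTower R A B]
  (M : Type*) [AddCommGroup M] [Module R M]

theorem flat_baseChange_of_flat_baseChange [Module.Flat A (A ⊗[R] M)] :
    Module.Flat B (B ⊗[R] M) :=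
  Module.Flat.of_linearEquiv (AlgebraTensorModule.cancelBaseChange R A B B M).symm

theorem flat_baseChange_baseChange [Module.Flat B (B ⊗[R] M)] :
    Module.Flat B (B ⊗[A] (A ⊗[R] M)) :=
  Module.Flat.of_linearEquiv (AlgebraTensorModule.cancelBaseChange R A B B M)

end BC

section Main

theorem key_inj {R : Type u} {R' : Type u} [CommRing R] [CommRing R'] [Algebra R R']
    (hinj : Injective (algebraMap R R')) (I 𝔫 : Ideal R) (h𝔫I : I * 𝔫 = ⊥)
    (M : Type u) [AddCommGroup M] [Module R M]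
    [Module.Flat (R ⧸ I) ((R ⧸ I) ⊗[R] M)] [Module.Flat R' (R' ⊗[R] M)] :
    Injective (((𝔫.map (algebraMap R R')).comap (algebraMap R R')).subtype.rTensor M) := by
  set J' : Ideal R' := 𝔫.map (algebraMap R R') with hJ'
  set 𝔫' : Ideal R := J'.comap (algebraMap R R') with h𝔫'
  let ψ' : ↥𝔫' →ₗ[R] ↥J' :=
    { toFun := fun r => ⟨algebraMap R R' r, r.2⟩
      map_add' := fun a b => Subtype.ext (map_add _ _ _)
      map_smul' := fun a r => Subtype.ext (by simp [Algebra.smul_def]) }
  have hψ' : Injective ψ' := by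
    intro a b hab
    exact Subtype.ext (hinj (congrArg Subtype.val hab))
  have hIJ : (I.map (algebraMap R R')) * J' = ⊥ := by
    rw [hJ', ← Ideal.map_mul, h𝔫I, Ideal.map_bot]
  have hmul : ∀ i ∈ I, ∀ p ∈ J', algebraMap R R' i * p = 0 := by
    intro i hi p hp
    have : algebraMap R R' i * p ∈ (I.map (algebraMap R R')) * J' :=
      Ideal.mul_mem_mul (Ideal.mem_map_of_mem _ hi) hp
    rw [hIJ] at this
    exact this
  have ha : ∀ i ∈ I, ∀ r : ↥𝔫', i • r = 0 := by
    intro i hi r
    refine Subtype.ext (hinj ?_)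
    show algebraMap R R' (i * (r : R)) = algebraMap R R' 0
    rw [map_mul, map_zero]
    exact hmul i hi _ r.2
  have hb : ∀ i ∈ I, ∀ p : ↥J', i • p = 0 := by
    intro i hi p
    refine Subtype.ext ?_
    show i • (p : R') = 0
    rw [Algebra.smul_def]
    exact hmul i hi _ p.2
  have h1 : Injective (ψ'.rTensor M) := P1 I M ha hb ψ' hψ'
  have h2 : Injective ((J'.subtype.restrictScalars R).rTensor M) :=
    rTensor_injective_of_baseChange_flat R' M J'.subtype (Submodule.injective_subtype J')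
  have hcomp : ((J'.subtype.restrictScalars R) ∘ₗ ψ') = (Algebra.linearMap R R') ∘ₗ 𝔫'.subtype :=
    LinearMap.ext fun _ => rfl
  have h3 : Injective (((Algebra.linearMap R R') ∘ₗ 𝔫'.subtype).rTensor M) := by
    rw [← hcomp, LinearMap.rTensor_comp]
    exact h2.comp h1
  rw [LinearMap.rTensor_comp] at h3
  exact Injective.of_comp h3

theorem flat_of_injective_aux (n : ℕ) : ∀ (R R' : Type u) [CommRing R] [CommRing R']
    [Algebra R R'], Injective (algebraMap R R') → ∀ (I : Ideal R), I ^ n = ⊥ →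
    ∀ (M : Type u) [AddCommGroup M] [Module R M]
    [Module.Flat (R ⧸ I) ((R ⧸ I) ⊗[R] M)] [Module.Flat R' (R' ⊗[R] M)], Module.Flat R M := by
  have base : ∀ (R : Type u) [CommRing R] (I : Ideal R), I = ⊥ →
      ∀ (M : Type u) [AddCommGroup M] [Module R M]
      [Module.Flat (R ⧸ I) ((R ⧸ I) ⊗[R] M)], Module.Flat R M := by
    intro R _ I hI M _ _ _
    refine flat_of_isNilpotent I M ⟨1, by rw [pow_one, hI]; rfl⟩ ?_
    have : Subsingleton ↥I := by rw [hI]; infer_instance
    exact Function.injective_of_subsingleton _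
  induction n with
  | zero =>
    intro R R' _ _ _ hinj I hn M _ _ _ _
    have : Subsingleton R := by
      rw [pow_zero, Ideal.one_eq_top] at hn
      exact (Submodule.subsingleton_iff R).mp (subsingleton_of_bot_eq_top hn.symm)
    exact base R I (Subsingleton.elim _ _) M
  | succ n ih =>
    rcases n with _ | n
    · intro R R' _ _ _ hinj I hn M _ _ _ _
      rw [zero_add, pow_one] at hn
      exact base R I hn M
    · intro R R' _ _ _ hinj I hn M _ _ _ _
      set 𝔫 : Ideal R := I ^ (n + 1) with h𝔫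
      have h𝔫I : I * 𝔫 = ⊥ := by rw [h𝔫, ← pow_succ', hn]
      set J' : Ideal R' := 𝔫.map (algebraMap R R') with hJ'
      set 𝔫' : Ideal R := J'.comap (algebraMap R R') with h𝔫'
      have h3' : Injective (𝔫'.subtype.rTensor M) := key_inj hinj I 𝔫 h𝔫I M
      have h𝔫sq : 𝔫 ^ 2 = ⊥ := by
        rw [h𝔫, ← pow_mul, ← le_bot_iff, ← hn]
        exact Ideal.pow_le_pow_right (by omega)
      have h𝔫'sq : 𝔫' ^ 2 = ⊥ := by
        rw [← le_bot_iff]
        calc 𝔫' ^ 2 ≤ (J' ^ 2).comap (algebraMap R R') := Ideal.le_comap_pow _ 2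
          _ = ⊥ := by
            rw [hJ', ← Ideal.map_pow, h𝔫sq, Ideal.map_bot, ← RingHom.ker_eq_comap_bot,
              (RingHom.injective_iff_ker_eq_bot _).mp hinj]
      -- the quotient situation
      let alg : Algebra (R ⧸ 𝔫') (R' ⧸ J') :=
        (Ideal.quotientMap J' (algebraMap R R') le_rfl).toAlgebra
      have : IsScalarTower R (R ⧸ 𝔫') (R' ⧸ J') := IsScalarTower.of_algebraMap_eq (fun r => rfl)
      have hinj' : Injective (algebraMap (R ⧸ 𝔫') (R' ⧸ J')) := Ideal.quotientMap_injective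
      set Ib : Ideal (R ⧸ 𝔫') := I.map (Ideal.Quotient.mk 𝔫') with hIb
      have hIbn : Ib ^ (n + 1) = ⊥ := by
        rw [hIb, ← Ideal.map_pow, ← h𝔫, Ideal.map_eq_bot_iff_le_ker, Ideal.mk_ker]
        exact Ideal.le_comap_map
      have F2a : Module.Flat (R' ⧸ J') ((R' ⧸ J') ⊗[R] M) :=
        flat_baseChange_of_flat_baseChange R R' (R' ⧸ J') M
      have F2 : Module.Flat (R' ⧸ J') ((R' ⧸ J') ⊗[R ⧸ 𝔫'] ((R ⧸ 𝔫') ⊗[R] M)) :=
        flat_baseChange_baseChange R (R ⧸ 𝔫') (R' ⧸ J') M
      let algQ : Algebra (R ⧸ I) ((R ⧸ 𝔫') ⧸ Ib) :=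
        (Ideal.quotientMap Ib (Ideal.Quotient.mk 𝔫') Ideal.le_comap_map).toAlgebra
      have : IsScalarTower R (R ⧸ I) ((R ⧸ 𝔫') ⧸ Ib) :=
        IsScalarTower.of_algebraMap_eq (fun r => rfl)
      have F1a : Module.Flat ((R ⧸ 𝔫') ⧸ Ib) (((R ⧸ 𝔫') ⧸ Ib) ⊗[R] M) :=
        flat_baseChange_of_flat_baseChange R (R ⧸ I) ((R ⧸ 𝔫') ⧸ Ib) M
      have F1 : Module.Flat ((R ⧸ 𝔫') ⧸ Ib)
          (((R ⧸ 𝔫') ⧸ Ib) ⊗[R ⧸ 𝔫'] ((R ⧸ 𝔫') ⊗[R] M)) :=
        flat_baseChange_baseChange R (R ⧸ 𝔫') ((R ⧸ 𝔫') ⧸ Ib) M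
      have : Module.Flat (R ⧸ 𝔫') ((R ⧸ 𝔫') ⊗[R] M) :=
        ih (R ⧸ 𝔫') (R' ⧸ J') hinj' Ib hIbn ((R ⧸ 𝔫') ⊗[R] M)
      exact flat_of_isNilpotent 𝔫' M ⟨2, h𝔫'sq⟩ h3'

/-- `R → R'` injective, `I` nilpotent, `(R/I) ⊗ M` flat over `R/I`, `R' ⊗ M` flat over `R'`
⇒ `M` flat over `R`. -/
theorem flat_of_injective {R R' : Type u} [CommRing R] [CommRing R'] [Algebra R R']
    (hinj : Injective (algebraMap R R')) (I : Ideal R) (hI : IsNilpotent I)
    (M : Type u) [AddCommGroup M] [Module R M]
    [Module.Flat (R ⧸ I) ((R ⧸ I) ⊗[R] M)] [Module.Flat R' (R' ⊗[R] M)] : Module.Flat R M := by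
  obtain ⟨n, hn⟩ := hI
  exact flat_of_injective_aux n R R' hinj I hn M

end Main

section Nat
variable {R : Type u} [CommRing R] (B : Type v) [CommRing B] [Algebra R B]
  (M : Type w) [AddCommGroup M] [Module R M]

/-- Tensoring a `B`-linear map with `B ⊗[R] M` over `B` is the same as tensoring it with `M` over
`R`. -/
theorem rTensor_baseChange_injective_iff
    {N' N : Type*} [AddCommGroup N'] [Module R N'] [Module B N'] [IsScalarTower R B N']
    [AddCommGroup N] [Module R N] [Module B N] [IsScalarTower R B N]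
    (f : N' →ₗ[B] N) :
    Injective (f.rTensor (B ⊗[R] M)) ↔ Injective ((f.restrictScalars R).rTensor M) := by
  let e₁ := AlgebraTensorModule.cancelBaseChange R B B N' M
  let e₂ := AlgebraTensorModule.cancelBaseChange R B B N M
  have nat : ∀ z, e₂ (f.rTensor (B ⊗[R] M) z) = (f.restrictScalars R).rTensor M (e₁ z) := by
    intro z
    induction z using TensorProduct.induction_on with
    | zero => simp
    | add x y hx hy => simp only [map_add, hx, hy]
    | tmul q w =>
      induction w using TensorProduct.induction_on with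
      | zero => simp
      | add x y hx hy => simp only [tmul_add, map_add, hx, hy]
      | tmul b a => simp [e₁, e₂]
  constructor
  · intro h x y hxy
    obtain ⟨x', rfl⟩ := e₁.surjective x
    obtain ⟨y', rfl⟩ := e₁.surjective y
    rw [← nat, ← nat] at hxy
    rw [h (e₂.injective hxy)]
  · intro h x y hxy
    apply e₁.injective
    apply h
    rw [← nat, ← nat, hxy]

end Nat

end Groth.Agent.Lib.helper24.NilFlat
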