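import Mathlib
import Groth.Agent.Lib.helper21.FlatCrit
import Groth.Agent.Lib.helper24.NilFlat2

set_option autoImplicit false
set_option linter.style.haveILetI false
universe u
open TensorProduct Function

namespace Groth.Agent.Lib.helper24.FlatTop

/-- Descent of flatness for a Noetherian `A`-algebra `B` with `m B ⊆ rad B` along `A → A'`,
provided the `m`-adic topology of `A` is induced by a filtration by ideals of `A'`. -/
theorem flat_of_baseChange_of_topology {A B A' : Type u} [CommRing A] [CommRing B] [CommRing A']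
    [IsNoetherianRing A] [IsNoetherianRing B] [Algebra A B] [Algebra A A']
    (m : Ideal A) [hmax : m.IsMaximal] (hm : m.map (algebraMap A B) ≤ Ideal.jacobson ⊥)
    (H : ∀ n : ℕ, 0 < n → ∃ (𝔟 : Ideal A') (k : ℕ),
      𝔟.comap (algebraMap A A') ≤ m ^ n ∧ m ^ k ≤ 𝔟.comap (algebraMap A A'))
    [Module.Flat A' (A' ⊗[A] B)] : Module.Flat A B := by
  refine Groth.Agent.H21.flat_of_flat_baseChange_quot_pow (B := A) (A := B) m hm B ?_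
  intro n hn
  obtain ⟨𝔟, k, h1, h2⟩ := H n hn
  set 𝔞 : Ideal A := 𝔟.comap (algebraMap A A') with h𝔞
  have h𝔞m : 𝔞 ≤ m := h1.trans (Ideal.pow_le_self hn.ne')
  -- the injective map `A/𝔞 → A'/𝔟`
  letI algRR' : Algebra (A ⧸ 𝔞) (A' ⧸ 𝔟) := (Ideal.quotientMap 𝔟 (algebraMap A A') le_rfl).toAlgebra
  have hinj : Injective (algebraMap (A ⧸ 𝔞) (A' ⧸ 𝔟)) :=
    Ideal.quotientMap_injective
  haveI tow1 : IsScalarTower A (A ⧸ 𝔞) (A' ⧸ 𝔟) := IsScalarTower.of_algebraMap_eq (fun x => rfl)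
  -- the nilpotent ideal
  set I : Ideal (A ⧸ 𝔞) := m.map (Ideal.Quotient.mk 𝔞) with hI
  have hInil : IsNilpotent I := by
    refine ⟨k, ?_⟩
    rw [hI, ← Ideal.map_pow, Ideal.zero_eq_bot, Ideal.map_eq_bot_iff_le_ker, Ideal.mk_ker]
    exact h2
  haveI hImax : I.IsMaximal :=
    Ideal.IsMaximal.map_of_surjective_of_ker_le Ideal.Quotient.mk_surjective
      (by rw [Ideal.mk_ker]; exact h𝔞m)
  letI : Field ((A ⧸ 𝔞) ⧸ I) := Ideal.Quotient.field I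
  haveI f1 : Module.Flat ((A ⧸ 𝔞) ⧸ I) (((A ⧸ 𝔞) ⧸ I) ⊗[A ⧸ 𝔞] ((A ⧸ 𝔞) ⊗[A] B)) := inferInstance
  haveI f2 : Module.Flat (A' ⧸ 𝔟) ((A' ⧸ 𝔟) ⊗[A] B) :=
    NilFlat.flat_baseChange_of_flat_baseChange A A' (A' ⧸ 𝔟) B
  haveI f3 : Module.Flat (A' ⧸ 𝔟) ((A' ⧸ 𝔟) ⊗[A ⧸ 𝔞] ((A ⧸ 𝔞) ⊗[A] B)) :=
    NilFlat.flat_baseChange_baseChange A (A ⧸ 𝔞) (A' ⧸ 𝔟) B
  haveI f4 : Module.Flat (A ⧸ 𝔞) ((A ⧸ 𝔞) ⊗[A] B) :=
    NilFlat.flat_of_injective hinj I hInil _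
  letI alg2 : Algebra (A ⧸ 𝔞) (A ⧸ m ^ n) := (Ideal.Quotient.factor h1).toAlgebra
  haveI tow2 : IsScalarTower A (A ⧸ 𝔞) (A ⧸ m ^ n) := IsScalarTower.of_algebraMap_eq (fun x => rfl)
  exact NilFlat.flat_baseChange_of_flat_baseChange A (A ⧸ 𝔞) (A ⧸ m ^ n) B

end Groth.Agent.Lib.helper24.FlatTop
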