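import Mathlib
set_option autoImplicit false
set_option linter.style.haveILetI false
universe u v w

namespace Groth.Agent.Lib.helper24.FlatUnion

open TensorProduct

variable {A : Type u} [CommRing A]

/-- the multiplication map `I ⊗ M → M` -/
noncomputable def mu (I : Ideal A) (M : Type v) [AddCommGroup M] [Module A M] :
    (I ⊗[A] M) →ₗ[A] M :=
  (TensorProduct.lid A M).toLinearMap ∘ₗ LinearMap.rTensor M I.subtype

theorem mu_tmul (I : Ideal A) (M : Type v) [AddCommGroup M] [Module A M] (i : I) (m : M) :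
    mu I M (i ⊗ₜ m) = (i : A) • m := by
  simp [mu]

theorem mu_injective_iff (I : Ideal A) (M : Type v) [AddCommGroup M] [Module A M] :
    Function.Injective (mu I M) ↔ Function.Injective (LinearMap.rTensor M I.subtype) := by
  unfold mu
  rw [LinearMap.coe_comp, LinearEquiv.coe_coe]
  exact (TensorProduct.lid A M).injective.of_comp_iff _

theorem mu_lTensor (I : Ideal A) {M : Type v} {N : Type w} [AddCommGroup M] [Module A M]
    [AddCommGroup N] [Module A N] (θ : M →ₗ[A] N) (η : I ⊗[A] M) :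
    mu I N (LinearMap.lTensor I θ η) = θ (mu I M η) := by
  induction η using TensorProduct.induction_on with
  | zero => simp
  | tmul i m => simp [mu_tmul]
  | add x y hx hy => simp only [map_add, hx, hy]

/-- A module which is a "directed union" (filtered colimit, in elementwise form) of flat modules
is flat. -/
theorem flat_of_directed {ι : Type w} (D : ι → Type v) [∀ i, AddCommGroup (D i)]
    [∀ i, Module A (D i)] (B : Type v) [AddCommGroup B] [Module A B]
    (θ : ∀ i, D i →ₗ[A] B)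
    (hdir : ∀ i j, ∃ (k : ι) (τ₁ : D i →ₗ[A] D k) (τ₂ : D j →ₗ[A] D k),
      θ k ∘ₗ τ₁ = θ i ∧ θ k ∘ₗ τ₂ = θ j)
    (hsurj : ∀ x : B, ∃ (i : ι) (y : D i), θ i y = x)
    (hker : ∀ (i : ι) (w : D i), θ i w = 0 →
      ∃ (k : ι) (τ : D i →ₗ[A] D k), θ k ∘ₗ τ = θ i ∧ τ w = 0)
    (hflat : ∀ i, Module.Flat A (D i)) : Module.Flat A B := by
  rw [Module.Flat.iff_rTensor_injective']
  intro I
  rw [← mu_injective_iff]
  have hD : ∀ i, Function.Injective (mu I (D i)) := by
    intro i
    rw [mu_injective_iff]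
    exact (Module.Flat.iff_rTensor_injective'.mp (hflat i)) I
  have claim1 : ∀ ξ : I ⊗[A] B, ∃ (i : ι) (η : I ⊗[A] D i), LinearMap.lTensor I (θ i) η = ξ := by
    intro ξ
    induction ξ using TensorProduct.induction_on with
    | zero =>
      obtain ⟨i, -, -⟩ := hsurj 0
      exact ⟨i, 0, by simp⟩
    | tmul a x =>
      obtain ⟨i, y, hy⟩ := hsurj x
      exact ⟨i, a ⊗ₜ y, by simp [hy]⟩
    | add ξ₁ ξ₂ h₁ h₂ =>
      obtain ⟨i, η₁, h₁⟩ := h₁
      obtain ⟨j, η₂, h₂⟩ := h₂
      obtain ⟨k, τ₁, τ₂, e₁, e₂⟩ := hdir i j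
      refine ⟨k, LinearMap.lTensor I τ₁ η₁ + LinearMap.lTensor I τ₂ η₂, ?_⟩
      rw [map_add, ← LinearMap.comp_apply, ← LinearMap.comp_apply, ← LinearMap.lTensor_comp,
        ← LinearMap.lTensor_comp, e₁, e₂, h₁, h₂]
  rw [← LinearMap.ker_eq_bot, LinearMap.ker_eq_bot']
  intro ξ hξ
  obtain ⟨i, η, rfl⟩ := claim1 ξ
  rw [mu_lTensor] at hξ
  obtain ⟨k, τ, e, hτ⟩ := hker i _ hξ
  have h1 : LinearMap.lTensor I τ η = 0 := by
    apply hD k
    rw [mu_lTensor, hτ, map_zero]
  rw [← e, LinearMap.lTensor_comp, LinearMap.comp_apply, h1, map_zero]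

end Groth.Agent.Lib.helper24.FlatUnion
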