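import Mathlib
set_option autoImplicit false
set_option linter.style.haveILetI false
universe u w

namespace Groth.Agent.Lib.helper24.FlatUnion2

/-- A module over a ring `B` which is a directed union of images of rings `D i`, flat over each
`D i`, is flat over `B`. -/
theorem flat_of_directed_rings {B : Type u} [CommRing B] (M : Type u) [AddCommGroup M] [Module B M]
    {ι : Type w} [Nonempty ι] (D : ι → Type u) [∀ i, CommRing (D i)] (θ : ∀ i, D i →+* B)
    (hsurj : ∀ b : B, ∃ (i : ι) (y : D i), θ i y = b)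
    (hdir : ∀ i j, ∃ (k : ι) (τ₁ : D i →+* D k) (τ₂ : D j →+* D k),
      (θ k).comp τ₁ = θ i ∧ (θ k).comp τ₂ = θ j)
    (hflat : ∀ i, ∃ (_ : Module (D i) M), (∀ (d : D i) (m : M), d • m = θ i d • m) ∧
      Module.Flat (D i) M) : Module.Flat B M := by
  -- finite families lift
  have hfam : ∀ {l : ℕ} (f : Fin l → B), ∃ (i : ι) (f' : Fin l → D i), ∀ k, θ i (f' k) = f k := by
    intro l
    induction l with
    | zero =>
      intro f
      obtain ⟨i⟩ := ‹Nonempty ι›
      exact ⟨i, Fin.elim0, fun k => k.elim0⟩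
    | succ l ih =>
      intro f
      obtain ⟨i, f', hf'⟩ := ih (Fin.tail f)
      obtain ⟨j, y, hy⟩ := hsurj (f 0)
      obtain ⟨k, τ₁, τ₂, e₁, e₂⟩ := hdir i j
      refine ⟨k, Fin.cons (τ₂ y) (fun a => τ₁ (f' a)), ?_⟩
      intro a
      refine Fin.cases ?_ (fun a => ?_) a
      · rw [Fin.cons_zero, ← RingHom.comp_apply, e₂, hy]
      · rw [Fin.cons_succ, ← RingHom.comp_apply, e₁, hf']
        rfl
  apply Module.Flat.of_forall_isTrivialRelation
  intro l f x hfx
  obtain ⟨i, f', hf'⟩ := hfam f
  obtain ⟨inst, hsm, hfl⟩ := hflat i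
  have h1 : ∑ k, f' k • x k = 0 := by
    rw [← hfx]
    refine Finset.sum_congr rfl (fun k _ => ?_)
    rw [hsm, hf']
  obtain ⟨κ, a, y, hxy, hfa⟩ := Module.Flat.isTrivialRelation_of_sum_smul_eq_zero h1
  refine ⟨κ, fun k j => θ i (a k j), y, ?_, ?_⟩
  · intro k
    rw [hxy k]
    refine Finset.sum_congr rfl (fun j _ => ?_)
    rw [hsm]
  · intro j
    have := congrArg (θ i) (hfa j)
    rw [map_sum, map_zero] at this
    rw [← this]
    refine Finset.sum_congr rfl (fun k _ => ?_)
    rw [map_mul, hf']

/-- Noetherianity descends along faithfully flat ring maps. -/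
theorem isNoetherianRing_of_faithfullyFlat (B C : Type u) [CommRing B] [CommRing C] [Algebra B C]
    [Module.FaithfullyFlat B C] [IsNoetherianRing C] : IsNoetherianRing B := by
  have hinj : Function.Injective (Ideal.map (algebraMap B C)) := by
    intro I I' h
    have h1 := Ideal.comap_map_eq_self_of_faithfullyFlat (B := C) I
    have h2 := Ideal.comap_map_eq_self_of_faithfullyFlat (B := C) I'
    rw [← h1, ← h2, h]
  have hmono : StrictMono (Ideal.map (algebraMap B C)) :=
    Monotone.strictMono_of_injective (fun _ _ h => Ideal.map_mono h) hinj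
  haveI : WellFoundedGT (Ideal C) := (isNoetherian_iff' (R := C) (M := C)).mp inferInstance
  haveI : WellFoundedGT (Ideal B) := hmono.wellFoundedGT
  exact (isNoetherian_iff' (R := B) (M := B)).mpr inferInstance

end Groth.Agent.Lib.helper24.FlatUnion2
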