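import Mathlib

/-! Kähler differentials of separably generated field extensions:
if `v` is algebraically independent over `k` and `F` is separable algebraic over `k(v)`, then
`d (v i)` is a basis of `Ω[F/k]`. -/

set_option autoImplicit false
set_option linter.style.haveILetI false

namespace Groth.Agent.Lib.helper24.FunFieldOmega

open TensorProduct KaehlerDifferential
open scoped IntermediateField.algebraAdjoinAdjoin

universe u v w

variable {k : Type u} {F : Type v} {ι : Type w} [Field k] [Field F] [Algebra k F]

/-- the map `k[X_i] → F`, `X_i ↦ v i`, is formally étale when `v` is a separating transcendence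
family. -/
theorem formallyEtale_aeval (v : ι → F) (hv : AlgebraicIndependent k v)
    [Algebra.IsSeparable (IntermediateField.adjoin k (Set.range v)) F] :
    (MvPolynomial.aeval v : MvPolynomial ι k →ₐ[k] F).toRingHom.FormallyEtale := by
  have h1 : (hv.aevalEquiv : MvPolynomial ι k →+* Algebra.adjoin k (Set.range v)).FormallyEtale := by
    letI : Algebra (MvPolynomial ι k) (Algebra.adjoin k (Set.range v)) :=
      (hv.aevalEquiv : MvPolynomial ι k →+* Algebra.adjoin k (Set.range v)).toAlgebra
    let e : MvPolynomial ι k ≃ₐ[MvPolynomial ι k] Algebra.adjoin k (Set.range v) :=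
      AlgEquiv.ofRingEquiv (f := hv.aevalEquiv.toRingEquiv) (fun x => rfl)
    exact Algebra.FormallyEtale.of_equiv e
  have h2 : (algebraMap (Algebra.adjoin k (Set.range v))
      (IntermediateField.adjoin k (Set.range v))).FormallyEtale :=
    RingHom.formallyEtale_algebraMap.mpr
      (Algebra.FormallyEtale.of_isLocalization (nonZeroDivisors (Algebra.adjoin k (Set.range v))))
  have h3 : (algebraMap (IntermediateField.adjoin k (Set.range v)) F).FormallyEtale :=
    RingHom.formallyEtale_algebraMap.mpr (Algebra.FormallyEtale.of_isSeparable _ F)
  have := (h1.comp h2).comp h3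
  convert this using 1
  ext x
  · simp
  · simp

/-- the differentials of a separating transcendence family form a basis. -/
theorem basis_D (v : ι → F) (hv : AlgebraicIndependent k v)
    [Algebra.IsSeparable (IntermediateField.adjoin k (Set.range v)) F] :
    ∃ b : Module.Basis ι F (Ω[F⁄k]), ∀ i, b i = D k F (v i) := by
  letI : Algebra (MvPolynomial ι k) F := (MvPolynomial.aeval v : MvPolynomial ι k →ₐ[k] F).toRingHom.toAlgebra
  haveI : IsScalarTower k (MvPolynomial ι k) F := IsScalarTower.of_algebraMap_eq (fun x => by
    change _ = MvPolynomial.aeval v (algebraMap k (MvPolynomial ι k) x)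
    rw [AlgHom.commutes])
  haveI : Algebra.FormallyEtale (MvPolynomial ι k) F := formallyEtale_aeval v hv
  let e := tensorKaehlerEquivOfFormallyEtale k (MvPolynomial ι k) F
  let b0 := (mvPolynomialBasis k ι).baseChange F
  refine ⟨b0.map e, fun i => ?_⟩
  rw [Module.Basis.map_apply, Module.Basis.baseChange_apply]
  change mapBaseChange k (MvPolynomial ι k) F (1 ⊗ₜ _) = _
  rw [mapBaseChange_tmul, one_smul]
  have : mvPolynomialBasis k ι i = D k _ (MvPolynomial.X i) := by
    apply (mvPolynomialBasis k ι).repr.injective
    rw [mvPolynomialBasis_repr_D_X, Module.Basis.repr_self]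
  rw [this, map_D]
  congr 1
  exact MvPolynomial.aeval_X v i

/-- over a perfect field, the Kähler differentials of a finitely generated field extension have
rank the transcendence degree. -/
theorem rank_eq_trdeg [PerfectField k] [Algebra.EssFiniteType k F] :
    Module.rank F (Ω[F⁄k]) = Algebra.trdeg k F := by
  obtain ⟨s, hs, H⟩ := exists_isTranscendenceBasis_and_isSeparable_of_perfectField k F
  haveI : Algebra.IsSeparable (IntermediateField.adjoin k (Set.range ((↑) : s → F))) F := by
    convert! H <;> simp
  obtain ⟨b, hb⟩ := basis_D ((↑) : s → F) hs.1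
  rw [← b.mk_eq_rank'', hs.cardinalMk_eq_trdeg]

end Groth.Agent.Lib.helper24.FunFieldOmega
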