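import Mathlib
import Groth.Agent.Lib.helper24.GenFreeF

set_option linter.style.haveILetI false

namespace Groth.Agent.Lib.helper24.GenFree

universe u v w

open TensorProduct

section fibre

theorem GenBasis.of_equiv {R : Type*} [CommRing R] {f : R} {M M' : Type*} [AddCommGroup M]
    [Module R M] [AddCommGroup M'] [Module R M'] (e : M ≃ₗ[R] M') (h : GenBasis f M) :
    GenBasis f M' := by
  have := GenBasis.of_injective (c := 1) e.toLinearMap e.injective h
    (fun x => ⟨0, ⟨e.symm x, by simp⟩⟩)
  rwa [mul_one] at this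

/-- L2: base change preserves exactness when the cokernel is projective. -/
theorem exact_lTensor_of_projective_coker {A : Type*} [CommRing A] {X Y Z P : Type*}
    [AddCommGroup X] [Module A X] [AddCommGroup Y] [Module A Y] [AddCommGroup Z] [Module A Z]
    [AddCommGroup P] [Module A P] [Module.Projective A P]
    (u : X →ₗ[A] Y) (v : Y →ₗ[A] Z) (π : Z →ₗ[A] P) (huv : Function.Exact u v)
    (hvπ : Function.Exact v π) (hπ : Function.Surjective π)
    (κ : Type*) [AddCommGroup κ] [Module A κ] :
    Function.Exact (u.lTensor κ) (v.lTensor κ) := by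
  obtain ⟨s, hs⟩ := Module.projective_lifting_property π LinearMap.id hπ
  have hs' : ∀ p, π (s p) = p := fun p => LinearMap.congr_fun hs p
  -- retraction onto the range of v
  let r : Z →ₗ[A] LinearMap.range v :=
    LinearMap.codRestrict (LinearMap.range v) (LinearMap.id - s ∘ₗ π) (by
      intro z
      rw [← LinearMap.exact_iff.mp hvπ, LinearMap.mem_ker]
      simp [hs'])
  have hr : r ∘ₗ (LinearMap.range v).subtype = LinearMap.id := by
    ext ⟨w, hw⟩
    have hw0 : π w = 0 := by
      obtain ⟨y, rfl⟩ := hw
      exact hvπ.apply_apply_eq_zero y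
    simp [r, hw0]
  have hv'' : Function.Exact u v.rangeRestrict := by
    intro y
    rw [← huv y]
    constructor
    · intro h
      have := congrArg Subtype.val h
      simpa using this
    · intro h
      exact Subtype.ext (by simpa using h)
  have hex : Function.Exact (u.lTensor κ) (v.rangeRestrict.lTensor κ) :=
    lTensor_exact κ hv'' v.surjective_rangeRestrict
  have hfac : v.lTensor κ = ((LinearMap.range v).subtype.lTensor κ) ∘ₗ
      (v.rangeRestrict.lTensor κ) := by
    rw [← LinearMap.lTensor_comp]
    congr 1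
  have hinj : Function.Injective ((LinearMap.range v).subtype.lTensor κ) := by
    have h1 : (r.lTensor κ) ∘ₗ ((LinearMap.range v).subtype.lTensor κ) = LinearMap.id := by
      rw [← LinearMap.lTensor_comp, hr, LinearMap.lTensor_id]
    intro a b hab
    have := congrArg (r.lTensor κ) hab
    have ha := LinearMap.congr_fun h1 a
    have hb := LinearMap.congr_fun h1 b
    simp only [LinearMap.comp_apply, LinearMap.id_apply] at ha hb
    rw [ha, hb] at this
    exact this
  intro y
  rw [← hex y, hfac, LinearMap.comp_apply]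
  constructor
  · intro h
    exact hinj (by rw [h, map_zero])
  · intro h
    rw [h, map_zero]

variable {R : Type*} [CommRing R]

theorem isLocalizedModule_mk (f : R) (Rf : Type*) [CommRing Rf] [Algebra R Rf]
    [IsLocalization.Away f Rf] (W : Type*) [AddCommGroup W] [Module R W] :
    IsLocalizedModule (Submonoid.powers f) (TensorProduct.mk R Rf W 1) :=
  (isLocalizedModule_iff_isBaseChange (Submonoid.powers f) Rf _).mpr
    (TensorProduct.isBaseChange R W Rf)

theorem eq_zero_of_powers_smul (f : R) (Rf : Type*) [CommRing Rf] [Algebra R Rf]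
    [IsLocalization.Away f Rf] {W : Type*} [AddCommGroup W] [Module R W]
    (r : Submonoid.powers f) (z : Rf ⊗[R] W) (hz : (r : R) • z = 0) : z = 0 := by
  rw [← algebraMap_smul Rf (r : R) z] at hz
  exact (IsUnit.smul_eq_zero (IsLocalization.map_units Rf r)).mp hz

/-- L1: a generically exact sequence becomes exact after inverting `f`. -/
theorem exact_lTensor_away (f : R) (Rf : Type*) [CommRing Rf] [Algebra R Rf]
    [IsLocalization.Away f Rf] {X Y Z : Type*} [AddCommGroup X] [Module R X] [AddCommGroup Y]
    [Module R Y] [AddCommGroup Z] [Module R Z] (u : X →ₗ[R] Y) (v : Y →ₗ[R] Z)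
    (ha : ∀ x, ∃ k : ℕ, f ^ k • v (u x) = 0)
    (hb : ∀ y, v y = 0 → ∃ (k : ℕ) (x : X), f ^ k • y = u x) :
    Function.Exact (u.lTensor Rf) (v.lTensor Rf) := by
  haveI := isLocalizedModule_mk f Rf X
  haveI := isLocalizedModule_mk f Rf Y
  haveI := isLocalizedModule_mk f Rf Z
  intro y'
  constructor
  · intro hy'
    obtain ⟨⟨y, s⟩, hs⟩ := IsLocalizedModule.surj (Submonoid.powers f)
      (TensorProduct.mk R Rf Y 1) y'
    simp only [TensorProduct.mk_apply, Submonoid.smul_def] at hs
    have h1 : (1 : Rf) ⊗ₜ[R] v y = 0 := by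
      have : v.lTensor Rf ((s : R) • y') = 0 := by rw [map_smul, hy', smul_zero]
      rw [hs] at this
      simpa using this
    obtain ⟨t, ht⟩ := (IsLocalizedModule.eq_zero_iff (Submonoid.powers f)
      (TensorProduct.mk R Rf Z 1)).mp h1
    rw [Submonoid.smul_def] at ht
    obtain ⟨k, x, hkx⟩ := hb ((t : R) • y) (by rw [map_smul, ht])
    set r : Submonoid.powers f := ⟨f ^ k, k, rfl⟩ * t * s with hr
    have h2 : (r : R) • y' = u.lTensor Rf ((1 : Rf) ⊗ₜ[R] x) := by
      rw [LinearMap.lTensor_tmul, ← hkx, hr]
      simp only [Submonoid.coe_mul, mul_smul]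
      rw [hs, TensorProduct.tmul_smul, TensorProduct.tmul_smul]
    have hu : IsUnit (algebraMap R Rf (r : R)) := IsLocalization.map_units Rf r
    refine ⟨((hu.unit⁻¹ : Rfˣ) : Rf) • ((1 : Rf) ⊗ₜ[R] x), ?_⟩
    have h3 : u.lTensor Rf (((hu.unit⁻¹ : Rfˣ) : Rf) • ((1 : Rf) ⊗ₜ[R] x)) =
        ((hu.unit⁻¹ : Rfˣ) : Rf) • u.lTensor Rf ((1 : Rf) ⊗ₜ[R] x) := by
      rw [TensorProduct.smul_tmul', LinearMap.lTensor_tmul, LinearMap.lTensor_tmul,
        TensorProduct.smul_tmul']
    rw [h3, ← h2, ← algebraMap_smul Rf (r : R) y', smul_smul, hu.val_inv_mul, one_smul]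
  · rintro ⟨x', rfl⟩
    obtain ⟨⟨x, s⟩, hs⟩ := IsLocalizedModule.surj (Submonoid.powers f)
      (TensorProduct.mk R Rf X 1) x'
    simp only [TensorProduct.mk_apply, Submonoid.smul_def] at hs
    obtain ⟨k, hk⟩ := ha x
    set r : Submonoid.powers f := ⟨f ^ k, k, rfl⟩ * s with hr
    apply eq_zero_of_powers_smul f Rf r
    rw [hr]
    simp only [Submonoid.coe_mul, mul_smul]
    rw [← map_smul, ← map_smul, ← map_smul, hs, LinearMap.lTensor_tmul,
      ← TensorProduct.tmul_smul, LinearMap.lTensor_tmul]
    have : v (f ^ k • u x) = 0 := by rw [map_smul, hk]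
    rw [this, TensorProduct.tmul_zero]

/-- L3: naturality of `cancelBaseChange`. -/
theorem lTensor_cancelBaseChange (A : Type*) [CommRing A] [Algebra R A] (κ : Type*) [CommRing κ]
    [Algebra R κ] [Algebra A κ] [IsScalarTower R A κ] {X Y : Type*} [AddCommGroup X] [Module R X]
    [AddCommGroup Y] [Module R Y] (u : X →ₗ[R] Y) (y : κ ⊗[A] (A ⊗[R] X)) :
    TensorProduct.AlgebraTensorModule.cancelBaseChange R A κ κ Y
      (((u.baseChange A).lTensor κ) y) =
    u.lTensor κ (TensorProduct.AlgebraTensorModule.cancelBaseChange R A κ κ X y) := by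
  induction y using TensorProduct.induction_on with
  | zero => simp
  | add a b ha hb => simp only [map_add, ha, hb]
  | tmul a z =>
    induction z using TensorProduct.induction_on with
    | zero => simp
    | add z w hz hw => simp only [TensorProduct.tmul_add, map_add, hz, hw]
    | tmul b x => simp

/-- A generically exact sequence with generically free cokernel stays exact after any base change
inverting `f`. -/
theorem exact_lTensor_of_generic (f : R) {X Y Z : Type*} [AddCommGroup X] [Module R X]
    [AddCommGroup Y] [Module R Y] [AddCommGroup Z] [Module R Z] (u : X →ₗ[R] Y) (v : Y →ₗ[R] Z)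
    (ha : ∀ x, ∃ k : ℕ, f ^ k • v (u x) = 0)
    (hb : ∀ y, v y = 0 → ∃ (k : ℕ) (x : X), f ^ k • y = u x)
    (hc : GenBasis f (Z ⧸ LinearMap.range v))
    (κ : Type*) [CommRing κ] [Algebra R κ] (hκ : IsUnit (algebraMap R κ f)) :
    Function.Exact (u.lTensor κ) (v.lTensor κ) := by
  letI : Algebra (Localization.Away f) κ := (IsLocalization.Away.lift f hκ).toAlgebra
  haveI : IsScalarTower R (Localization.Away f) κ :=
    IsScalarTower.of_algebraMap_eq' (IsLocalization.Away.lift_comp f hκ).symm
  have h1 : Function.Exact (u.baseChange (Localization.Away f))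
      (v.baseChange (Localization.Away f)) :=
    exact_lTensor_away f (Localization.Away f) u v ha hb
  have h2 : Function.Exact (v.baseChange (Localization.Away f))
      ((LinearMap.range v).mkQ.baseChange (Localization.Away f)) :=
    lTensor_exact (Localization.Away f) (LinearMap.exact_map_mkQ_range v)
      (Submodule.mkQ_surjective _)
  have hπ : Function.Surjective ((LinearMap.range v).mkQ.baseChange (Localization.Away f)) :=
    LinearMap.lTensor_surjective (Localization.Away f) (Submodule.mkQ_surjective _)
  haveI : Module.Free (Localization.Away f) (Localization.Away f ⊗[R] (Z ⧸ LinearMap.range v)) :=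
    hc.free_tensor
  have h3 := exact_lTensor_of_projective_coker (A := Localization.Away f)
    (u.baseChange (Localization.Away f)) (v.baseChange (Localization.Away f))
    ((LinearMap.range v).mkQ.baseChange (Localization.Away f)) h1 h2 hπ κ
  intro y
  set eY := TensorProduct.AlgebraTensorModule.cancelBaseChange R (Localization.Away f) κ κ Y
  set eX := TensorProduct.AlgebraTensorModule.cancelBaseChange R (Localization.Away f) κ κ X
  set eZ := TensorProduct.AlgebraTensorModule.cancelBaseChange R (Localization.Away f) κ κ Z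
  have hv := lTensor_cancelBaseChange (Localization.Away f) κ v (eY.symm y)
  rw [LinearEquiv.apply_symm_apply] at hv
  rw [← hv, LinearEquiv.map_eq_zero_iff, h3 (eY.symm y)]
  constructor
  · rintro ⟨x, hx⟩
    refine ⟨eX x, ?_⟩
    rw [← lTensor_cancelBaseChange (Localization.Away f) κ u x, hx,
      LinearEquiv.apply_symm_apply]
  · rintro ⟨x, rfl⟩
    refine ⟨eX.symm x, ?_⟩
    apply eY.injective
    rw [lTensor_cancelBaseChange (Localization.Away f) κ u, LinearEquiv.apply_symm_apply,
      LinearEquiv.apply_symm_apply]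

end fibre

end Groth.Agent.Lib.helper24.GenFree
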