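import Mathlib
import Groth.Agent.Lib.helper24.GenFreeG

set_option linter.style.haveILetI false

namespace Groth.Agent.Lib.helper24.GenFree

universe u v

section rel

variable {R : Type v} [CommRing R] {X : Type u} [AddCommGroup X] [Module R X]

/-- Relative generic basis: `X''/X'` has an `f`-generic basis (for submodules `X', X''` of `X`;
only meaningful when `X' ≤ X''`). -/
def GenBasisRel (f : R) (X' X'' : Submodule R X) : Prop :=
  ∃ (ι : Type u) (m : ι → X), (∀ i, m i ∈ X'') ∧
    (∀ l : ι →₀ R, Finsupp.linearCombination R m l ∈ X' → l = 0) ∧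
    ∀ x ∈ X'', ∃ n : ℕ, f ^ n • x ∈ Submodule.span R (Set.range m) ⊔ X'

theorem GenBasisRel.mul_right {f : R} {X' X'' : Submodule R X} (h : GenBasisRel f X' X'') (g : R) :
    GenBasisRel (f * g) X' X'' := by
  obtain ⟨ι, m, hm, hli, hsp⟩ := h
  refine ⟨ι, m, hm, hli, fun x hx => ?_⟩
  obtain ⟨n, hn⟩ := hsp x hx
  refine ⟨n, ?_⟩
  rw [mul_pow, mul_comm, mul_smul]
  exact Submodule.smul_mem _ _ hn

/-- R1: a relative generic basis from a generic basis of `Y / φ⁻¹(X')`. -/
theorem GenBasisRel.of_genBasis {f : R} {X' X'' : Submodule R X} {Y Q : Type u} [AddCommGroup Y]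
    [Module R Y] [AddCommGroup Q] [Module R Q] (φ : Y →ₗ[R] X) (π : Y →ₗ[R] Q)
    (hπ : Function.Surjective π) (hker : ∀ y, π y = 0 ↔ φ y ∈ X')
    (hφ : ∀ y, φ y ∈ X'') (hsurj : ∀ x ∈ X'', ∃ y, x - φ y ∈ X') (h : GenBasis f Q) :
    GenBasisRel f X' X'' := by
  obtain ⟨s, hs, hsp⟩ := h
  choose σ hσ using fun q : s => hπ q
  refine ⟨s, fun q => φ (σ q), fun q => hφ _, ?_, ?_⟩
  · intro l hl
    have e1 : Finsupp.linearCombination R (fun q : s => φ (σ q)) l =
        φ (Finsupp.linearCombination R σ l) := by
      rw [Finsupp.linearCombination_apply, Finsupp.linearCombination_apply, Finsupp.sum,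
        Finsupp.sum, map_sum]
      refine Finset.sum_congr rfl fun i _ => ?_
      rw [map_smul]
    rw [e1, ← hker] at hl
    have e2 : π (Finsupp.linearCombination R σ l) =
        Finsupp.linearCombination R (fun q : s => (q : Q)) l := by
      rw [Finsupp.linearCombination_apply, Finsupp.linearCombination_apply, Finsupp.sum,
        Finsupp.sum, map_sum]
      refine Finset.sum_congr rfl fun i _ => ?_
      rw [map_smul, hσ]
    rw [e2] at hl
    exact (linearIndependent_iff.mp hs) l hl
  · intro x hx
    obtain ⟨y, hy⟩ := hsurj x hx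
    obtain ⟨n, hn⟩ := hsp (π y)
    refine ⟨n, ?_⟩
    have hs' : (s : Set Q) = Set.range (fun x : s => (x : Q)) := by ext y; simp
    rw [hs'] at hn
    obtain ⟨l, hl⟩ := (Finsupp.mem_span_range_iff_exists_finsupp).mp hn
    -- f^n y - Σ l σ ∈ ker π
    have h1 : π (f ^ n • y - l.sum (fun i a => a • σ i)) = 0 := by
      rw [map_sub, map_smul, ← hl, Finsupp.sum, Finsupp.sum, map_sum, sub_eq_zero]
      refine Finset.sum_congr rfl fun i _ => ?_
      rw [map_smul, hσ]
    rw [hker] at h1
    have h2 : f ^ n • x = l.sum (fun i a => a • φ (σ i)) +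
        (φ (f ^ n • y - l.sum (fun i a => a • σ i)) + f ^ n • (x - φ y)) := by
      rw [map_sub, map_smul, smul_sub, Finsupp.sum, Finsupp.sum, map_sum]
      simp only [map_smul]
      abel
    rw [h2]
    refine Submodule.add_mem _ (Submodule.mem_sup_left ?_) (Submodule.mem_sup_right ?_)
    · rw [Finsupp.sum]
      exact Submodule.sum_mem _ fun i _ => Submodule.smul_mem _ _
        (Submodule.subset_span ⟨i, rfl⟩)
    · exact Submodule.add_mem _ h1 (Submodule.smul_mem _ _ hy)

/-- R2: chains of relative generic bases. -/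
theorem GenBasisRel.chain {f : R} (Xs : ℕ → Submodule R X) (hmono : Monotone Xs)
    (h : ∀ j, GenBasisRel f (Xs j) (Xs (j + 1))) (hex : ∀ x : X, ∃ j, x ∈ Xs j) :
    GenBasisRel f (Xs 0) ⊤ := by
  classical
  choose ι m hm hli hsp using h
  refine ⟨Σ j, ι j, fun p => m p.1 p.2, fun _ => trivial, ?_, ?_⟩
  · intro l hl
    -- decompose
    have hsum : Finsupp.linearCombination R (fun p : Σ j, ι j => m p.1 p.2) l =
        ∑ j ∈ l.splitSupport, Finsupp.linearCombination R (m j) (l.split j) := by
      rw [Finsupp.linearCombination_apply, Finsupp.sigma_sum]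
      refine Finset.sum_congr rfl fun j _ => ?_
      rw [Finsupp.linearCombination_apply]
    have hy : ∀ j, Finsupp.linearCombination R (m j) (l.split j) ∈ Xs (j + 1) := by
      intro j
      rw [Finsupp.linearCombination_apply, Finsupp.sum]
      exact Submodule.sum_mem _ fun i _ => Submodule.smul_mem _ _ (hm j i)
    by_contra hne
    have hS : l.splitSupport.Nonempty := by
      rw [Finset.nonempty_iff_ne_empty]
      intro hemp
      apply hne
      ext ⟨j, i⟩
      have : l.split j = 0 := by
        by_contra h0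
        have := (Finsupp.mem_splitSupport_iff_nonzero l j).mpr h0
        rw [hemp] at this
        exact absurd this (Finset.notMem_empty _)
      rw [← Finsupp.split_apply, this]; rfl
    set J := l.splitSupport.max' hS with hJ
    have hJmem : J ∈ l.splitSupport := Finset.max'_mem _ hS
    have hrest : ∑ j ∈ l.splitSupport.erase J,
        Finsupp.linearCombination R (m j) (l.split j) ∈ Xs J := by
      refine Submodule.sum_mem _ fun j hj => ?_
      have hjJ : j < J := by
        have h1 := Finset.le_max' _ j (Finset.mem_of_mem_erase hj)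
        exact lt_of_le_of_ne h1 (Finset.ne_of_mem_erase hj)
      exact hmono (Nat.succ_le_of_lt hjJ) (hy j)
    have htop : Finsupp.linearCombination R (m J) (l.split J) ∈ Xs J := by
      have e1 : Finsupp.linearCombination R (m J) (l.split J) =
          Finsupp.linearCombination R (fun p : Σ j, ι j => m p.1 p.2) l -
            ∑ j ∈ l.splitSupport.erase J, Finsupp.linearCombination R (m j) (l.split j) := by
        rw [hsum, ← Finset.add_sum_erase _ _ hJmem]; abel
      rw [e1]
      exact Submodule.sub_mem _ (hmono (Nat.zero_le J) hl) hrest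
    have := hli J _ htop
    exact (Finsupp.mem_splitSupport_iff_nonzero l J).mp hJmem this
  · intro x _
    obtain ⟨j, hj⟩ := hex x
    have key : ∀ j, ∀ x ∈ Xs j, ∃ n : ℕ, f ^ n • x ∈
        Submodule.span R (Set.range fun p : Σ j, ι j => m p.1 p.2) ⊔ Xs 0 := by
      intro j
      induction j with
      | zero =>
        intro x hx
        exact ⟨0, by simpa using Submodule.mem_sup_right hx⟩
      | succ j ih =>
        intro x hx
        obtain ⟨n, hn⟩ := hsp j x hx
        obtain ⟨a, ha, b, hb, hab⟩ := Submodule.mem_sup.mp hn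
        obtain ⟨k, hk⟩ := ih b hb
        refine ⟨k + n, ?_⟩
        rw [pow_add, mul_smul, ← hab, smul_add]
        refine Submodule.add_mem _ (Submodule.mem_sup_left (Submodule.smul_mem _ _ ?_)) hk
        refine Submodule.span_mono ?_ ha
        rintro _ ⟨i, rfl⟩
        exact ⟨⟨j, i⟩, rfl⟩
    exact key j x hj

/-- R3: a relative generic basis of `⊤` over `X'` is a generic basis of the quotient. -/
theorem GenBasisRel.genBasis_quotient {f : R} {X' : Submodule R X} (h : GenBasisRel f X' ⊤) :
    GenBasis f (X ⧸ X') := by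
  obtain ⟨ι, m, -, hli, hsp⟩ := h
  refine GenBasis.of_family (fun i => X'.mkQ (m i)) ?_ ?_
  · rw [linearIndependent_iff]
    intro l hl
    apply hli l
    have e1 : Finsupp.linearCombination R (fun i => X'.mkQ (m i)) l =
        X'.mkQ (Finsupp.linearCombination R m l) := by
      rw [Finsupp.linearCombination_apply, Finsupp.linearCombination_apply, Finsupp.sum,
        Finsupp.sum, map_sum]
      refine Finset.sum_congr rfl fun i _ => ?_
      rw [map_smul]
    rw [e1] at hl
    simpa using hl
  · intro x
    obtain ⟨x, rfl⟩ := Submodule.mkQ_surjective X' x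
    obtain ⟨n, hn⟩ := hsp x trivial
    refine ⟨n, ?_⟩
    obtain ⟨a, ha, b, hb, hab⟩ := Submodule.mem_sup.mp hn
    have e1 : f ^ n • X'.mkQ x = X'.mkQ a := by
      rw [← map_smul, ← hab, map_add]
      have : X'.mkQ b = 0 := by simpa using hb
      rw [this, add_zero]
    rw [e1]
    have h2 := Submodule.mem_map_of_mem (f := X'.mkQ) ha
    rw [Submodule.map_span, ← Set.range_comp] at h2
    exact h2

end rel

end Groth.Agent.Lib.helper24.GenFree
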