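import Mathlib
import Groth.Agent.Lib.helper24.GenFreeH

set_option linter.style.haveILetI false

namespace Groth.Agent.Lib.helper24.GenFree

universe u v w

section coker

variable {R : Type v} [CommRing R] [IsDomain R] [IsNoetherianRing R] {A : Type w} [CommRing A]
  [Algebra R A] [Algebra.FiniteType R A]

/-- Generic freeness of `N / M'`, `N` a finite module over `A[y_1..y_m]` and `M'` a finitely
generated `A`-submodule (`A` of finite type over the Noetherian domain `R`). -/
theorem genBasis_quot_mvPolynomial (m : ℕ) : ∀ (N : Type u) [AddCommGroup N]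
    [Module (MvPolynomial (Fin m) A) N] [Module A N] [Module R N]
    [IsScalarTower A (MvPolynomial (Fin m) A) N] [IsScalarTower R A N]
    [IsScalarTower R (MvPolynomial (Fin m) A) N] [Module.Finite (MvPolynomial (Fin m) A) N]
    (M' : Submodule A N), M'.FG → ∃ f : R, f ≠ 0 ∧ GenBasis f (N ⧸ M') := by
  induction m with
  | zero =>
    intro N _ _ _ _ _ _ _ _ M' _
    haveI : Module.Finite A (MvPolynomial (Fin 0) A) :=
      Module.Finite.equiv (MvPolynomial.isEmptyAlgEquiv A (Fin 0)).symm.toLinearEquiv
    haveI : Module.Finite A N := Module.Finite.trans (MvPolynomial (Fin 0) A) N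
    exact genBasis_of_finiteType (R := R) (S := A) (N ⧸ M')
  | succ m ih =>
    intro N _ _ _ _ _ _ _ _ M' hM'
    classical
    -- the subring of polynomials in the last `m` variables and the module structure over it
    let ρ : MvPolynomial (Fin m) A →ₐ[A] MvPolynomial (Fin (m + 1)) A :=
      MvPolynomial.rename Fin.succ
    letI : Module (MvPolynomial (Fin m) A) N :=
      Module.compHom N (ρ : MvPolynomial (Fin m) A →+* MvPolynomial (Fin (m + 1)) A)
    have hρ : ∀ (b : MvPolynomial (Fin m) A) (x : N), b • x = ρ b • x := fun _ _ => rfl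
    haveI : IsScalarTower A (MvPolynomial (Fin m) A) N := ⟨fun a b x => by
      rw [hρ, hρ, map_smul, smul_assoc]⟩
    haveI : IsScalarTower R (MvPolynomial (Fin m) A) N := ⟨fun r b x => by
      rw [hρ, hρ, ← algebraMap_smul A r b, map_smul, smul_assoc, algebraMap_smul]⟩
    set y : MvPolynomial (Fin (m + 1)) A := MvPolynomial.X 0 with hy
    have hcomm : ∀ (c : MvPolynomial (Fin (m + 1)) A) (b : MvPolynomial (Fin m) A) (x : N),
        c • (b • x) = b • (c • x) := by
      intro c b x
      rw [hρ, hρ, smul_smul, smul_smul, mul_comm]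
    -- multiplication by `y ^ i` as a linear map over the smaller ring
    let μ : ℕ → N →ₗ[MvPolynomial (Fin m) A] N := fun i =>
      { toFun := fun x => y ^ i • x
        map_add' := fun a b => smul_add _ a b
        map_smul' := fun b x => hcomm _ b x }
    have hμ : ∀ i x, μ i x = y ^ i • x := fun _ _ => rfl
    obtain ⟨s, t, ht⟩ := Module.Finite.exists_fin (R := MvPolynomial (Fin (m + 1)) A) (M := N)
    obtain ⟨T', hT'⟩ := hM'
    set N0 : Submodule (MvPolynomial (Fin m) A) N :=
      Submodule.span (MvPolynomial (Fin m) A) (Set.range t ∪ (T' : Set N)) with hN0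
    haveI : Module.Finite (MvPolynomial (Fin m) A) N0 :=
      Module.Finite.span_of_finite _ ((Set.finite_range t).union (Finset.finite_toSet T'))
    have hM'N0 : ∀ x ∈ M', x ∈ N0 := by
      intro x hx
      rw [← hT'] at hx
      induction hx using Submodule.span_induction with
      | mem z hz => exact Submodule.subset_span (Or.inr hz)
      | zero => exact N0.zero_mem
      | add a b _ _ ha hb => exact N0.add_mem ha hb
      | smul a z _ hz => exact N0.smul_of_tower_mem a hz
    -- induction hypothesis applied to N0 / M'
    set M'' : Submodule A N0 := Submodule.comap (N0.subtype.restrictScalars A) M' with hM''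
    have hM''fg : M''.FG := by
      refine Submodule.fg_of_fg_map_injective (N0.subtype.restrictScalars A)
        Subtype.val_injective ?_
      have : Submodule.map (N0.subtype.restrictScalars A) M'' = M' := by
        rw [hM'', Submodule.map_comap_eq]
        apply inf_eq_right.mpr
        intro x hx
        exact ⟨⟨x, hM'N0 x hx⟩, rfl⟩
      rw [this, ← hT']
      exact Submodule.fg_span (Finset.finite_toSet T')
    obtain ⟨f0, hf0, hQ0⟩ := ih N0 M'' hM''fg
    -- the filtration
    let Nj : ℕ → Submodule (MvPolynomial (Fin m) A) N := fun j =>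
      Nat.rec N0 (fun j P => P ⊔ Submodule.map (μ (j + 1)) N0) j
    have hNj0 : Nj 0 = N0 := rfl
    have hNjs : ∀ j, Nj (j + 1) = Nj j ⊔ Submodule.map (μ (j + 1)) N0 := fun _ => rfl
    have hNjmono : Monotone Nj := monotone_nat_of_le_succ fun j => by
      rw [hNjs]; exact le_sup_left
    have hyNj : ∀ j, ∀ x ∈ Nj j, y • x ∈ Nj (j + 1) := by
      intro j
      induction j with
      | zero =>
        intro x hx
        rw [hNjs]
        refine Submodule.mem_sup_right ⟨x, hx, ?_⟩
        rw [hμ, pow_one]
      | succ j ihj =>
        intro x hx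
        rw [hNjs] at hx
        obtain ⟨a, ha, b, hb, rfl⟩ := Submodule.mem_sup.mp hx
        rw [smul_add, hNjs (j + 1)]
        refine Submodule.add_mem _ (Submodule.mem_sup_left (ihj a ha)) (Submodule.mem_sup_right ?_)
        obtain ⟨z, hz, rfl⟩ := hb
        refine ⟨z, hz, ?_⟩
        rw [hμ, hμ, smul_smul, ← pow_succ']
    have hex : ∀ x : N, ∃ j, x ∈ Nj j := by
      have hclosed : ∀ (p : MvPolynomial (Fin (m + 1)) A) (x : N), (∃ j, x ∈ Nj j) →
          ∃ j, p • x ∈ Nj j := by
        intro p
        induction p using MvPolynomial.induction_on with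
        | C a =>
          rintro x ⟨j, hj⟩
          refine ⟨j, ?_⟩
          rw [← MvPolynomial.algebraMap_eq, algebraMap_smul]
          exact (Nj j).smul_of_tower_mem a hj
        | add p q hp hq =>
          rintro x hx
          obtain ⟨j1, h1⟩ := hp x hx
          obtain ⟨j2, h2⟩ := hq x hx
          refine ⟨max j1 j2, ?_⟩
          rw [add_smul]
          exact Submodule.add_mem _ (hNjmono (le_max_left _ _) h1) (hNjmono (le_max_right _ _) h2)
        | mul_X p i hp =>
          rintro x ⟨j, hj⟩
          rw [mul_smul]
          apply hp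
          cases i using Fin.cases with
          | zero => exact ⟨j + 1, hyNj j x hj⟩
          | succ k =>
            refine ⟨j, ?_⟩
            have : (MvPolynomial.X k.succ : MvPolynomial (Fin (m + 1)) A) • x =
                (MvPolynomial.X k : MvPolynomial (Fin m) A) • x := by
              rw [hρ]; simp [ρ]
            rw [this]
            exact (Nj j).smul_mem _ hj
      intro x
      have hx : x ∈ Submodule.span (MvPolynomial (Fin (m + 1)) A) (Set.range t) := by
        rw [ht]; trivial
      induction hx using Submodule.span_induction with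
      | mem z hz => exact ⟨0, Submodule.subset_span (Or.inl hz)⟩
      | zero => exact ⟨0, Submodule.zero_mem _⟩
      | add a b _ _ ha hb =>
        obtain ⟨j1, h1⟩ := ha
        obtain ⟨j2, h2⟩ := hb
        exact ⟨max j1 j2, Submodule.add_mem _ (hNjmono (le_max_left _ _) h1)
          (hNjmono (le_max_right _ _) h2)⟩
      | smul b a _ ha => exact hclosed b a ha
    -- the kernels K'_j and their stabilization
    let φj : ℕ → N0 →ₗ[MvPolynomial (Fin m) A] N := fun j => (μ (j + 1)) ∘ₗ N0.subtype
    let K' : ℕ → Submodule (MvPolynomial (Fin m) A) N0 := fun j =>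
      Submodule.comap (φj j) (Nj j)
    have hK'mono : Monotone K' := monotone_nat_of_le_succ fun j x hx => by
      have h1 : y ^ (j + 1) • (x : N) ∈ Nj j := hx
      show y ^ (j + 1 + 1) • (x : N) ∈ Nj (j + 1)
      rw [pow_succ', mul_smul]
      exact hyNj j _ h1
    haveI : IsNoetherianRing A := Algebra.FiniteType.isNoetherianRing R A
    haveI : IsNoetherian (MvPolynomial (Fin m) A) N0 := isNoetherian_of_isNoetherianRing_of_finite _ _
    obtain ⟨j0, hj0⟩ := (monotone_stabilizes_iff_noetherian
      (R := MvPolynomial (Fin m) A) (M := N0)).mpr inferInstance ⟨K', hK'mono⟩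
    have hgf : ∀ j, ∃ f : R, f ≠ 0 ∧ GenBasis f (N0 ⧸ K' j) := fun j =>
      genBasis_of_finiteType (R := R) (S := MvPolynomial (Fin m) A) (N0 ⧸ K' j)
    choose fj hfj0 hfj using hgf
    set f : R := f0 * ∏ j ∈ Finset.range (j0 + 1), fj j with hf
    have hfne : f ≠ 0 := mul_ne_zero hf0 (Finset.prod_ne_zero_iff.mpr fun j _ => hfj0 j)
    have hfK : ∀ j, GenBasis f (N0 ⧸ K' j) := by
      intro j
      by_cases hj : j ≤ j0
      · have hmem : j ∈ Finset.range (j0 + 1) := Finset.mem_range.mpr (Nat.lt_succ_of_le hj)
        have e1 : f = fj j * (f0 * ∏ i ∈ (Finset.range (j0 + 1)).erase j, fj i) := by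
          rw [hf, ← Finset.mul_prod_erase _ _ hmem]; ring
        rw [e1]
        exact (hfj j).mul_right _
      · have hjj : j0 ≤ j := le_of_not_ge hj
        have hKeq : K' j0 = K' j := hj0 j hjj
        have hmem : j0 ∈ Finset.range (j0 + 1) := Finset.mem_range.mpr (Nat.lt_succ_self _)
        have e1 : f = fj j0 * (f0 * ∏ i ∈ (Finset.range (j0 + 1)).erase j0, fj i) := by
          rw [hf, ← Finset.mul_prod_erase _ _ hmem]; ring
        have h1 : GenBasis f (N0 ⧸ K' j0) := by
          rw [e1]; exact (hfj j0).mul_right _
        exact h1.of_equiv ((Submodule.quotEquivOfEq _ _ hKeq).restrictScalars R)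
    have hf0Q : GenBasis f (N0 ⧸ M'') := hQ0.mul_right _
    -- the chain of R-submodules
    let Xs : ℕ → Submodule R N := fun j =>
      Nat.rec (M'.restrictScalars R) (fun j _ => (Nj j).restrictScalars R) j
    have hXs0 : Xs 0 = M'.restrictScalars R := rfl
    have hXss : ∀ j, Xs (j + 1) = (Nj j).restrictScalars R := fun _ => rfl
    have hXsmono : Monotone Xs := monotone_nat_of_le_succ fun j => by
      cases j with
      | zero =>
        intro x hx
        rw [hXss]
        exact hM'N0 x hx
      | succ j =>
        intro x hx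
        have hx' : x ∈ Nj j := hx
        show x ∈ Nj (j + 1)
        exact hNjmono (Nat.le_succ j) hx'
    have hrel : ∀ j, GenBasisRel f (Xs j) (Xs (j + 1)) := by
      intro j
      cases j with
      | zero =>
        refine GenBasisRel.of_genBasis (Y := N0) (Q := N0 ⧸ M'')
          (N0.subtype.restrictScalars R) (M''.mkQ.restrictScalars R)
          (Submodule.mkQ_surjective M'') ?_ ?_ ?_ hf0Q
        · intro z
          simp only [LinearMap.restrictScalars_apply, Submodule.mkQ_apply,
            Submodule.Quotient.mk_eq_zero]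
          rfl
        · intro z
          exact z.2
        · intro x hx
          exact ⟨⟨x, hx⟩, by simp⟩
      | succ j =>
        refine GenBasisRel.of_genBasis (Y := N0) (Q := N0 ⧸ K' j)
          ((φj j).restrictScalars R) ((K' j).mkQ.restrictScalars R)
          (Submodule.mkQ_surjective (K' j)) ?_ ?_ ?_ (hfK j)
        · intro z
          simp only [LinearMap.restrictScalars_apply, Submodule.mkQ_apply,
            Submodule.Quotient.mk_eq_zero]
          rfl
        · intro z
          show μ (j + 1) (z : N) ∈ Nj (j + 1)
          rw [hNjs]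
          exact Submodule.mem_sup_right ⟨z, z.2, rfl⟩
        · intro x hx
          have hx' : x ∈ Nj (j + 1) := hx
          rw [hNjs] at hx'
          obtain ⟨a, ha, b, hb, rfl⟩ := Submodule.mem_sup.mp hx'
          obtain ⟨z, hz, rfl⟩ := hb
          refine ⟨⟨z, hz⟩, ?_⟩
          have : a + μ (j + 1) z - ((φj j).restrictScalars R) ⟨z, hz⟩ = a := by
            simp [φj]
          rw [this]
          exact ha
    have hexs : ∀ x : N, ∃ j, x ∈ Xs j := by
      intro x
      obtain ⟨j, hj⟩ := hex x
      exact ⟨j + 1, hj⟩
    have hfinal := (GenBasisRel.chain Xs hXsmono hrel hexs).genBasis_quotient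
    rw [hXs0] at hfinal
    exact ⟨f, hfne, hfinal.of_equiv (Submodule.Quotient.restrictScalarsEquiv R M')⟩

end coker

end Groth.Agent.Lib.helper24.GenFree
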