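import Mathlib

/-!
# Annihilators of homogeneous elements and Proj (helper24)

General `SetLike` gradings by `ℕ`: the annihilator of a homogeneous element is homogeneous; a
homogeneous element which is locally killed at every point of `D_+(t)` is killed by a power of `t`.
-/

set_option autoImplicit false
set_option linter.style.haveILetI false
set_option linter.unusedSectionVars false

universe u

namespace Groth.Agent.Lib.helper24.GrAnn

open DirectSum

variable {A σ : Type u} [CommRing A] [SetLike σ A] [AddSubgroupClass σ A] (𝒜 : ℕ → σ)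
  [GradedRing 𝒜]

theorem exists_homog_notMem (x : ProjectiveSpectrum 𝒜) :
    ∃ (i : ℕ) (f : A), 0 < i ∧ f ∈ 𝒜 i ∧ f ∉ x.asHomogeneousIdeal := by
  classical
  by_contra hcon
  push Not at hcon
  apply x.not_irrelevant_le
  intro z hz
  have hz' : z ∈ HomogeneousIdeal.irrelevant 𝒜 := hz
  rw [HomogeneousIdeal.mem_irrelevant_iff, GradedRing.proj_apply] at hz'
  rw [← DirectSum.sum_support_decompose 𝒜 z]
  refine Ideal.sum_mem _ fun c _ => ?_
  by_cases hc0 : c = 0
  · subst hc0
    rw [hz']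
    exact Ideal.zero_mem _
  · exact hcon c _ (Nat.pos_iff_ne_zero.mpr hc0) (DirectSum.decompose 𝒜 z c).2

variable {M τ : Type u} [AddCommGroup M] [Module A M] [SetLike τ M] [AddSubgroupClass τ M]
  (ℳ : ℕ → τ) [SetLike.GradedSMul 𝒜 ℳ] [DirectSum.Decomposition ℳ]

theorem coe_decompose_smul {j : ℕ} {w : M} (hw : w ∈ ℳ j) (u : A) (i : ℕ) :
    (decompose ℳ (u • w) (i + j) : M) = (decompose 𝒜 u i : A) • w := by
  classical
  conv_lhs => rw [← sum_support_decompose 𝒜 u, Finset.sum_smul]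
  rw [decompose_sum, DFinsupp.finsetSum_apply, AddSubmonoidClass.coe_finsetSum]
  have hterm : ∀ i' : ℕ, ((decompose ℳ ((decompose 𝒜 u i' : A) • w)) (i + j) : M) =
      if i' = i then (decompose 𝒜 u i' : A) • w else 0 := by
    intro i'
    have hmem : (decompose 𝒜 u i' : A) • w ∈ ℳ (i' + j) := by
      have := SetLike.GradedSMul.smul_mem (A := 𝒜) (B := ℳ) (decompose 𝒜 u i').2 hw
      simpa [vadd_eq_add] using this
    split_ifs with h
    · subst h
      exact decompose_of_mem_same ℳ hmem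
    · have : i' + j ≠ i + j := by omega
      exact decompose_of_mem_ne ℳ hmem this
  simp only [hterm]
  rw [Finset.sum_ite_eq']
  split_ifs with h
  · rfl
  · rw [DFinsupp.notMem_support_iff] at h
    rw [h]
    simp

/-- the annihilator of a homogeneous element is a homogeneous ideal -/
theorem ann_homog {j : ℕ} {w : M} (hw : w ∈ ℳ j) (u : A) (hu : u • w = 0) (i : ℕ) :
    (decompose 𝒜 u i : A) • w = 0 := by
  rw [← coe_decompose_smul 𝒜 ℳ hw u i, hu, decompose_zero]
  rfl

theorem exists_pow_smul_eq_zero {j : ℕ} {w : M} (hw : w ∈ ℳ j) {e : ℕ} (he : 0 < e) {t : A}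
    (ht : t ∈ 𝒜 e)
    (hpt : ∀ x : ProjectiveSpectrum 𝒜, t ∉ x.asHomogeneousIdeal →
      ∃ u : A, u ∉ x.asHomogeneousIdeal ∧ u • w = 0) :
    ∃ k : ℕ, t ^ k • w = 0 := by
  classical
  let J : Ideal A := LinearMap.ker (LinearMap.toSpanSingleton A M w)
  have hJ : ∀ u, u ∈ J ↔ u • w = 0 := fun u => by
    rw [LinearMap.mem_ker, LinearMap.toSpanSingleton_apply]
  by_contra hcon
  push Not at hcon
  have htrad : t ∉ J.radical := by
    rintro ⟨k, hk⟩
    exact hcon k ((hJ _).mp hk)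
  rw [Ideal.radical_eq_sInf, Ideal.mem_sInf] at htrad
  push Not at htrad
  obtain ⟨P, ⟨hJP, hP⟩, htP⟩ := htrad
  have hcore_le : (P.homogeneousCore 𝒜).toIdeal ≤ P := Ideal.toIdeal_homogeneousCore_le 𝒜 P
  have htcore : t ∉ (P.homogeneousCore 𝒜).toIdeal := fun h => htP (hcore_le h)
  let x : ProjectiveSpectrum 𝒜 :=
    ⟨P.homogeneousCore 𝒜, hP.homogeneousCore, fun hle => htcore (hle (by
      show t ∈ HomogeneousIdeal.irrelevant 𝒜
      rw [HomogeneousIdeal.mem_irrelevant_iff, GradedRing.proj_apply]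
      exact decompose_of_mem_ne 𝒜 ht (by omega)))⟩
  obtain ⟨u, hux, huw⟩ := hpt x htcore
  apply hux
  change u ∈ (P.homogeneousCore 𝒜).toIdeal
  rw [← sum_support_decompose 𝒜 u]
  refine Ideal.sum_mem _ fun i _ => ?_
  apply Ideal.mem_homogeneousCore_of_homogeneous_of_mem ⟨i, (decompose 𝒜 u i).2⟩
  apply hJP
  rw [hJ]
  exact ann_homog 𝒜 ℳ hw u huw i

/-- a homogeneous element locally killed everywhere on `Proj` is killed by a power of the
irrelevant ideal, when the latter is finitely generated. -/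
theorem exists_pow_irrelevant_smul_eq_zero (hfg : (HomogeneousIdeal.irrelevant 𝒜).toIdeal.FG)
    {j : ℕ} {w : M} (hw : w ∈ ℳ j)
    (hpt : ∀ x : ProjectiveSpectrum 𝒜, ∃ u : A, u ∉ x.asHomogeneousIdeal ∧ u • w = 0) :
    ∃ k : ℕ, ∀ r : A, r ∈ (HomogeneousIdeal.irrelevant 𝒜).toIdeal ^ k → r • w = 0 := by
  classical
  let J : Ideal A := LinearMap.ker (LinearMap.toSpanSingleton A M w)
  have hJ : ∀ u, u ∈ J ↔ u • w = 0 := fun u => by
    rw [LinearMap.mem_ker, LinearMap.toSpanSingleton_apply]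
  have hle : (HomogeneousIdeal.irrelevant 𝒜).toIdeal ≤ J.radical := by
    intro z hz
    have hz' : z ∈ HomogeneousIdeal.irrelevant 𝒜 := hz
    rw [HomogeneousIdeal.mem_irrelevant_iff, GradedRing.proj_apply] at hz'
    rw [← sum_support_decompose 𝒜 z]
    refine Ideal.sum_mem _ fun c _ => ?_
    by_cases hc0 : c = 0
    · subst hc0
      rw [hz']
      exact Ideal.zero_mem _
    · obtain ⟨k, hk⟩ := exists_pow_smul_eq_zero 𝒜 ℳ hw (Nat.pos_iff_ne_zero.mpr hc0)
        (decompose 𝒜 z c).2 (fun x _ => hpt x)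
      exact ⟨k, (hJ _).mpr hk⟩
  obtain ⟨k, hk⟩ := Ideal.exists_pow_le_of_le_radical_of_fg hle hfg
  exact ⟨k, fun r hr => (hJ r).mp (hk hr)⟩

end Groth.Agent.Lib.helper24.GrAnn
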