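import Mathlib
import Groth.Prelude.Def_AssocGrMod
import Groth.Prelude.Def_GrMap
import Groth.Agent.Lib.helper24.AdicApprox

/-!
# Associated graded modules and successive approximation (helper24)

`cls F n z` is the class of `z ∈ Nₙ` in `gr_F(M)` (zero when `z ∉ Nₙ`), a total function avoiding
dependent types.  Main results: `decompose_smul_of_mem` (homogeneous components of `g • v`),
`exists_approx_of_mem_span` (membership of a class in the `G`-span of classes gives an approximation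
modulo `Nₙ₊₁`), `eq_sum_of_span_cls`, `fg_of_fg_span_cls`, `closed_of_fg_span_cls`.
-/

namespace Groth.Agent.Lib.helper24.GrApprox
universe u
open AssocGr DirectSum

section Mod
variable {A : Type u} [CommRing A] {I : Ideal A} {M : Type u} [AddCommGroup M] [Module A M]
  (F : I.Filtration M)

/-- class of `z` in degree `n` (`0` if `z ∉ Nₙ`). -/
noncomputable def cls (n : ℕ) (z : M) : GrMod F :=
  open Classical in if h : z ∈ F.N n then (inDegM F n ⟨z, h⟩ : GrMod F) else 0

theorem cls_of_mem {n : ℕ} {z : M} (h : z ∈ F.N n) :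
    cls F n z = (inDegM F n ⟨z, h⟩ : GrMod F) := dif_pos h

theorem cls_mem_grM (n : ℕ) (z : M) : cls F n z ∈ grM F n := by
  unfold cls
  split_ifs with h
  · exact (inDegM F n ⟨z, h⟩).2
  · exact (grM F n).zero_mem

theorem cls_zero (n : ℕ) : cls F n 0 = 0 := by
  rw [cls_of_mem F (F.N n).zero_mem]
  have : (⟨0, (F.N n).zero_mem⟩ : F.N n) = 0 := rfl
  rw [this, map_zero]
  rfl

theorem cls_add {n : ℕ} {z w : M} (hz : z ∈ F.N n) (hw : w ∈ F.N n) :
    cls F n (z + w) = cls F n z + cls F n w := by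
  rw [cls_of_mem F hz, cls_of_mem F hw, cls_of_mem F ((F.N n).add_mem hz hw)]
  have : (⟨z + w, (F.N n).add_mem hz hw⟩ : F.N n) = ⟨z, hz⟩ + ⟨w, hw⟩ := rfl
  rw [this, map_add]
  rfl

theorem cls_neg {n : ℕ} {z : M} (hz : z ∈ F.N n) : cls F n (-z) = - cls F n z := by
  have h := cls_add F hz ((F.N n).neg_mem hz)
  rw [add_neg_cancel, cls_zero] at h
  exact (neg_eq_of_add_eq_zero_right h.symm).symm

theorem cls_sub {n : ℕ} {z w : M} (hz : z ∈ F.N n) (hw : w ∈ F.N n) :
    cls F n (z - w) = cls F n z - cls F n w := by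
  rw [sub_eq_add_neg, cls_add F hz ((F.N n).neg_mem hw), cls_neg F hw, ← sub_eq_add_neg]

theorem cls_sum {n : ℕ} {ι : Type*} (s : Finset ι) (f : ι → M) (hf : ∀ i ∈ s, f i ∈ F.N n) :
    cls F n (∑ i ∈ s, f i) = ∑ i ∈ s, cls F n (f i) := by
  classical
  induction s using Finset.induction_on with
  | empty => simp [cls_zero]
  | insert a s ha ih =>
    rw [Finset.sum_insert ha, Finset.sum_insert ha,
      cls_add F (hf a (Finset.mem_insert_self a s))
        ((F.N n).sum_mem fun i hi => hf i (Finset.mem_insert_of_mem hi)),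
      ih fun i hi => hf i (Finset.mem_insert_of_mem hi)]

theorem cls_eq_zero_iff {n : ℕ} {z : M} (hz : z ∈ F.N n) : cls F n z = 0 ↔ z ∈ F.N (n + 1) := by
  rw [cls_of_mem F hz, ZeroMemClass.coe_eq_zero, inDegM_eq_zero_iff]

theorem exists_cls_of_mem_grM {n : ℕ} {v : GrMod F} (hv : v ∈ grM F n) :
    ∃ z ∈ F.N n, cls F n z = v := by
  obtain ⟨x, hx⟩ := inDegM_surjective F n ⟨v, hv⟩
  refine ⟨x.1, x.2, ?_⟩
  rw [cls_of_mem F x.2]
  exact congrArg Subtype.val hx

theorem inDeg_smul_cls {m n : ℕ} {a : A} (ha : a ∈ I ^ m) {x : M} (hx : x ∈ F.N n) :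
    (inDeg (FiltBl.IdealFiltration.adic I) m ⟨a, ha⟩ : GrRing (FiltBl.IdealFiltration.adic I)) •
      cls F n x = cls F (m + n) (a • x) := by
  have hax : a • x ∈ F.N (m + n) := F.pow_smul_le m n (Submodule.smul_mem_smul ha hx)
  rw [cls_of_mem F hx, cls_of_mem F hax]
  exact inDeg_smul_inDegM F m n ⟨a, ha⟩ ⟨x, hx⟩

/-- Homogeneous components of `g • v` for `v` homogeneous of degree `d`. -/
theorem decompose_smul_of_mem (g : GrRing (FiltBl.IdealFiltration.adic I)) {d : ℕ} {v : GrMod F}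
    (hv : v ∈ grM F d) (n : ℕ) :
    (decompose (grM F) (g • v) n : GrMod F) =
      if d ≤ n then ((decompose (gr (FiltBl.IdealFiltration.adic I)) g (n - d) :
        GrRing (FiltBl.IdealFiltration.adic I))) • v else 0 := by
  induction g using DirectSum.Decomposition.inductionOn (gr (FiltBl.IdealFiltration.adic I)) with
  | zero =>
    rw [zero_smul, decompose_zero, decompose_zero]
    simp
  | @homogeneous m g =>
    have hgv : (g : GrRing (FiltBl.IdealFiltration.adic I)) • v ∈ grM F (m + d) :=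
      SetLike.GradedSMul.smul_mem g.2 hv
    by_cases hmn : m + d = n
    · subst hmn
      rw [decompose_of_mem_same _ hgv, if_pos (Nat.le_add_left d m), Nat.add_sub_cancel,
        decompose_of_mem_same _ g.2]
    · rw [decompose_of_mem_ne _ hgv hmn]
      split_ifs with hdn
      · rw [decompose_of_mem_ne _ g.2 (by omega : m ≠ n - d), zero_smul]
      · rfl
  | add g g' ih ih' =>
    rw [add_smul, decompose_add, DirectSum.add_apply, AddSubgroup.coe_add, ih, ih', decompose_add,
      DirectSum.add_apply, Submodule.coe_add]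
    split_ifs
    · rw [add_smul]
    · rw [add_zero]

/-- If the class of `z ∈ Nₙ` lies in the `G`-span of the classes of the `yᵢ ∈ N_{dᵢ}`, then `z` is
congruent modulo `Nₙ₊₁` to a combination of the `yᵢ` with coefficients in `I^(n-dᵢ)`. -/
theorem exists_approx_of_mem_span {ι : Type*} [Fintype ι] (d : ι → ℕ) (y : ι → M)
    (hy : ∀ i, y i ∈ F.N (d i)) {n : ℕ} {z : M} (hz : z ∈ F.N n)
    (hmem : cls F n z ∈ Submodule.span (GrRing (FiltBl.IdealFiltration.adic I))
      (Set.range fun i => cls F (d i) (y i))) :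
    ∃ a : ι → A, (∀ i, a i ∈ I ^ (n - d i)) ∧ z - ∑ i, a i • y i ∈ F.N (n + 1) := by
  classical
  obtain ⟨g, hg⟩ := (Submodule.mem_span_range_iff_exists_fun _).mp hmem
  -- choose coefficients
  have hch : ∀ i, ∃ a : A, ∃ ha : a ∈ I ^ (n - d i),
      (inDeg (FiltBl.IdealFiltration.adic I) (n - d i) ⟨a, ha⟩ :
        GrRing (FiltBl.IdealFiltration.adic I)) =
      (decompose (gr (FiltBl.IdealFiltration.adic I)) (g i) (n - d i) :
        GrRing (FiltBl.IdealFiltration.adic I)) := by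
    intro i
    obtain ⟨a, ha⟩ := inDeg_surjective (FiltBl.IdealFiltration.adic I) (n - d i)
      (decompose (gr (FiltBl.IdealFiltration.adic I)) (g i) (n - d i))
    exact ⟨a.1, a.2, congrArg Subtype.val ha⟩
  choose a ha1 ha2 using hch
  let a' : ι → A := fun i => if d i ≤ n then a i else 0
  have ha'mem : ∀ i, a' i • y i ∈ F.N n := by
    intro i
    by_cases h : d i ≤ n
    · have : a i • y i ∈ F.N (n - d i + d i) :=
        F.pow_smul_le _ _ (Submodule.smul_mem_smul (ha1 i) (hy i))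
      rw [Nat.sub_add_cancel h] at this
      simpa [a', h] using this
    · simp [a', h]
  refine ⟨a', fun i => ?_, ?_⟩
  · by_cases h : d i ≤ n
    · simpa [a', h] using ha1 i
    · simp [a', h]
  · have hsum : (∑ i, a' i • y i) ∈ F.N n := (F.N n).sum_mem fun i _ => ha'mem i
    rw [← cls_eq_zero_iff F ((F.N n).sub_mem hz hsum), cls_sub F hz hsum,
      cls_sum F _ _ (fun i _ => ha'mem i), sub_eq_zero]
    have h1 : (decompose (grM F) (cls F n z) n : GrMod F) = cls F n z :=
      decompose_of_mem_same _ (cls_mem_grM F n z)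
    rw [← h1, ← hg, decompose_sum, DFinsupp.finsetSum_apply, AddSubgroup.val_finsetSum]
    refine Finset.sum_congr rfl fun i _ => ?_
    rw [decompose_smul_of_mem F (g i) (cls_mem_grM F (d i) (y i))]
    by_cases h : d i ≤ n
    · rw [if_pos h, ← ha2 i, inDeg_smul_cls F (ha1 i) (hy i), Nat.sub_add_cancel h]
      simp [a', h]
    · rw [if_neg h]
      simp [a', h, cls_zero]

/-- The set of all classes of elements of the submodule `M'`. -/
def clsSet (M' : Submodule A M) : Set (GrMod F) :=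
  {v | ∃ n z, z ∈ M' ∧ z ∈ F.N n ∧ cls F n z = v}

theorem span_clsSet_top :
    Submodule.span (GrRing (FiltBl.IdealFiltration.adic I)) (clsSet F ⊤) = ⊤ := by
  classical
  rw [eq_top_iff]
  intro v _
  rw [← DirectSum.sum_support_decompose (grM F) v]
  refine Submodule.sum_mem _ fun n _ => Submodule.subset_span ?_
  obtain ⟨z, hz, hzv⟩ := exists_cls_of_mem_grM F (decompose (grM F) v n).2
  exact ⟨n, z, Submodule.mem_top, hz, hzv⟩

theorem exists_family_of_fg_span_clsSet (M' : Submodule A M)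
    (hfg : (Submodule.span (GrRing (FiltBl.IdealFiltration.adic I)) (clsSet F M')).FG) :
    ∃ (T : Finset (GrMod F)) (d : ↥T → ℕ) (y : ↥T → M), (∀ i, y i ∈ M') ∧
      (∀ i, y i ∈ F.N (d i)) ∧
      ∀ n z, z ∈ M' → z ∈ F.N n → ∃ a : ↥T → A, (∀ i, a i ∈ I ^ (n - d i)) ∧
        z - ∑ i, a i • y i ∈ F.N (n + 1) := by
  classical
  obtain ⟨T, hTs, hT⟩ := (Submodule.fg_span_iff_fg_span_finset_subset _).mp hfg
  have hch : ∀ t : ↥T, ∃ n z, z ∈ M' ∧ z ∈ F.N n ∧ cls F n z = (t : GrMod F) := fun t => hTs t.2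
  choose d y hyM hy hcls using hch
  refine ⟨T, d, y, hyM, hy, fun n z hzM hz => ?_⟩
  refine exists_approx_of_mem_span F d y hy hz ?_
  have hr : (Set.range fun i : ↥T => cls F (d i) (y i)) = (↑T : Set (GrMod F)) := by
    have : (fun i : ↥T => cls F (d i) (y i)) = fun i : ↥T => (i : GrMod F) := funext hcls
    rw [this]
    exact Subtype.range_coe
  rw [hr, ← hT]
  exact Submodule.subset_span ⟨n, z, hzM, hz, rfl⟩

variable [IsPrecomplete I A]

theorem fg_of_fg_span_clsSet (h0 : F.N 0 = ⊤) (hsep : ⨅ n, F.N n = ⊥) (M' : Submodule A M)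
    (hfg : (Submodule.span (GrRing (FiltBl.IdealFiltration.adic I)) (clsSet F M')).FG) :
    M'.FG := by
  obtain ⟨T, d, y, hyM, hy, H⟩ := exists_family_of_fg_span_clsSet F M' hfg
  have : M' = Submodule.span A (Set.range y) := by
    refine le_antisymm (fun z hz => ?_) (Submodule.span_le.mpr ?_)
    · obtain ⟨b, _, hb⟩ := AdicApprox.approx I F hsep M' d y hyM hy H 0 z hz
        (by rw [h0]; trivial)
      rw [hb]
      exact Submodule.sum_mem _ fun i _ =>
        Submodule.smul_mem _ _ (Submodule.subset_span ⟨i, rfl⟩)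
    · rintro _ ⟨i, rfl⟩
      exact hyM i
  rw [this]
  exact Submodule.fg_span (Set.finite_range y)

theorem closed_of_fg_span_clsSet (hsep : ⨅ n, F.N n = ⊥) (M' : Submodule A M)
    (hfg : (Submodule.span (GrRing (FiltBl.IdealFiltration.adic I)) (clsSet F M')).FG) :
    ⨅ n, M' ⊔ F.N n = M' := by
  obtain ⟨T, d, y, hyM, hy, H⟩ := exists_family_of_fg_span_clsSet F M' hfg
  refine le_antisymm (fun w hw => ?_) (le_iInf fun n => le_sup_left)
  exact AdicApprox.mem_of_forall_mem_sup I F hsep M' d y hyM hy H w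
    (fun n => (Submodule.mem_iInf _).mp hw n)

end Mod

section Ring
variable {A : Type u} {B : Type u} [CommRing A] [CommRing B] {φ : A →+* B}
  {𝓕 : FiltBl.IdealFiltration A} {𝓖 : FiltBl.IdealFiltration B} (h : IsFiltHom φ 𝓕 𝓖)

/-- The induced map on associated graded rings commutes with homogeneous components. -/
theorem decompose_map (x : GrRing 𝓕) (n : ℕ) :
    (decompose (gr 𝓖) (AssocGr.map h x) n : GrRing 𝓖) =
      AssocGr.map h (decompose (gr 𝓕) x n : GrRing 𝓕) := by
  induction x using DirectSum.Decomposition.inductionOn (gr 𝓕) with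
  | zero => rw [map_zero, decompose_zero, decompose_zero]; simp
  | @homogeneous m x =>
    have hx : AssocGr.map h (x : GrRing 𝓕) ∈ gr 𝓖 m := map_mem_gr h x.2
    by_cases hmn : m = n
    · subst hmn
      rw [decompose_of_mem_same _ hx, decompose_of_mem_same _ x.2]
    · rw [decompose_of_mem_ne _ hx hmn, decompose_of_mem_ne _ x.2 hmn, map_zero]
  | add x x' ih ih' =>
    rw [map_add, decompose_add, DirectSum.add_apply, Submodule.coe_add, ih, ih', decompose_add,
      DirectSum.add_apply, Submodule.coe_add, map_add]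

theorem inDeg_eq_inDeg_iff {n : ℕ} (b b' : 𝓖.F n) :
    inDeg 𝓖 n b = inDeg 𝓖 n b' ↔ (b : B) - b' ∈ 𝓖.F (n + 1) := by
  rw [← sub_eq_zero, ← map_sub, inDeg_eq_zero_iff]
  rfl

theorem exists_of_map_surjective (hs : Function.Surjective (AssocGr.map h)) (n : ℕ)
    (b : 𝓖.F n) : ∃ a : 𝓕.F n, φ a - b ∈ 𝓖.F (n + 1) := by
  obtain ⟨x, hx⟩ := hs (inDeg 𝓖 n b : GrRing 𝓖)
  obtain ⟨a, ha⟩ := inDeg_surjective 𝓕 n (decompose (gr 𝓕) x n)
  refine ⟨a, ?_⟩
  have h1 := decompose_map h x n
  rw [hx, decompose_of_mem_same _ (inDeg 𝓖 n b).2, ← ha, map_inDeg] at h1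
  have h2 := (inDeg_eq_inDeg_iff (𝓖 := 𝓖) ⟨φ a, h.apply_mem a.2⟩ b).mp (Subtype.ext h1.symm)
  exact h2

theorem map_surjective_of_degreewise
    (hs : ∀ (n : ℕ) (b : 𝓖.F n), ∃ a : 𝓕.F n, φ a - b ∈ 𝓖.F (n + 1)) :
    Function.Surjective (AssocGr.map h) := by
  intro y
  induction y using DirectSum.Decomposition.inductionOn (gr 𝓖) with
  | zero => exact ⟨0, map_zero _⟩
  | @homogeneous n y =>
    obtain ⟨b, rfl⟩ := inDeg_surjective 𝓖 n y
    obtain ⟨a, ha⟩ := hs n b
    refine ⟨(inDeg 𝓕 n a : GrRing 𝓕), ?_⟩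
    rw [map_inDeg]
    exact congrArg Subtype.val
      ((inDeg_eq_inDeg_iff (𝓖 := 𝓖) ⟨φ a, h.apply_mem a.2⟩ b).mpr ha)
  | add y y' ih ih' =>
    obtain ⟨x, rfl⟩ := ih
    obtain ⟨x', rfl⟩ := ih'
    exact ⟨x + x', map_add _ _ _⟩

theorem map_injective_of_degreewise
    (hi : ∀ (n : ℕ) (a : 𝓕.F n), φ a ∈ 𝓖.F (n + 1) → (a : A) ∈ 𝓕.F (n + 1)) :
    Function.Injective (AssocGr.map h) := by
  rw [injective_iff_map_eq_zero]
  intro x hx
  apply (DirectSum.decompose (gr 𝓕)).injective
  rw [decompose_zero]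
  refine DFinsupp.ext fun n => ?_
  obtain ⟨a, ha⟩ := inDeg_surjective 𝓕 n (decompose (gr 𝓕) x n)
  have h1 := decompose_map h x n
  rw [hx, decompose_zero, ← ha, map_inDeg] at h1
  have h2 : inDeg 𝓖 n ⟨φ a, h.apply_mem a.2⟩ = 0 := Subtype.ext h1.symm
  rw [inDeg_eq_zero_iff] at h2
  have h3 := hi n a h2
  rw [← inDeg_eq_zero_iff, ha] at h3
  exact h3

end Ring

end Groth.Agent.Lib.helper24.GrApprox
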