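import Mathlib
import Groth.Agent.Lib.helper24.GrAnn

/-!
# Sections of `M(n)~` over `D_+(f)` are single fractions (helper24)

Abstract gluing lemma, for general `SetLike` gradings by `ℕ`: a function on `D_+(f)` with values in
the localized modules `M_x` which is locally a fraction `m / a` (`deg m = deg a + n`) is globally a
fraction `m / f ^ k` with `deg m = k * deg f + n`.
-/

set_option autoImplicit false
set_option linter.style.haveILetI false
set_option linter.unusedSectionVars false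

universe u

namespace Groth.Agent.Lib.helper24.GrFrac

open DirectSum Groth.Agent.Lib.helper24.GrAnn

variable {A σ : Type u} [CommRing A] [SetLike σ A] [AddSubgroupClass σ A] (𝒜 : ℕ → σ)
  [GradedRing 𝒜]

theorem mem_radical_span_of_cover {d : ℕ} (hd : 0 < d) {f : A} (hf : f ∈ 𝒜 d) (S : Set A)
    (hS : ∀ h ∈ S, ∃ e, h ∈ 𝒜 e)
    (hcov : ∀ x : ProjectiveSpectrum 𝒜, f ∉ x.asHomogeneousIdeal →
      ∃ h ∈ S, h ∉ x.asHomogeneousIdeal) :
    f ∈ (Ideal.span S).radical := by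
  classical
  rw [Ideal.radical_eq_sInf, Ideal.mem_sInf]
  rintro P ⟨hle, hP⟩
  by_contra hfP
  have hcore_le : (P.homogeneousCore 𝒜).toIdeal ≤ P := Ideal.toIdeal_homogeneousCore_le 𝒜 P
  have hfcore : f ∉ (P.homogeneousCore 𝒜).toIdeal := fun h => hfP (hcore_le h)
  let x : ProjectiveSpectrum 𝒜 :=
    ⟨P.homogeneousCore 𝒜, hP.homogeneousCore, fun hle' => hfcore (hle' (by
      show f ∈ HomogeneousIdeal.irrelevant 𝒜
      rw [HomogeneousIdeal.mem_irrelevant_iff, GradedRing.proj_apply]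
      exact decompose_of_mem_ne 𝒜 hf (by omega)))⟩
  obtain ⟨h, hhS, hhx⟩ := hcov x hfcore
  apply hhx
  obtain ⟨e, he⟩ := hS h hhS
  exact Ideal.mem_homogeneousCore_of_homogeneous_of_mem ⟨e, he⟩ (hle (Ideal.subset_span hhS))

theorem exists_homog_coeffs {ι : Type*} [Fintype ι] (h : ι → A) (e : ι → ℕ)
    (hh : ∀ i, h i ∈ 𝒜 (e i)) {D : ℕ} {g : A} (hg : g ∈ 𝒜 D)
    (hmem : g ∈ Ideal.span (Set.range h)) :
    ∃ c : ι → A, (∀ i, c i ∈ 𝒜 (D - e i)) ∧ (∀ i, e i ≤ D ∨ c i = 0) ∧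
      g = ∑ i, c i * h i := by
  classical
  obtain ⟨c, hc⟩ := Ideal.mem_span_range_iff_exists_fun.mp hmem
  refine ⟨fun i => if e i ≤ D then (decompose 𝒜 (c i) (D - e i) : A) else 0, ?_, ?_, ?_⟩
  · intro i
    dsimp only
    split_ifs
    · exact (decompose 𝒜 (c i) (D - e i)).2
    · exact zero_mem _
  · intro i
    by_cases hi : e i ≤ D
    · exact Or.inl hi
    · right
      dsimp only
      rw [if_neg hi]
  · have h1 : (decompose 𝒜 g D : A) = g := decompose_of_mem_same 𝒜 hg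
    rw [← h1, ← hc, decompose_sum, DFinsupp.finsetSum_apply, AddSubmonoidClass.coe_finsetSum]
    refine Finset.sum_congr rfl fun i _ => ?_
    dsimp only
    split_ifs with hi
    · exact coe_decompose_mul_of_right_mem_of_le 𝒜 (hh i) hi
    · rw [zero_mul]
      exact coe_decompose_mul_of_right_mem_of_not_le 𝒜 (hh i) hi

variable {M τ : Type u} [AddCommGroup M] [Module A M] [SetLike τ M] [AddSubgroupClass τ M]
  (ℳ : ℕ → τ) [SetLike.GradedSMul 𝒜 ℳ] [DirectSum.Decomposition ℳ]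

/-- the hypothesis: locally a fraction of degree `n`. -/
def IsLocFracOn (n : ℤ) (f : A)
    (s : ∀ x : ProjectiveSpectrum 𝒜, f ∉ x.asHomogeneousIdeal →
      LocalizedModule x.asHomogeneousIdeal.toIdeal.primeCompl M) : Prop :=
  ∀ (x : ProjectiveSpectrum 𝒜) (_ : f ∉ x.asHomogeneousIdeal),
    ∃ V : Set (ProjectiveSpectrum 𝒜), IsOpen V ∧ x ∈ V ∧ ∃ (i j : ℕ) (m : M) (a : A),
      m ∈ ℳ i ∧ a ∈ 𝒜 j ∧ ((i : ℤ) = j + n ∨ m = 0) ∧
      ∀ (y : ProjectiveSpectrum 𝒜) (hfy : f ∉ y.asHomogeneousIdeal), y ∈ V →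
        ∃ ha : a ∉ y.asHomogeneousIdeal, s y hfy = LocalizedModule.mk m ⟨a, ha⟩

theorem local_normal_form (n : ℤ) {d : ℕ} (hd : 0 < d) {f : A} (hf : f ∈ 𝒜 d)
    (s : ∀ x : ProjectiveSpectrum 𝒜, f ∉ x.asHomogeneousIdeal →
      LocalizedModule x.asHomogeneousIdeal.toIdeal.primeCompl M)
    (hloc : IsLocFracOn 𝒜 ℳ n f s) (x : ProjectiveSpectrum 𝒜) (hx : f ∉ x.asHomogeneousIdeal) :
    ∃ (e deg : ℕ) (h : A) (m : M), 0 < e ∧ h ∈ 𝒜 e ∧ h ∉ x.asHomogeneousIdeal ∧ m ∈ ℳ deg ∧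
      (deg : ℤ) = e + n ∧
      ∀ (y : ProjectiveSpectrum 𝒜) (hy : h ∉ y.asHomogeneousIdeal),
        ∃ hfy : f ∉ y.asHomogeneousIdeal, s y hfy = LocalizedModule.mk m ⟨h, hy⟩ := by
  classical
  obtain ⟨V, hVo, hxV, i, j, m₀, a, hm₀, ha, hdeg, hs⟩ := hloc x hx
  obtain ⟨_, ⟨g, rfl⟩, hxg, hgV⟩ :=
    (ProjectiveSpectrum.isTopologicalBasis_basic_opens 𝒜).exists_subset_of_mem_open hxV hVo
  have hgx : g ∉ x.asHomogeneousIdeal := (ProjectiveSpectrum.mem_basicOpen 𝒜 g x).mp hxg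
  obtain ⟨c, hc⟩ : ∃ c : ℕ, (decompose 𝒜 g c : A) ∉ x.asHomogeneousIdeal := by
    by_contra hcon
    push Not at hcon
    apply hgx
    rw [← sum_support_decompose 𝒜 g]
    exact Ideal.sum_mem _ fun c _ => hcon c
  set gc : A := (decompose 𝒜 g c : A) with hgc
  have hgcmem : gc ∈ 𝒜 c := (decompose 𝒜 g c).2
  have hax : a ∉ x.asHomogeneousIdeal := (hs x hx hxV).1
  obtain ⟨L, hL⟩ : ∃ L : ℕ, L = n.natAbs := ⟨_, rfl⟩
  obtain ⟨D1, hD1⟩ : ∃ D1 : ℕ, D1 = (L + 1) * d := ⟨_, rfl⟩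
  have hD1L : L + 1 ≤ D1 := by
    rw [hD1]
    exact Nat.le_mul_of_pos_right _ hd
  have hfpow : f ^ (L + 1) ∈ 𝒜 D1 := by
    have := SetLike.pow_mem_graded (L + 1) hf
    rw [smul_eq_mul] at this
    rw [hD1]
    exact this
  have hfpowx : ∀ y : ProjectiveSpectrum 𝒜, f ∉ y.asHomogeneousIdeal →
      f ^ (L + 1) ∉ y.asHomogeneousIdeal := fun y hy hmem =>
    hy (y.isPrime.mem_of_pow_mem _ hmem)
  have hhmem : gc * a * f ^ (L + 1) ∈ 𝒜 (c + j + D1) :=
    SetLike.mul_mem_graded (SetLike.mul_mem_graded hgcmem ha) hfpow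
  have hmmem : (gc * f ^ (L + 1)) • m₀ ∈ ℳ (c + D1 + i) := by
    have := SetLike.GradedSMul.smul_mem (A := 𝒜) (B := ℳ)
      (SetLike.mul_mem_graded hgcmem hfpow) hm₀
    simpa [vadd_eq_add] using this
  have hnabs : -(L : ℤ) ≤ n ∧ n ≤ L := by
    rw [hL]
    constructor <;> omega
  obtain ⟨deg, hdegm, hdegeq⟩ : ∃ deg : ℕ, (gc * f ^ (L + 1)) • m₀ ∈ ℳ deg ∧
      (deg : ℤ) = ((c + j + D1 : ℕ) : ℤ) + n := by
    rcases hdeg with hdeg | hdeg
    · exact ⟨c + D1 + i, hmmem, by push_cast; omega⟩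
    · refine ⟨(((c + j + D1 : ℕ) : ℤ) + n).toNat, ?_, ?_⟩
      · rw [hdeg, smul_zero]
        exact zero_mem _
      · rw [Int.toNat_of_nonneg]
        push_cast
        omega
  refine ⟨c + j + D1, deg, gc * a * f ^ (L + 1), (gc * f ^ (L + 1)) • m₀, by omega, hhmem, ?_,
    hdegm, hdegeq, ?_⟩
  · intro hmem
    rcases x.isPrime.mem_or_mem hmem with h1 | h1
    · rcases x.isPrime.mem_or_mem h1 with h2 | h2
      · exact hc h2
      · exact hax h2
    · exact hfpowx x hx h1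
  · intro y hy
    have hgcy : gc ∉ y.asHomogeneousIdeal := fun hmem => hy
      (Ideal.mul_mem_right _ _ (Ideal.mul_mem_right _ _ hmem))
    have hfy : f ∉ y.asHomogeneousIdeal := fun hmem => hy
      (Ideal.mul_mem_left _ _ (Ideal.pow_mem_of_mem _ hmem _ (Nat.succ_pos L)))
    have hgy : g ∉ y.asHomogeneousIdeal := fun hmem => hgcy
      (y.asHomogeneousIdeal.isHomogeneous c hmem)
    have hyV : y ∈ V := hgV ((ProjectiveSpectrum.mem_basicOpen 𝒜 g y).mpr hgy)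
    obtain ⟨hay, hsy⟩ := hs y hfy hyV
    refine ⟨hfy, ?_⟩
    rw [hsy, LocalizedModule.mk_eq]
    refine ⟨1, ?_⟩
    rw [one_smul, one_smul]
    change (gc * a * f ^ (L + 1)) • m₀ = a • ((gc * f ^ (L + 1)) • m₀)
    rw [smul_smul]
    congr 1
    ring

theorem exists_global_frac (n : ℤ) {d : ℕ} (hd : 0 < d) {f : A} (hf : f ∈ 𝒜 d)
    (s : ∀ x : ProjectiveSpectrum 𝒜, f ∉ x.asHomogeneousIdeal →
      LocalizedModule x.asHomogeneousIdeal.toIdeal.primeCompl M)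
    (hloc : IsLocFracOn 𝒜 ℳ n f s) :
    ∃ (k i : ℕ) (m : M), m ∈ ℳ i ∧ (i : ℤ) = k * d + n ∧
      ∀ (x : ProjectiveSpectrum 𝒜) (hx : f ∉ x.asHomogeneousIdeal),
        s x hx = (LocalizedModule.mk m
          ⟨f ^ k, fun h => hx (x.isPrime.mem_of_pow_mem k h)⟩ :
            LocalizedModule x.asHomogeneousIdeal.toIdeal.primeCompl M) := by
  classical
  -- the index type of points of `D_+(f)`
  let P : Type u := {x : ProjectiveSpectrum 𝒜 // f ∉ x.asHomogeneousIdeal}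
  choose e deg h m he hh hhx hm hdeg hs using
    fun p : P => local_normal_form 𝒜 ℳ n hd hf s hloc p.1 p.2
  -- `f` is in the radical of the ideal generated by the `h p`
  have hrad : f ∈ (Ideal.span (Set.range h)).radical := by
    refine mem_radical_span_of_cover 𝒜 hd hf _ ?_ ?_
    · rintro _ ⟨p, rfl⟩
      exact ⟨e p, hh p⟩
    · intro x hx
      exact ⟨h ⟨x, hx⟩, ⟨⟨x, hx⟩, rfl⟩, hhx ⟨x, hx⟩⟩
  obtain ⟨K₀, hK₀⟩ := hrad
  -- finite subfamily
  obtain ⟨c₀, hc₀⟩ := (Finsupp.mem_span_range_iff_exists_finsupp).mp hK₀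
  let F : Finset P := c₀.support
  have hK₀F : f ^ K₀ ∈ Ideal.span (Set.range fun i : F => h i.1) := by
    rw [← hc₀]
    refine Ideal.sum_mem _ fun p hp => ?_
    exact Ideal.mul_mem_left _ _ (Ideal.subset_span ⟨⟨p, hp⟩, rfl⟩)
  -- pairwise compatibility up to a power
  have hpair : ∀ p q : P, ∃ N : ℕ, (h p * h q) ^ N • (h q • m p - h p • m q) = 0 := by
    intro p q
    have hdeq : e q + deg p = e p + deg q := by
      have h1 := hdeg p
      have h2 := hdeg q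
      omega
    have hw : h q • m p - h p • m q ∈ ℳ (e q + deg p) := by
      refine sub_mem ?_ ?_
      · have := SetLike.GradedSMul.smul_mem (A := 𝒜) (B := ℳ) (hh q) (hm p)
        simpa [vadd_eq_add] using this
      · rw [hdeq]
        have := SetLike.GradedSMul.smul_mem (A := 𝒜) (B := ℳ) (hh p) (hm q)
        simpa [vadd_eq_add] using this
    refine exists_pow_smul_eq_zero 𝒜 ℳ hw (e := e p + e q) (by have := he p; omega)
      (SetLike.mul_mem_graded (hh p) (hh q)) ?_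
    intro y hy
    have hpy : h p ∉ y.asHomogeneousIdeal := fun hmem => hy (Ideal.mul_mem_right _ _ hmem)
    have hqy : h q ∉ y.asHomogeneousIdeal := fun hmem => hy (Ideal.mul_mem_left _ _ hmem)
    obtain ⟨hfy, h1⟩ := hs p y hpy
    obtain ⟨_, h2⟩ := hs q y hqy
    have h3 : (LocalizedModule.mk (m p) ⟨h p, hpy⟩ :
        LocalizedModule y.asHomogeneousIdeal.toIdeal.primeCompl M) =
        LocalizedModule.mk (m q) ⟨h q, hqy⟩ := by
      rw [← h1, ← h2]
    rw [LocalizedModule.mk_eq] at h3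
    obtain ⟨u, hu⟩ := h3
    refine ⟨u.1, u.2, ?_⟩
    have hu' : u.1 • (h q • m p) = u.1 • (h p • m q) := hu
    rw [smul_sub, hu', sub_self]
  choose N hN using hpair
  let N₀ : ℕ := F.sup fun p => F.sup fun q => N p q
  have hN₀ : ∀ p ∈ F, ∀ q ∈ F, N p q ≤ N₀ := fun p hp q hq =>
    le_trans (Finset.le_sup (f := fun q => N p q) hq)
      (Finset.le_sup (f := fun p => F.sup fun q => N p q) hp)
  have hrel : ∀ p ∈ F, ∀ q ∈ F,
      h q ^ (N₀ + 1) • h p ^ N₀ • m p = h p ^ (N₀ + 1) • h q ^ N₀ • m q := by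
    intro p hp q hq
    have h1 : (h p * h q) ^ N₀ • (h q • m p - h p • m q) = 0 := by
      obtain ⟨r, hr⟩ := Nat.exists_eq_add_of_le (hN₀ p hp q hq)
      rw [hr, pow_add, mul_comm, mul_smul, hN, smul_zero]
    rw [smul_sub, sub_eq_zero] at h1
    rw [smul_smul, smul_smul] at h1 ⊢
    have e1 : h q ^ (N₀ + 1) * h p ^ N₀ = (h p * h q) ^ N₀ * h q := by ring
    have e2 : h p ^ (N₀ + 1) * h q ^ N₀ = (h p * h q) ^ N₀ * h p := by ring
    rw [e1, e2]
    exact h1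
  -- radical for the powers
  have hrad' : f ∈ (Ideal.span (Set.range fun i : F => h i.1 ^ (N₀ + 1))).radical := by
    rw [Ideal.radical_eq_sInf, Ideal.mem_sInf]
    rintro Q ⟨hle, hQ⟩
    have hle' : Ideal.span (Set.range fun i : F => h i.1) ≤ Q := by
      rw [Ideal.span_le]
      rintro _ ⟨i, rfl⟩
      exact hQ.mem_of_pow_mem (N₀ + 1) (hle (Ideal.subset_span ⟨i, rfl⟩))
    exact hQ.mem_of_pow_mem K₀ (hle' hK₀F)
  obtain ⟨K₁, hK₁⟩ := hrad'
  obtain ⟨L, hL⟩ : ∃ L : ℕ, L = n.natAbs := ⟨_, rfl⟩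
  obtain ⟨K, hK⟩ : ∃ K : ℕ, K = K₁ + L := ⟨_, rfl⟩
  have hKmem : f ^ K ∈ Ideal.span (Set.range fun i : F => h i.1 ^ (N₀ + 1)) := by
    rw [hK, pow_add]
    exact Ideal.mul_mem_right _ _ hK₁
  obtain ⟨D, hD⟩ : ∃ D : ℕ, D = K * d := ⟨_, rfl⟩
  have hfK : f ^ K ∈ 𝒜 D := by
    have := SetLike.pow_mem_graded K hf
    rw [smul_eq_mul] at this
    rw [hD]
    exact this
  obtain ⟨c, hcmem, hcle, hcsum⟩ := exists_homog_coeffs 𝒜 (fun i : F => h i.1 ^ (N₀ + 1))
    (fun i : F => (N₀ + 1) * e i.1) (fun i => by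
      have := SetLike.pow_mem_graded (N₀ + 1) (hh i.1)
      rw [smul_eq_mul] at this
      exact this) hfK hKmem
  have hDn : 0 ≤ (D : ℤ) + n := by
    have h1 : K ≤ D := by
      rw [hD]
      exact Nat.le_mul_of_pos_right _ hd
    have h2 : -(L : ℤ) ≤ n := by
      rw [hL]
      omega
    have h3 : L ≤ K := by
      rw [hK]
      exact Nat.le_add_left _ _
    omega
  refine ⟨K, ((D : ℤ) + n).toNat, ∑ i : F, c i • (h i.1 ^ N₀ • m i.1), ?_, ?_, ?_⟩
  · refine sum_mem fun i _ => ?_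
    rcases hcle i with hle | h0
    · have h1 : h i.1 ^ N₀ • m i.1 ∈ ℳ (N₀ * e i.1 + deg i.1) := by
        have := SetLike.GradedSMul.smul_mem (A := 𝒜) (B := ℳ)
          (SetLike.pow_mem_graded N₀ (hh i.1)) (hm i.1)
        simpa [vadd_eq_add, smul_eq_mul] using this
      have h2 := SetLike.GradedSMul.smul_mem (A := 𝒜) (B := ℳ) (hcmem i) h1
      rw [vadd_eq_add] at h2
      have hidx : D - (N₀ + 1) * e i.1 + (N₀ * e i.1 + deg i.1) = ((D : ℤ) + n).toNat := by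
        have h3 := hdeg i.1
        have h4 : (N₀ + 1) * e i.1 = N₀ * e i.1 + e i.1 := by ring
        rw [h4] at hle ⊢
        generalize N₀ * e i.1 = X at hle ⊢
        omega
      rw [← hidx]
      exact h2
    · rw [h0, zero_smul]
      exact zero_mem _
  · rw [Int.toNat_of_nonneg hDn, hD]
    push_cast
    ring
  · intro x hx
    have hfKx : f ^ K ∉ x.asHomogeneousIdeal := fun hmem => hx (x.isPrime.mem_of_pow_mem K hmem)
    obtain ⟨i, hi⟩ : ∃ i : F, h i.1 ∉ x.asHomogeneousIdeal := by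
      by_contra hcon
      push Not at hcon
      apply hfKx
      rw [hcsum]
      exact Ideal.sum_mem _ fun i _ => Ideal.mul_mem_left _ _
        (Ideal.pow_mem_of_mem _ (hcon i) _ (Nat.succ_pos _))
    obtain ⟨hfx', hsx⟩ := hs i.1 x hi
    rw [hsx, LocalizedModule.mk_eq]
    have hpowx : h i.1 ^ N₀ ∉ x.asHomogeneousIdeal := fun hmem =>
      hi (x.isPrime.mem_of_pow_mem _ hmem)
    refine ⟨⟨h i.1 ^ N₀, hpowx⟩, ?_⟩
    change h i.1 ^ N₀ • (f ^ K • m i.1) =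
      h i.1 ^ N₀ • (h i.1 • ∑ j : F, c j • (h j.1 ^ N₀ • m j.1))
    have key : h i.1 ^ (N₀ + 1) • ∑ j : F, c j • (h j.1 ^ N₀ • m j.1) =
        f ^ K • (h i.1 ^ N₀ • m i.1) := by
      rw [Finset.smul_sum]
      have hterm : ∀ j : F, h i.1 ^ (N₀ + 1) • c j • (h j.1 ^ N₀ • m j.1) =
          (c j * h j.1 ^ (N₀ + 1)) • (h i.1 ^ N₀ • m i.1) := by
        intro j
        rw [smul_comm, hrel j.1 j.2 i.1 i.2, mul_smul]
      simp only [hterm]
      rw [← Finset.sum_smul, ← hcsum]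
    rw [smul_smul (h i.1 ^ N₀) (h i.1), ← pow_succ, key, smul_comm]

end Groth.Agent.Lib.helper24.GrFrac
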