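import Mathlib
import Groth.Prelude.Def_GrSyz

/-! Hilbert function of a graded module over a polynomial ring from a finite graded free
resolution in matrix form (`GrSyz.FreeRes`). -/

set_option linter.style.haveILetI false
set_option autoImplicit false

namespace Groth.Agent.Lib.helper24.GrHilb
universe u
open DirectSum

section Euler

variable {k : Type*} [Field k]

/-- rank–nullity for the restriction of a linear map to a finite-dimensional subspace. -/
theorem finrank_map_add_finrank_inf_ker {V V' : Type*} [AddCommGroup V] [Module k V]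
    [AddCommGroup V'] [Module k V'] (f : V →ₗ[k] V') (p : Submodule k V) [FiniteDimensional k p] :
    Module.finrank k (p.map f) + Module.finrank k ↥(p ⊓ LinearMap.ker f) = Module.finrank k p := by
  have h := LinearMap.finrank_range_add_finrank_ker (f.domRestrict p)
  rw [LinearMap.range_domRestrict, LinearMap.ker_domRestrict] at h
  have e : ↥((LinearMap.ker f).comap p.subtype) ≃ₗ[k] ↥(p ⊓ LinearMap.ker f) := by
    have h1 : (LinearMap.ker f).comap p.subtype = (p ⊓ LinearMap.ker f).comap p.subtype := by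
      rw [Submodule.comap_inf, Submodule.comap_subtype_self, top_inf_eq]
    rw [h1]
    exact Submodule.comapSubtypeEquivOfLe inf_le_left
  rw [← e.finrank_eq]
  exact h

/-- Euler characteristic of a finite exact strand given by subspaces. -/
theorem euler (V : ℕ → Type*) [∀ i, AddCommGroup (V i)] [∀ i, Module k (V i)]
    {W : Type*} [AddCommGroup W] [Module k W]
    (D : ∀ i, V (i + 1) →ₗ[k] V i) (ε : V 0 →ₗ[k] W)
    (G : ∀ i, Submodule k (V i)) [∀ i, FiniteDimensional k (G i)] (W' : Submodule k W)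
    (hb : (G 0).map ε = W') (hc : G 0 ⊓ LinearMap.ker ε = (G 1).map (D 0))
    (hd : ∀ i, G (i + 1) ⊓ LinearMap.ker (D i) = (G (i + 2)).map (D (i + 1)))
    (m : ℕ) (he : ∀ i, m < i → G i = ⊥) :
    (Module.finrank k W' : ℤ) =
      ∑ i ∈ Finset.range (m + 1), (-1 : ℤ) ^ i * (Module.finrank k (G i) : ℤ) := by
  have key : ∀ n : ℕ, ∑ i ∈ Finset.range (n + 1), (-1 : ℤ) ^ i * (Module.finrank k (G i) : ℤ) =
      (Module.finrank k W' : ℤ) + (-1 : ℤ) ^ n * (Module.finrank k ((G (n + 1)).map (D n)) : ℤ) := by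
    intro n
    induction n with
    | zero =>
      have h := finrank_map_add_finrank_inf_ker ε (G 0)
      rw [hb, hc] at h
      simp only [zero_add, Finset.range_one, Finset.sum_singleton, pow_zero, one_mul]
      rw [← h]
      push_cast
      ring
    | succ n ih =>
      rw [Finset.sum_range_succ, ih]
      have h := finrank_map_add_finrank_inf_ker (D n) (G (n + 1))
      rw [hd n] at h
      rw [← h]
      push_cast
      ring
  rw [key m, he (m + 1) (Nat.lt_succ_self m), Submodule.map_bot, finrank_bot]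
  simp

end Euler

section Count
variable (k : Type u) [Field k] (r : ℕ)

theorem weight_one_eq (e : Fin (r + 1) →₀ ℕ) :
    Finsupp.weight (fun _ : Fin (r + 1) => (1 : ℤ)) e = ((Finset.univ.sum ⇑e : ℕ) : ℤ) := by
  rw [Finsupp.weight_apply, Finsupp.sum_fintype _ _ (fun i => by simp)]
  simp

theorem weightSet_eq (n : ℤ) :
    {d : Fin (r + 1) →₀ ℕ | Finsupp.weight (fun _ : Fin (r + 1) => (1 : ℤ)) d = n} =
      if 0 ≤ n then ↑((Finset.univ : Finset (Fin (r + 1))).finsuppAntidiag n.toNat) else ∅ := by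
  classical
  split_ifs with hn
  · ext e
    change Finsupp.weight (fun _ : Fin (r + 1) => (1 : ℤ)) e = n ↔
      e ∈ (Finset.univ : Finset (Fin (r + 1))).finsuppAntidiag n.toNat
    rw [weight_one_eq, Finset.mem_finsuppAntidiag]
    obtain ⟨N, rfl⟩ := Int.eq_ofNat_of_zero_le hn
    rw [Int.toNat_natCast]
    constructor
    · intro h
      exact ⟨by exact_mod_cast h, Finset.subset_univ _⟩
    · rintro ⟨h, -⟩
      exact_mod_cast h
  · ext e
    change Finsupp.weight (fun _ : Fin (r + 1) => (1 : ℤ)) e = n ↔ e ∈ (∅ : Set _)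
    rw [weight_one_eq]
    simp only [Set.mem_empty_iff_false, iff_false]
    omega

instance finite_stdGr (n : ℤ) : Module.Finite k (GrSyz.stdGr k (Fin (r + 1)) n) := by
  classical
  unfold GrSyz.stdGr
  rw [MvPolynomial.weightedHomogeneousSubmodule_eq_finsupp_supported]
  change Module.Finite k ↥(MvPolynomial.restrictSupport k
    {d | Finsupp.weight (fun _ : Fin (r + 1) => (1 : ℤ)) d = n})
  have hfin : Finite ↥{d : Fin (r + 1) →₀ ℕ |
      Finsupp.weight (fun _ : Fin (r + 1) => (1 : ℤ)) d = n} := by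
    rw [weightSet_eq]
    split_ifs
    · exact Finset.finite_toSet _ |>.to_subtype
    · exact Set.finite_empty.to_subtype
  exact Module.Finite.of_basis (MvPolynomial.basisRestrictSupport k _)

/-- the Hilbert function of the polynomial ring. -/
def H (n : ℤ) : ℕ := if 0 ≤ n then (r + n.toNat).choose r else 0

theorem finrank_stdGr (n : ℤ) :
    Module.finrank k (GrSyz.stdGr k (Fin (r + 1)) n) = H r n := by
  classical
  unfold GrSyz.stdGr H
  rw [MvPolynomial.weightedHomogeneousSubmodule_eq_finsupp_supported]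
  change Module.finrank k ↥(MvPolynomial.restrictSupport k
    {d | Finsupp.weight (fun _ : Fin (r + 1) => (1 : ℤ)) d = n}) = _
  rw [Module.finrank_eq_nat_card_basis (MvPolynomial.basisRestrictSupport k
    {d | Finsupp.weight (fun _ : Fin (r + 1) => (1 : ℤ)) d = n}), weightSet_eq]
  split_ifs with hn
  · rw [Nat.card_coe_set_eq, Set.ncard_coe_finset,
      Finset.card_finsuppAntidiag_nat_eq_multichoose, Finset.card_univ, Fintype.card_fin,
      Nat.multichoose_eq]
    have : r + 1 + n.toNat - 1 = r + n.toNat := by omega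
    rw [this, add_comm r, Nat.choose_symm_add]
  · simp

end Count

section Piece
variable {k : Type u} [Field k] {r : ℕ}

local notation "S" => MvPolynomial (Fin (r + 1)) k
local notation "𝒜" => GrSyz.stdGr k (Fin (r + 1))

/-- the degree-`d` piece of the free module whose basis vectors have degrees `a`. -/
noncomputable def piece {n : ℕ} (a : Fin n → ℤ) (d : ℤ) : Submodule k (Fin n → S) :=
  Submodule.pi Set.univ (fun b => 𝒜 (d - a b))

theorem mem_piece {n : ℕ} (a : Fin n → ℤ) (d : ℤ) (v : Fin n → S) :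
    v ∈ piece a d ↔ ∀ b, v b ∈ 𝒜 (d - a b) := by
  simp [piece, Submodule.mem_pi]

/-- projection onto the piece. -/
noncomputable def proj {n : ℕ} (a : Fin n → ℤ) (d : ℤ) (v : Fin n → S) : Fin n → S :=
  fun b => (decompose 𝒜 (v b) (d - a b) : S)

theorem proj_mem {n : ℕ} (a : Fin n → ℤ) (d : ℤ) (v : Fin n → S) : proj a d v ∈ piece a d := by
  rw [mem_piece]
  intro b
  exact (decompose 𝒜 (v b) (d - a b)).2

theorem proj_of_mem {n : ℕ} (a : Fin n → ℤ) (d : ℤ) (v : Fin n → S) (hv : v ∈ piece a d) :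
    proj a d v = v := by
  funext b
  exact decompose_of_mem_same 𝒜 ((mem_piece a d v).1 hv b)

theorem mulVec_proj {n n' : ℕ} (a : Fin n → ℤ) (a' : Fin n' → ℤ) (A : Matrix (Fin n) (Fin n') S)
    (hA : ∀ i j, A i j ∈ 𝒜 (a' j - a i)) (d : ℤ) (w : Fin n' → S) :
    A.mulVec (proj a' d w) = proj a d (A.mulVec w) := by
  funext i
  simp only [Matrix.mulVec, dotProduct, proj]
  rw [decompose_sum, DFinsupp.finsetSum_apply, AddSubmonoidClass.coe_finsetSum]
  refine Finset.sum_congr rfl fun j _ => ?_
  have h : d - a i = (a' j - a i) + (d - a' j) := by ring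
  rw [h, coe_decompose_mul_add_of_left_mem 𝒜 (hA i j)]

theorem mulVec_mem_piece {n n' : ℕ} (a : Fin n → ℤ) (a' : Fin n' → ℤ)
    (A : Matrix (Fin n) (Fin n') S)
    (hA : ∀ i j, A i j ∈ 𝒜 (a' j - a i)) (d : ℤ) (w : Fin n' → S) (hw : w ∈ piece a' d) :
    A.mulVec w ∈ piece a d := by
  rw [← proj_of_mem a' d w hw, mulVec_proj a a' A hA]
  exact proj_mem _ _ _

/-- exactness in degree `d`, abstract form. -/
theorem piece_inf_ker {n' n'' : ℕ} (a' : Fin n' → ℤ) (a'' : Fin n'' → ℤ)
    (A' : Matrix (Fin n') (Fin n'') S) (hA' : ∀ i j, A' i j ∈ 𝒜 (a'' j - a' i))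
    {W : Type*} [AddCommGroup W] [Module k W] (f : (Fin n' → S) →ₗ[k] W)
    (hex : ∀ w, f w = 0 ↔ ∃ u, A'.mulVec u = w) (d : ℤ) :
    piece a' d ⊓ LinearMap.ker f =
      (piece a'' d).map ((Matrix.mulVecLin A').restrictScalars k) := by
  apply le_antisymm
  · rintro w ⟨hw, hfw⟩
    obtain ⟨u, hu⟩ := (hex w).1 hfw
    refine ⟨proj a'' d u, proj_mem _ _ _, ?_⟩
    change A'.mulVec (proj a'' d u) = w
    rw [mulVec_proj a' a'' A' hA', hu, proj_of_mem a' d w hw]
  · rintro _ ⟨u, hu, rfl⟩
    refine ⟨mulVec_mem_piece a' a'' A' hA' d u hu, ?_⟩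
    exact (hex _).2 ⟨u, rfl⟩


section Aug
variable {M : Type u} [AddCommGroup M] [Module k M] [Module (MvPolynomial (Fin (r + 1)) k) M]
  [IsScalarTower k (MvPolynomial (Fin (r + 1)) k) M]
  (ℳ : ℤ → Submodule k M) [DirectSum.Decomposition ℳ]
  [SetLike.GradedSMul (GrSyz.stdGr k (Fin (r + 1))) ℳ]

theorem smul_mem_graded {i j : ℤ} {s : S} {x : M} (hs : s ∈ 𝒜 i) (hx : x ∈ ℳ j) :
    s • x ∈ ℳ (i + j) := by
  have := SetLike.GradedSMul.smul_mem (A := 𝒜) (B := ℳ) hs hx
  simpa [vadd_eq_add] using this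

theorem coe_decompose_smul {j : ℤ} (s : S) {x : M} (hx : x ∈ ℳ j) (d : ℤ) :
    (decompose ℳ (s • x) d : M) = (decompose 𝒜 s (d - j) : S) • x := by
  classical
  conv_lhs => rw [← sum_support_decompose 𝒜 s, Finset.sum_smul]
  rw [decompose_sum, DFinsupp.finsetSum_apply, AddSubmonoidClass.coe_finsetSum]
  have hterm : ∀ i : ℤ, ((decompose ℳ ((decompose 𝒜 s i : S) • x)) d : M) =
      if i = d - j then (decompose 𝒜 s i : S) • x else 0 := by
    intro i
    have hmem : (decompose 𝒜 s i : S) • x ∈ ℳ (i + j) := smul_mem_graded ℳ (decompose 𝒜 s i).2 hx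
    split_ifs with h
    · have : i + j = d := by omega
      rw [← this]
      exact decompose_of_mem_same ℳ hmem
    · have : i + j ≠ d := by omega
      exact decompose_of_mem_ne ℳ hmem this
  simp only [hterm]
  rw [Finset.sum_ite_eq']
  split_ifs with h
  · rfl
  · rw [DFinsupp.notMem_support_iff] at h
    rw [h]
    simp

/-- the augmentation as a `k`-linear map. -/
noncomputable def augK {n : ℕ} (x : Fin n → M) : (Fin n → S) →ₗ[k] M :=
  (Fintype.linearCombination S x).restrictScalars k

theorem augK_apply {n : ℕ} (x : Fin n → M) (v : Fin n → S) :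
    augK (k := k) (r := r) x v = ∑ b, v b • x b := by
  simp [augK, Fintype.linearCombination_apply]

theorem map_augK_piece {n : ℕ} (a : Fin n → ℤ) (x : Fin n → M) (hx : ∀ b, x b ∈ ℳ (a b))
    (hsurj : Function.Surjective (Fintype.linearCombination S x)) (d : ℤ) :
    (piece a d).map (augK (k := k) (r := r) x) = ℳ d := by
  apply le_antisymm
  · rintro _ ⟨v, hv, rfl⟩
    rw [augK_apply]
    refine Submodule.sum_mem _ fun b _ => ?_
    have := smul_mem_graded ℳ ((mem_piece a d v).1 hv b) (hx b)
    rwa [sub_add_cancel] at this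
  · intro y hy
    obtain ⟨v, rfl⟩ := hsurj y
    refine ⟨proj a d v, proj_mem _ _ _, ?_⟩
    rw [augK_apply]
    have h1 : (decompose ℳ (Fintype.linearCombination S x v) d : M) =
        Fintype.linearCombination S x v := decompose_of_mem_same ℳ hy
    rw [← h1, Fintype.linearCombination_apply, decompose_sum, DFinsupp.finsetSum_apply,
      AddSubmonoidClass.coe_finsetSum]
    refine Finset.sum_congr rfl fun b _ => ?_
    rw [coe_decompose_smul ℳ (v b) (hx b) d]
    rfl

end Aug

end Piece

section Main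
variable {k : Type u} [Field k] {r : ℕ}

local notation "S" => MvPolynomial (Fin (r + 1)) k
local notation "𝒜" => GrSyz.stdGr k (Fin (r + 1))

/-- the piece is a product of graded pieces of the ring. -/
noncomputable def pieceEquiv {n : ℕ} (a : Fin n → ℤ) (d : ℤ) :
    ↥(piece (k := k) (r := r) a d) ≃ₗ[k] ((b : Fin n) → ↥(𝒜 (d - a b))) where
  toFun v := fun b => ⟨v.1 b, (mem_piece a d v.1).1 v.2 b⟩
  invFun w := ⟨fun b => (w b).1, (mem_piece a d _).2 fun b => (w b).2⟩
  map_add' _ _ := rfl
  map_smul' _ _ := rfl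
  left_inv _ := rfl
  right_inv _ := rfl

instance finite_piece {n : ℕ} (a : Fin n → ℤ) (d : ℤ) :
    Module.Finite k ↥(piece (k := k) (r := r) a d) :=
  Module.Finite.equiv (pieceEquiv a d).symm

theorem finrank_piece {n : ℕ} (a : Fin n → ℤ) (d : ℤ) :
    Module.finrank k ↥(piece (k := k) (r := r) a d) = ∑ b, H r (d - a b) := by
  rw [(pieceEquiv a d).finrank_eq, Module.finrank_pi_fintype]
  exact Finset.sum_congr rfl fun b _ => finrank_stdGr k r _

variable {M : Type u} [AddCommGroup M] [Module k M] [Module (MvPolynomial (Fin (r + 1)) k) M]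
  [IsScalarTower k (MvPolynomial (Fin (r + 1)) k) M]
  (ℳ : ℤ → Submodule k M) [DirectSum.Decomposition ℳ]
  [SetLike.GradedSMul (GrSyz.stdGr k (Fin (r + 1))) ℳ]

/-- the Hilbert function from a finite graded free resolution. -/
theorem hilbert (F : GrSyz.FreeRes (GrSyz.stdGr k (Fin (r + 1))) ℳ) (m : ℕ)
    (hF : F.HasLengthLE m) (d : ℤ) :
    (Module.finrank k ↥(ℳ d) : ℤ) =
      ∑ i ∈ Finset.range (m + 1), (-1 : ℤ) ^ i * ∑ b : Fin (F.rk i), (H r (d - F.deg i b) : ℤ) := by
  have h := euler (k := k) (fun i => Fin (F.rk i) → S)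
    (fun i => (Matrix.mulVecLin (F.d i)).restrictScalars k) (augK (k := k) (r := r) F.aug)
    (fun i => piece (F.deg i) d) (ℳ d)
    (map_augK_piece ℳ (F.deg 0) F.aug F.aug_mem F.aug_surjective d)
    (piece_inf_ker (F.deg 0) (F.deg 1) (F.d 0) (F.d_mem 0) (augK (k := k) (r := r) F.aug)
      (fun w => by
        have := F.exact_zero
        have h2 : w ∈ LinearMap.ker (Fintype.linearCombination S F.aug) ↔
            w ∈ LinearMap.range (Matrix.mulVecLin (F.d 0)) := by rw [this]
        exact h2) d)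
    (fun i => piece_inf_ker (F.deg (i + 1)) (F.deg (i + 2)) (F.d (i + 1)) (F.d_mem (i + 1))
      ((Matrix.mulVecLin (F.d i)).restrictScalars k)
      (fun w => by
        have := F.exact_succ i
        have h2 : w ∈ LinearMap.ker (Matrix.mulVecLin (F.d i)) ↔
            w ∈ LinearMap.range (Matrix.mulVecLin (F.d (i + 1))) := by rw [this]
        exact h2) d)
    m (fun i hi => by
      haveI : IsEmpty (Fin (F.rk i)) := by
        rw [hF i hi]
        infer_instance
      exact Submodule.eq_bot_of_subsingleton)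
  rw [h]
  refine Finset.sum_congr rfl fun i _ => ?_
  rw [finrank_piece]
  push_cast
  rfl

end Main

end Groth.Agent.Lib.helper24.GrHilb
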