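import Mathlib
import Groth.Prelude.Def_GrSyz
import Groth.Agent.Lib.helper24.GrHilb

/-!
# Minimal graded free resolutions over a standard graded polynomial ring (helper24)

Minimal homogeneous generators of graded modules (graded Nakayama in elementary form) and the
construction of a minimal graded free resolution as a `GrSyz.FreeRes`.
-/

set_option autoImplicit false
set_option linter.style.haveILetI false

universe u

namespace Groth.Agent.Lib.helper24.GrMinRes

open DirectSum Groth.Agent.Lib.helper24.GrHilb MvPolynomial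

section Basic
variable {k : Type u} [Field k] {r : ℕ}

local notation "S" => MvPolynomial (Fin (r + 1)) k
local notation "𝒜" => GrSyz.stdGr k (Fin (r + 1))
local notation "𝔪" => HomogeneousIdeal.toIdeal (GrSyz.irrel (GrSyz.stdGr k (Fin (r + 1))))

theorem stdGr_neg {i : ℤ} (hi : i < 0) {s : S} (hs : s ∈ 𝒜 i) : s = 0 := by
  by_contra hne
  obtain ⟨d, hd⟩ := MvPolynomial.ne_zero_iff.1 hne
  have h1 := hs hd
  rw [weight_one_eq] at h1
  omega

theorem stdGr_zero {s : S} (hs : s ∈ 𝒜 0) : s = C (coeff 0 s) := by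
  ext d
  rw [coeff_C]
  split_ifs with h0
  · rw [h0]
  · by_contra hne
    have h1 := hs hne
    rw [weight_one_eq] at h1
    apply h0
    ext i
    have h2 : (Finset.univ.sum ⇑d : ℕ) = 0 := by exact_mod_cast h1
    have h3 := Finset.sum_eq_zero_iff.1 h2 i (Finset.mem_univ i)
    simpa using h3.symm

theorem mem_irrel_of_decompose_zero {s : S} (h : (decompose 𝒜 s 0 : S) = 0) : s ∈ 𝔪 := by
  classical
  rw [← sum_support_decompose 𝒜 s]
  refine Ideal.sum_mem _ fun i _ => ?_
  rcases lt_trichotomy i 0 with hi | hi | hi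
  · rw [stdGr_neg hi (decompose 𝒜 s i).2]; exact zero_mem _
  · rw [hi, h]; exact zero_mem _
  · exact Ideal.subset_span ⟨i, hi, (decompose 𝒜 s i).2⟩

theorem exists_unit_of_notMem {s : S} (hs : s ∉ 𝔪) :
    ∃ c : k, c ≠ 0 ∧ (decompose 𝒜 s 0 : S) = C c := by
  refine ⟨coeff 0 (decompose 𝒜 s 0 : S), ?_, stdGr_zero (decompose 𝒜 s 0).2⟩
  intro h0
  apply hs
  apply mem_irrel_of_decompose_zero
  rw [stdGr_zero (decompose 𝒜 s 0).2, h0, map_zero]

end Basic


/-- An elementary "graded structure" on a module over the polynomial ring: homogeneity predicates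
and component projections. -/
structure GrStr (k : Type u) [Field k] (r : ℕ) (N : Type u) [AddCommGroup N]
    [Module (MvPolynomial (Fin (r + 1)) k) N] where
  /-- homogeneous of degree `d` -/
  P : ℤ → N → Prop
  /-- component of degree `d` -/
  π : ℤ → N →+ N
  π_mem : ∀ d y, P d (π d y)
  sum_π : ∀ y, ∃ T : Finset ℤ, y = ∑ d ∈ T, π d y
  π_smul : ∀ (d j : ℤ) (s : MvPolynomial (Fin (r + 1)) k) (x : N), P j x →
    π d (s • x) = (decompose (GrSyz.stdGr k (Fin (r + 1))) s (d - j) : MvPolynomial (Fin (r + 1)) k) • x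


section MinGens
variable {k : Type u} [Field k] {r : ℕ}

local notation "S" => MvPolynomial (Fin (r + 1)) k
local notation "𝒜" => GrSyz.stdGr k (Fin (r + 1))
local notation "𝔪" => HomogeneousIdeal.toIdeal (GrSyz.irrel (GrSyz.stdGr k (Fin (r + 1))))

variable {N : Type u} [AddCommGroup N] [Module (MvPolynomial (Fin (r + 1)) k) N] (G : GrStr k r N)

theorem exists_homog_gens [Module.Finite S N] :
    ∃ n : ℕ, ∃ (a : Fin n → ℤ) (x : Fin n → N), (∀ b, G.P (a b) (x b)) ∧
      Submodule.span S (Set.range x) = ⊤ := by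
  classical
  let 𝒢 : Set N := {x | ∃ d, G.P d x}
  have htop : Submodule.span S 𝒢 = ⊤ := by
    rw [eq_top_iff]
    rintro y -
    obtain ⟨T, hT⟩ := G.sum_π y
    rw [hT]
    exact Submodule.sum_mem _ fun d _ => Submodule.subset_span ⟨d, G.π_mem d y⟩
  have hfg : (Submodule.span S 𝒢).FG := htop ▸ Module.Finite.fg_top
  obtain ⟨s', hs', hspan⟩ := (Submodule.fg_span_iff_fg_span_finset_subset _).1 hfg
  let e := s'.equivFin
  have hmem : ∀ j : Fin s'.card, ∃ d, G.P d ((e.symm j : s') : N) := fun j => hs' (e.symm j).2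
  choose a ha using hmem
  refine ⟨s'.card, a, fun j => ((e.symm j : s') : N), ha, ?_⟩
  rw [← htop, hspan]
  congr 1
  ext y
  constructor
  · rintro ⟨j, rfl⟩; exact (e.symm j).2
  · intro hy; exact ⟨e ⟨y, hy⟩, by simp⟩

theorem sum_proj_smul {n : ℕ} (a : Fin n → ℤ) (x : Fin n → N) (hx : ∀ b, G.P (a b) (x b))
    (u : Fin n → S) (d : ℤ) :
    ∑ b, (proj a d u) b • x b = G.π d (∑ b, u b • x b) := by
  rw [map_sum]
  refine Finset.sum_congr rfl fun b _ => ?_
  rw [G.π_smul d (a b) (u b) (x b) (hx b)]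
  rfl

theorem rel_mem_of_minimal {n : ℕ} (a : Fin n → ℤ) (x : Fin n → N)
    (hx : ∀ b, G.P (a b) (x b)) (hspan : Submodule.span S (Set.range x) = ⊤)
    (hmin : ∀ m < n, ¬ ∃ (a' : Fin m → ℤ) (x' : Fin m → N), (∀ b, G.P (a' b) (x' b)) ∧
      Submodule.span S (Set.range x') = ⊤)
    (u : Fin n → S) (hu : ∑ b, u b • x b = 0) (b₀ : Fin n) : u b₀ ∈ 𝔪 := by
  classical
  by_contra hnot
  obtain ⟨c, hc, hdec⟩ := exists_unit_of_notMem hnot
  have hrel : ∑ b, (proj a (a b₀) u) b • x b = 0 := by
    rw [sum_proj_smul G a x hx, hu, map_zero]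
  have hb₀ : (proj a (a b₀) u) b₀ = C c := by
    simp only [proj]; rw [sub_self]; exact hdec
  obtain ⟨m, rfl⟩ : ∃ m, n = m + 1 := by
    cases n with
    | zero => exact b₀.elim0
    | succ m => exact ⟨m, rfl⟩
  refine hmin m (Nat.lt_succ_self m) ⟨a ∘ b₀.succAbove, x ∘ b₀.succAbove,
    fun b => hx _, ?_⟩
  rw [eq_top_iff, ← hspan, Submodule.span_le]
  rintro _ ⟨b, rfl⟩
  by_cases hb : b = b₀
  · subst hb
    rw [Fin.sum_univ_succAbove _ b, hb₀] at hrel
    have h1 : x b = (C c⁻¹ : S) • (-(∑ j, (proj a (a b) u) (b.succAbove j) • x (b.succAbove j))) := by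
      rw [← eq_neg_of_add_eq_zero_left hrel, smul_smul, ← C_mul, inv_mul_cancel₀ hc, C_1,
        one_smul]
    rw [h1]
    refine Submodule.smul_mem _ _ (Submodule.neg_mem _ (Submodule.sum_mem _ fun j _ => ?_))
    exact Submodule.smul_mem _ _ (Submodule.subset_span ⟨j, rfl⟩)
  · obtain ⟨j, rfl⟩ := Fin.exists_succAbove_eq hb
    exact Submodule.subset_span ⟨j, rfl⟩

theorem exists_min_gens [Module.Finite S N] :
    ∃ n : ℕ, ∃ (a : Fin n → ℤ) (x : Fin n → N), (∀ b, G.P (a b) (x b)) ∧
      Function.Surjective (Fintype.linearCombination S x) ∧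
      (∀ u : Fin n → S, ∑ b, u b • x b = 0 → ∀ b, u b ∈ 𝔪) ∧
      (∀ (u : Fin n → S) (d : ℤ), ∑ b, u b • x b = 0 → ∑ b, (proj a d u) b • x b = 0) := by
  classical
  have hex := exists_homog_gens G
  obtain ⟨n, ⟨a, x, hx, hspan⟩, hmin⟩ : ∃ n : ℕ, (∃ (a : Fin n → ℤ) (x : Fin n → N),
      (∀ b, G.P (a b) (x b)) ∧ Submodule.span S (Set.range x) = ⊤) ∧
      ∀ m < n, ¬ ∃ (a' : Fin m → ℤ) (x' : Fin m → N), (∀ b, G.P (a' b) (x' b)) ∧
        Submodule.span S (Set.range x') = ⊤ :=
    ⟨Nat.find hex, Nat.find_spec hex, fun m hm => Nat.find_min hex hm⟩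
  refine ⟨n, a, x, hx, ?_, ?_, ?_⟩
  · rw [← LinearMap.range_eq_top, Fintype.range_linearCombination, hspan]
  · intro u hu b
    exact rel_mem_of_minimal G a x hx hspan hmin u hu b
  · intro u d hu
    rw [sum_proj_smul G a x hx, hu, map_zero]

end MinGens


section Instances
variable {k : Type u} [Field k] {r : ℕ}

local notation "S" => MvPolynomial (Fin (r + 1)) k
local notation "𝒜" => GrSyz.stdGr k (Fin (r + 1))
local notation "𝔪" => HomogeneousIdeal.toIdeal (GrSyz.irrel (GrSyz.stdGr k (Fin (r + 1))))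

/-- the graded structure of a graded module -/
noncomputable def GrStr.ofModule {M : Type u} [AddCommGroup M] [Module k M]
    [Module (MvPolynomial (Fin (r + 1)) k) M]
    [IsScalarTower k (MvPolynomial (Fin (r + 1)) k) M]
    (ℳ : ℤ → Submodule k M) [DirectSum.Decomposition ℳ]
    [SetLike.GradedSMul (GrSyz.stdGr k (Fin (r + 1))) ℳ] : GrStr k r M where
  P d y := y ∈ ℳ d
  π d :=
    { toFun := fun y => (decompose ℳ y d : M)
      map_zero' := by simp
      map_add' := fun y z => by simp [decompose_add] }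
  π_mem d y := (decompose ℳ y d).2
  sum_π y := by
    classical
    exact ⟨(decompose ℳ y).support, (sum_support_decompose ℳ y).symm⟩
  π_smul d j s x hx := coe_decompose_smul ℳ s hx d

open Classical in
theorem sum_shift (s : S) (c : ℤ) (T : Finset ℤ)
    (hT : ∀ i ∈ (decompose 𝒜 s).support, i + c ∈ T) :
    ∑ d ∈ T, (decompose 𝒜 s (d - c) : S) = s := by
  classical
  conv_rhs => rw [← sum_support_decompose 𝒜 s]
  have hinj : Set.InjOn (fun d : ℤ => d - c) (T : Set ℤ) := fun x _ y _ h => by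
    simpa using h
  rw [← Finset.sum_image (f := fun i => (decompose 𝒜 s i : S)) hinj]
  symm
  apply Finset.sum_subset
  · intro i hi
    exact Finset.mem_image.2 ⟨i + c, hT i hi, by simp⟩
  · intro i _ hi
    rw [DFinsupp.notMem_support_iff] at hi
    rw [hi]; rfl

theorem exists_sum_proj {n : ℕ} (a : Fin n → ℤ) (v : Fin n → S) :
    ∃ T : Finset ℤ, v = ∑ d ∈ T, proj a d v := by
  classical
  refine ⟨Finset.univ.biUnion fun b => ((decompose 𝒜 (v b)).support).image (· + a b), ?_⟩
  funext b
  rw [Finset.sum_apply]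
  simp only [proj]
  rw [sum_shift]
  intro i hi
  exact Finset.mem_biUnion.2 ⟨b, Finset.mem_univ b, Finset.mem_image.2 ⟨i, hi, rfl⟩⟩

theorem proj_add {n : ℕ} (a : Fin n → ℤ) (d : ℤ) (v w : Fin n → S) :
    proj a d (v + w) = proj a d v + proj a d w := by
  funext b
  simp [proj, decompose_add]

theorem proj_zero {n : ℕ} (a : Fin n → ℤ) (d : ℤ) : proj a d (0 : Fin n → S) = 0 := by
  funext b
  simp [proj]

theorem proj_smul {n : ℕ} (a : Fin n → ℤ) (d j : ℤ) (s : S) (x : Fin n → S)
    (hx : x ∈ piece a j) : proj a d (s • x) = (decompose 𝒜 s (d - j) : S) • x := by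
  funext b
  simp only [proj, Pi.smul_apply, smul_eq_mul]
  have h : d - a b = (d - j) + (j - a b) := by ring
  rw [h, coe_decompose_mul_add_of_right_mem 𝒜 ((mem_piece a j x).1 hx b)]

/-- a submodule of a free module closed under taking homogeneous components -/
def Homog {n : ℕ} (a : Fin n → ℤ) (K : Submodule S (Fin n → S)) : Prop :=
  ∀ v ∈ K, ∀ d, proj a d v ∈ K

/-- component projection on a homogeneous submodule -/
noncomputable def subProj {n : ℕ} (a : Fin n → ℤ)
    (K : Submodule (MvPolynomial (Fin (r + 1)) k) (Fin n → MvPolynomial (Fin (r + 1)) k))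
    (hK : Homog a K) (d : ℤ) : K →+ K where
  toFun y := ⟨proj a d y, hK y y.2 d⟩
  map_zero' := by
    apply Subtype.ext
    show proj a d ((0 : K) : Fin n → S) = ((0 : K) : Fin n → S)
    rw [Submodule.coe_zero, proj_zero]
  map_add' y z := by
    apply Subtype.ext
    have h1 : ((⟨proj a d y, hK y y.2 d⟩ + ⟨proj a d z, hK z z.2 d⟩ : K) : Fin n → S) =
        proj a d y + proj a d z := Submodule.coe_add _ _
    rw [h1]
    show proj a d ((y + z : K) : Fin n → S) = proj a d y + proj a d z
    rw [Submodule.coe_add, proj_add]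

theorem coe_subProj {n : ℕ} (a : Fin n → ℤ)
    (K : Submodule (MvPolynomial (Fin (r + 1)) k) (Fin n → MvPolynomial (Fin (r + 1)) k))
    (hK : Homog a K) (d : ℤ) (y : K) :
    ((subProj a K hK d y : K) : Fin n → S) = proj a d (y : Fin n → S) := rfl

/-- the graded structure of a homogeneous submodule of a free module -/
noncomputable def GrStr.ofSub {n : ℕ} (a : Fin n → ℤ)
    (K : Submodule (MvPolynomial (Fin (r + 1)) k) (Fin n → MvPolynomial (Fin (r + 1)) k))
    (hK : Homog a K) : GrStr k r K where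
  P d y := (y : Fin n → S) ∈ piece a d
  π d := subProj a K hK d
  π_mem d y := by
    rw [coe_subProj]
    exact proj_mem a d _
  sum_π y := by
    obtain ⟨T, hT⟩ := exists_sum_proj a (y : Fin n → S)
    refine ⟨T, ?_⟩
    apply Subtype.ext
    rw [AddSubmonoidClass.coe_finsetSum]
    simp_rw [coe_subProj]
    exact hT
  π_smul d j s x hx := by
    apply Subtype.ext
    rw [coe_subProj, Submodule.coe_smul, Submodule.coe_smul]
    exact proj_smul a d j s x hx

end Instances


/-- a stage of the construction of a minimal resolution: a homogeneous submodule of a free module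
all of whose elements have coordinates in the irrelevant ideal. -/
structure Stage (k : Type u) [Field k] (r : ℕ) where
  /-- rank -/
  n : ℕ
  /-- degrees -/
  a : Fin n → ℤ
  /-- the submodule to be resolved -/
  K : Submodule (MvPolynomial (Fin (r + 1)) k) (Fin n → MvPolynomial (Fin (r + 1)) k)
  hK : Homog a K
  hmin : ∀ u ∈ K, ∀ j, u j ∈
    HomogeneousIdeal.toIdeal (GrSyz.irrel (GrSyz.stdGr k (Fin (r + 1))))

section Res
variable {k : Type u} [Field k] {r : ℕ}

local notation "S" => MvPolynomial (Fin (r + 1)) k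
local notation "𝒜" => GrSyz.stdGr k (Fin (r + 1))
local notation "𝔪" => HomogeneousIdeal.toIdeal (GrSyz.irrel (GrSyz.stdGr k (Fin (r + 1))))

theorem homog_ker {n n' : ℕ} (a : Fin n → ℤ) (a' : Fin n' → ℤ) (D : Matrix (Fin n) (Fin n') S)
    (hD : ∀ i j, D i j ∈ 𝒜 (a' j - a i)) : Homog a' (LinearMap.ker (Matrix.mulVecLin D)) := by
  intro v hv d
  rw [LinearMap.mem_ker, Matrix.mulVecLin_apply] at hv ⊢
  rw [mulVec_proj a a' D hD, hv, proj_zero]

theorem Stage.step (σ : Stage k r) :
    ∃ (n' : ℕ) (a' : Fin n' → ℤ) (D : Matrix (Fin σ.n) (Fin n') S),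
      (∀ i j, D i j ∈ 𝒜 (a' j - σ.a i)) ∧ LinearMap.range (Matrix.mulVecLin D) = σ.K ∧
      (∀ u, D.mulVec u = 0 → ∀ j, u j ∈ 𝔪) := by
  classical
  obtain ⟨n', a', x, hx, hsurj, hrel, -⟩ := exists_min_gens (GrStr.ofSub σ.a σ.K σ.hK)
  let D : Matrix (Fin σ.n) (Fin n') S := Matrix.of fun i j => (x j : Fin σ.n → S) i
  have hmv : ∀ u : Fin n' → S,
      D.mulVec u = ((Fintype.linearCombination S x u : σ.K) : Fin σ.n → S) := by
    intro u
    funext i
    rw [Fintype.linearCombination_apply, Submodule.coe_sum, Finset.sum_apply]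
    simp only [Matrix.mulVec, dotProduct, D, Matrix.of_apply, Submodule.coe_smul, Pi.smul_apply,
      smul_eq_mul]
    exact Finset.sum_congr rfl fun j _ => mul_comm _ _
  refine ⟨n', a', D, ?_, ?_, ?_⟩
  · intro i j
    exact (mem_piece σ.a (a' j) _).1 (hx j) i
  · apply le_antisymm
    · rintro _ ⟨u, rfl⟩
      rw [Matrix.mulVecLin_apply, hmv]
      exact (Fintype.linearCombination S x u).2
    · intro v hv
      obtain ⟨u, hu⟩ := hsurj ⟨v, hv⟩
      refine ⟨u, ?_⟩
      rw [Matrix.mulVecLin_apply, hmv, hu]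
  · intro u hu j
    refine hrel u ?_ j
    rw [← Fintype.linearCombination_apply]
    apply Subtype.ext
    rw [← hmv, hu]; rfl

/-- rank of the next term -/
noncomputable def Stage.n' (σ : Stage k r) : ℕ := Classical.choose σ.step

/-- degrees of the next term -/
noncomputable def Stage.a' (σ : Stage k r) : Fin σ.n' → ℤ :=
  Classical.choose (Classical.choose_spec σ.step)

/-- matrix of the next differential -/
noncomputable def Stage.D (σ : Stage k r) : Matrix (Fin σ.n) (Fin σ.n') S :=
  Classical.choose (Classical.choose_spec (Classical.choose_spec σ.step))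

theorem Stage.spec (σ : Stage k r) :
    (∀ i j, σ.D i j ∈ 𝒜 (σ.a' j - σ.a i)) ∧ LinearMap.range (Matrix.mulVecLin σ.D) = σ.K ∧
      (∀ u, σ.D.mulVec u = 0 → ∀ j, u j ∈ 𝔪) :=
  Classical.choose_spec (Classical.choose_spec (Classical.choose_spec σ.step))

/-- the next stage -/
noncomputable def Stage.next (σ : Stage k r) : Stage k r where
  n := σ.n'
  a := σ.a'
  K := LinearMap.ker (Matrix.mulVecLin σ.D)
  hK := homog_ker σ.a σ.a' σ.D σ.spec.1
  hmin u hu j := σ.spec.2.2 u (by simpa using hu) j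

/-- the sequence of stages -/
noncomputable def Stage.seq (σ : Stage k r) : ℕ → Stage k r
  | 0 => σ
  | i + 1 => (Stage.seq σ i).next

theorem Stage.entry_mem (σ : Stage k r) (i : Fin σ.n) (j : Fin σ.n') : σ.D i j ∈ 𝔪 := by
  classical
  have h1 : σ.D.mulVec (Pi.single j 1) ∈ σ.K := by
    rw [← σ.spec.2.1]
    exact ⟨Pi.single j 1, rfl⟩
  have h2 := σ.hmin _ h1 i
  rwa [Matrix.mulVec_single_one] at h2

variable {M : Type u} [AddCommGroup M] [Module k M] [Module (MvPolynomial (Fin (r + 1)) k) M]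
  [IsScalarTower k (MvPolynomial (Fin (r + 1)) k) M]
  [Module.Finite (MvPolynomial (Fin (r + 1)) k) M]
  (ℳ : ℤ → Submodule k M) [DirectSum.Decomposition ℳ]
  [SetLike.GradedSMul (GrSyz.stdGr k (Fin (r + 1))) ℳ]

theorem exists_freeRes_isMinimal :
    ∃ F : GrSyz.FreeRes (GrSyz.stdGr k (Fin (r + 1))) ℳ,
      F.IsMinimal (HomogeneousIdeal.toIdeal (GrSyz.irrel (GrSyz.stdGr k (Fin (r + 1))))) := by
  classical
  obtain ⟨n₀, a₀, x, hx, hsurj, hrel, hproj⟩ := exists_min_gens (GrStr.ofModule (r := r) ℳ)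
  let σ₀ : Stage k r :=
    { n := n₀
      a := a₀
      K := LinearMap.ker (Fintype.linearCombination S x)
      hK := by
        intro v hv d
        rw [LinearMap.mem_ker, Fintype.linearCombination_apply] at hv ⊢
        exact hproj v d hv
      hmin := by
        intro u hu j
        rw [LinearMap.mem_ker, Fintype.linearCombination_apply] at hu
        exact hrel u hu j }
  refine ⟨{ rk := fun i => (σ₀.seq i).n
            deg := fun i => (σ₀.seq i).a
            d := fun i => (σ₀.seq i).D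
            aug := x
            d_mem := fun i a b => (σ₀.seq i).spec.1 a b
            aug_mem := hx
            aug_surjective := hsurj
            exact_zero := (σ₀.seq 0).spec.2.1.symm
            exact_succ := fun i => (σ₀.seq (i + 1)).spec.2.1.symm }, ?_⟩
  intro i a b
  exact (σ₀.seq i).entry_mem a b

end Res

end Groth.Agent.Lib.helper24.GrMinRes
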