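import Mathlib
import Groth.Prelude.Def_GrSyz
import Groth.Agent.Lib.helper24.GrHilb
import Groth.Agent.Lib.helper24.GrMinRes

/-!
# Uniqueness of minimal graded free resolutions: graded Betti numbers (helper24)
-/

set_option autoImplicit false
set_option linter.style.haveILetI false

universe u

namespace Groth.Agent.Lib.helper24.GrMinRes

open DirectSum Groth.Agent.Lib.helper24.GrHilb MvPolynomial

section PartA
variable {k : Type u} [Field k] {r : ℕ}

local notation "S" => MvPolynomial (Fin (r + 1)) k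
local notation "𝒜" => GrSyz.stdGr k (Fin (r + 1))
local notation "𝔪" => HomogeneousIdeal.toIdeal (GrSyz.irrel (GrSyz.stdGr k (Fin (r + 1))))

/-- constant coefficient of a homogeneous element of nonzero degree vanishes -/
theorem constantCoeff_of_mem {e : ℤ} (he : e ≠ 0) {s : S} (hs : s ∈ 𝒜 e) :
    constantCoeff s = 0 := by
  by_contra hne
  have h1 := hs (d := 0) hne
  rw [weight_one_eq] at h1
  apply he
  rw [← h1]; simp

theorem constantCoeff_of_mem_irrel {s : S} (hs : s ∈ 𝔪) : constantCoeff s = 0 := by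
  have h : 𝔪 ≤ RingHom.ker (constantCoeff : S →+* k) := by
    show Ideal.span _ ≤ _
    rw [Ideal.span_le]
    rintro x ⟨e, he, hx⟩
    exact constantCoeff_of_mem he.ne' hx
  exact h hs

theorem eq_C_constantCoeff {s : S} (hs : s ∈ 𝒜 0) : s = C (constantCoeff s) :=
  stdGr_zero hs

theorem one_mem_stdGr : (1 : S) ∈ 𝒜 0 := SetLike.GradedOne.one_mem

/-- the determinant of a homogeneous square matrix is homogeneous of degree zero -/
theorem det_mem {m : ℕ} (b : Fin m → ℤ) (E : Matrix (Fin m) (Fin m) S)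
    (hE : ∀ l j, E l j ∈ 𝒜 (b j - b l)) : E.det ∈ 𝒜 0 := by
  classical
  rw [Matrix.det_apply]
  refine Submodule.sum_mem _ fun σ _ => ?_
  have h1 : ∏ i, E (σ i) i ∈ 𝒜 (∑ i, (b i - b (σ i))) :=
    SetLike.prod_mem_graded 𝒜 _ _ fun i _ => hE (σ i) i
  have h2 : ∑ i, (b i - b (σ i)) = 0 := by
    rw [Finset.sum_sub_distrib, Equiv.sum_comp σ b, sub_self]
  rw [h2] at h1
  rcases Int.units_eq_one_or (Equiv.Perm.sign σ) with h | h
  · rw [h, one_smul]; exact h1
  · rw [h, Units.neg_smul, one_smul]; exact Submodule.neg_mem _ h1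

/-- a homogeneous square matrix congruent to the identity modulo the irrelevant ideal has
determinant one -/
theorem det_eq_one {m : ℕ} (b : Fin m → ℤ) (E : Matrix (Fin m) (Fin m) S)
    (hE : ∀ l j, E l j ∈ 𝒜 (b j - b l)) (hE1 : ∀ l j, (E - 1) l j ∈ 𝔪) : E.det = 1 := by
  classical
  have h1 : E.map (constantCoeff : S →+* k) = 1 := by
    ext l j
    have := constantCoeff_of_mem_irrel (hE1 l j)
    rw [Matrix.sub_apply, map_sub, sub_eq_zero] at this
    rw [Matrix.map_apply, this, Matrix.one_apply, Matrix.one_apply]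
    split_ifs <;> simp
  have h2 : constantCoeff E.det = 1 := by
    have := RingHom.map_det (constantCoeff : S →+* k) E
    rw [this]
    show (E.map (constantCoeff : S →+* k)).det = 1
    rw [h1, Matrix.det_one]
  rw [eq_C_constantCoeff (det_mem b E hE), h2, C_1]

end PartA


section PartB
variable {k : Type u} [Field k] {r : ℕ}

local notation "S" => MvPolynomial (Fin (r + 1)) k
local notation "𝒜" => GrSyz.stdGr k (Fin (r + 1))
local notation "𝔪" => HomogeneousIdeal.toIdeal (GrSyz.irrel (GrSyz.stdGr k (Fin (r + 1))))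

/-- block counting: a left-invertible matrix over a field respecting degrees -/
theorem card_le_of_block {m m' : ℕ} (b : Fin m → ℤ) (b' : Fin m' → ℤ)
    (A : Matrix (Fin m') (Fin m) k) (A' : Matrix (Fin m) (Fin m') k) (hAA : A' * A = 1)
    (hblock : ∀ i j, A i j ≠ 0 → b j = b' i) (e : ℤ) :
    Fintype.card {j : Fin m // b j = e} ≤ Fintype.card {i : Fin m' // b' i = e} := by
  classical
  let B : Matrix {i : Fin m' // b' i = e} {j : Fin m // b j = e} k :=
    A.submatrix Subtype.val Subtype.val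
  let B' : Matrix {j : Fin m // b j = e} {i : Fin m' // b' i = e} k :=
    A'.submatrix Subtype.val Subtype.val
  have hBB : B' * B = 1 := by
    ext j j'
    have h1 : (A' * A) j.1 j'.1 = (1 : Matrix (Fin m) (Fin m) k) j.1 j'.1 := by rw [hAA]
    rw [Matrix.mul_apply] at h1
    rw [Matrix.mul_apply]
    have h2 : ∑ i : {i : Fin m' // b' i = e}, B' j i * B i j' =
        ∑ i : Fin m', A' j.1 i * A i j'.1 := by
      rw [← Fintype.sum_subtype_add_sum_subtype (fun i : Fin m' => b' i = e)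
        (fun i => A' j.1 i * A i j'.1)]
      have h3 : ∑ i : {i : Fin m' // ¬ b' i = e}, A' j.1 i.1 * A i.1 j'.1 = 0 := by
        refine Finset.sum_eq_zero fun i _ => ?_
        have : A i.1 j'.1 = 0 := by
          by_contra hne
          exact i.2 ((hblock i.1 j'.1 hne).symm.trans j'.2)
        rw [this, mul_zero]
      rw [h3, add_zero]
      rfl
    rw [h2, h1, Matrix.one_apply, Matrix.one_apply]
    simp [Subtype.ext_iff]
  have h1 : (1 : Matrix {j : Fin m // b j = e} {j : Fin m // b j = e} k).rank =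
      Fintype.card {j : Fin m // b j = e} := Matrix.rank_one
  rw [← hBB] at h1
  have h2 := Matrix.rank_mul_le_right B' B
  have h3 := Matrix.rank_le_card_height B
  omega

variable {N : Type u} [AddCommGroup N] [Module (MvPolynomial (Fin (r + 1)) k) N] (G : GrStr k r N)

theorem GrStr.π_self {j : ℤ} {x : N} (hx : G.P j x) : G.π j x = x := by
  have h := G.π_smul j j 1 x hx
  rw [one_smul, sub_self, decompose_of_mem_same 𝒜 one_mem_stdGr, one_smul] at h
  exact h

theorem exists_homog_coeffs {m' : ℕ} (b' : Fin m' → ℤ) (x' : Fin m' → N)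
    (hx' : ∀ i, G.P (b' i) (x' i)) (hspan' : Submodule.span S (Set.range x') = ⊤)
    {e : ℤ} {y : N} (hy : G.P e y) :
    ∃ w : Fin m' → S, (∀ i, w i ∈ 𝒜 (e - b' i)) ∧ ∑ i, w i • x' i = y := by
  have hy' : y ∈ Submodule.span S (Set.range x') := hspan' ▸ Submodule.mem_top
  obtain ⟨c, hc⟩ := (Submodule.mem_span_range_iff_exists_fun S).1 hy'
  refine ⟨proj b' e c, fun i => (mem_piece b' e _).1 (proj_mem b' e c) i, ?_⟩
  rw [sum_proj_smul G b' x' hx' c e, hc, G.π_self hy]

/-- comparison of two minimal homogeneous systems of generators -/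
theorem exists_comparison {m m' : ℕ} (b : Fin m → ℤ) (x : Fin m → N)
    (hx : ∀ j, G.P (b j) (x j)) (hspan : Submodule.span S (Set.range x) = ⊤)
    (hrel : ∀ u : Fin m → S, ∑ j, u j • x j = 0 → ∀ j, u j ∈ 𝔪)
    (b' : Fin m' → ℤ) (x' : Fin m' → N)
    (hx' : ∀ i, G.P (b' i) (x' i)) (hspan' : Submodule.span S (Set.range x') = ⊤)
    (hrel' : ∀ u : Fin m' → S, ∑ i, u i • x' i = 0 → ∀ i, u i ∈ 𝔪) :
    ∃ (W : Matrix (Fin m') (Fin m) S) (W' : Matrix (Fin m) (Fin m') S),
      (∀ i j, W i j ∈ 𝒜 (b j - b' i)) ∧ (∀ j i, W' j i ∈ 𝒜 (b' i - b j)) ∧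
      (∀ j, ∑ i, W i j • x' i = x j) ∧ (W' * W).det = 1 ∧ (W * W').det = 1 ∧
      ∀ e : ℤ, Fintype.card {j : Fin m // b j = e} = Fintype.card {i : Fin m' // b' i = e} := by
  classical
  have h1 : ∀ j, ∃ w : Fin m' → S, (∀ i, w i ∈ 𝒜 (b j - b' i)) ∧ ∑ i, w i • x' i = x j :=
    fun j => exists_homog_coeffs G b' x' hx' hspan' (hx j)
  have h2 : ∀ i, ∃ w : Fin m → S, (∀ j, w j ∈ 𝒜 (b' i - b j)) ∧ ∑ j, w j • x j = x' i :=
    fun i => exists_homog_coeffs G b x hx hspan (hx' i)
  choose w hw hwx using h1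
  choose w' hw' hwx' using h2
  let W : Matrix (Fin m') (Fin m) S := Matrix.of fun i j => w j i
  let W' : Matrix (Fin m) (Fin m') S := Matrix.of fun j i => w' i j
  have hW : ∀ i j, W i j ∈ 𝒜 (b j - b' i) := fun i j => hw j i
  have hW' : ∀ j i, W' j i ∈ 𝒜 (b' i - b j) := fun j i => hw' i j
  have hWx : ∀ j, ∑ i, W i j • x' i = x j := fun j => hwx j
  have hW'x : ∀ i, ∑ j, W' j i • x j = x' i := fun i => hwx' i
  -- products are homogeneous
  have hmulmem : ∀ l j, (W' * W) l j ∈ 𝒜 (b j - b l) := by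
    intro l j
    rw [Matrix.mul_apply]
    refine Submodule.sum_mem _ fun i _ => ?_
    have := SetLike.mul_mem_graded (hW' l i) (hW i j)
    rwa [show b' i - b l + (b j - b' i) = b j - b l by ring] at this
  have hmulmem' : ∀ i i', (W * W') i i' ∈ 𝒜 (b' i' - b' i) := by
    intro i i'
    rw [Matrix.mul_apply]
    refine Submodule.sum_mem _ fun j _ => ?_
    have := SetLike.mul_mem_graded (hW i j) (hW' j i')
    rwa [show b j - b' i + (b' i' - b j) = b' i' - b' i by ring] at this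
  -- congruent to one
  have hcong : ∀ l j, (W' * W - (1 : Matrix (Fin m) (Fin m) S)) l j ∈ 𝔪 := by
    intro l j
    have hsum : ∑ l, (W' * W - (1 : Matrix (Fin m) (Fin m) S)) l j • x l = 0 := by
      have e1 : ∑ l, (W' * W) l j • x l = x j := by
        conv_rhs => rw [← hWx j]
        simp_rw [← hW'x, Finset.smul_sum, smul_smul, Matrix.mul_apply, Finset.sum_smul]
        rw [Finset.sum_comm]
        refine Finset.sum_congr rfl fun i _ => Finset.sum_congr rfl fun l _ => ?_
        rw [mul_comm]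
      simp only [Matrix.sub_apply, sub_smul, Finset.sum_sub_distrib, e1, Matrix.one_apply,
        ite_smul, one_smul, zero_smul, Finset.sum_ite_eq', Finset.mem_univ, if_true, sub_self]
    exact hrel _ hsum l
  have hcong' : ∀ i i', (W * W' - (1 : Matrix (Fin m') (Fin m') S)) i i' ∈ 𝔪 := by
    intro i i'
    have hsum : ∑ i, (W * W' - (1 : Matrix (Fin m') (Fin m') S)) i i' • x' i = 0 := by
      have e1 : ∑ i, (W * W') i i' • x' i = x' i' := by
        conv_rhs => rw [← hW'x i']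
        simp_rw [← hWx, Finset.smul_sum, smul_smul, Matrix.mul_apply, Finset.sum_smul]
        rw [Finset.sum_comm]
        refine Finset.sum_congr rfl fun j _ => Finset.sum_congr rfl fun i _ => ?_
        rw [mul_comm]
      simp only [Matrix.sub_apply, sub_smul, Finset.sum_sub_distrib, e1, Matrix.one_apply,
        ite_smul, one_smul, zero_smul, Finset.sum_ite_eq', Finset.mem_univ, if_true, sub_self]
    exact hrel' _ hsum i
  refine ⟨W, W', hW, hW', hWx, det_eq_one b _ hmulmem hcong, det_eq_one b' _ hmulmem' hcong', ?_⟩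
  -- counting
  intro e
  let ε : S →+* k := constantCoeff
  have hε1 : W'.map ε * W.map ε = 1 := by
    rw [← Matrix.map_mul]
    ext l j
    have := constantCoeff_of_mem_irrel (hcong l j)
    rw [Matrix.sub_apply, map_sub, sub_eq_zero] at this
    rw [Matrix.map_apply]
    show constantCoeff ((W' * W) l j) = _
    rw [this, Matrix.one_apply, Matrix.one_apply]
    split_ifs <;> simp
  have hε2 : W.map ε * W'.map ε = 1 := by
    rw [← Matrix.map_mul]
    ext i i'
    have := constantCoeff_of_mem_irrel (hcong' i i')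
    rw [Matrix.sub_apply, map_sub, sub_eq_zero] at this
    rw [Matrix.map_apply]
    show constantCoeff ((W * W') i i') = _
    rw [this, Matrix.one_apply, Matrix.one_apply]
    split_ifs <;> simp
  apply le_antisymm
  · refine card_le_of_block b b' (W.map ε) (W'.map ε) hε1 ?_ e
    intro i j hne
    by_contra hbb
    apply hne
    rw [Matrix.map_apply]
    exact constantCoeff_of_mem (sub_ne_zero.2 hbb) (hW i j)
  · refine card_le_of_block b' b (W'.map ε) (W.map ε) hε2 ?_ e
    intro j i hne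
    by_contra hbb
    apply hne
    rw [Matrix.map_apply]
    exact constantCoeff_of_mem (sub_ne_zero.2 hbb) (hW' j i)

end PartB


section PartC
variable {k : Type u} [Field k] {r : ℕ}

local notation "S" => MvPolynomial (Fin (r + 1)) k
local notation "𝒜" => GrSyz.stdGr k (Fin (r + 1))
local notation "𝔪" => HomogeneousIdeal.toIdeal (GrSyz.irrel (GrSyz.stdGr k (Fin (r + 1))))

theorem mulVec_mem_ideal {R : Type*} [CommRing R] (I : Ideal R) {n m : ℕ}
    (D : Matrix (Fin n) (Fin m) R) (hD : ∀ a b, D a b ∈ I) (w : Fin m → R) (a : Fin n) :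
    (D.mulVec w) a ∈ I := by
  simp only [Matrix.mulVec, dotProduct]
  exact Ideal.sum_mem _ fun b _ => Ideal.mul_mem_right _ _ (hD a b)

theorem homog_range {n m : ℕ} (a : Fin n → ℤ) (b : Fin m → ℤ) (D : Matrix (Fin n) (Fin m) S)
    (hD : ∀ i j, D i j ∈ 𝒜 (b j - a i)) : Homog a (LinearMap.range (Matrix.mulVecLin D)) := by
  rintro _ ⟨u, rfl⟩ d
  refine ⟨proj b d u, ?_⟩
  rw [Matrix.mulVecLin_apply, Matrix.mulVecLin_apply, mulVec_proj a b D hD]

theorem inj_of_det {R : Type*} [CommRing R] {n m : ℕ} (W : Matrix (Fin m) (Fin n) R)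
    (V : Matrix (Fin n) (Fin m) R) (h : (V * W).det = 1) (u : Fin n → R)
    (hu : W.mulVec u = 0) : u = 0 := by
  have hunit : IsUnit (V * W).det := by rw [h]; exact isUnit_one
  have h1 : (V * W)⁻¹ * (V * W) = 1 := Matrix.nonsing_inv_mul _ hunit
  have h2 : (V * W).mulVec u = 0 := by rw [← Matrix.mulVec_mulVec, hu, Matrix.mulVec_zero]
  have h3 : ((V * W)⁻¹ * (V * W)).mulVec u = 0 := by
    rw [← Matrix.mulVec_mulVec, h2, Matrix.mulVec_zero]
  rwa [h1, Matrix.one_mulVec] at h3

theorem surj_of_det {R : Type*} [CommRing R] {n m : ℕ} (W : Matrix (Fin m) (Fin n) R)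
    (V : Matrix (Fin n) (Fin m) R) (h : (W * V).det = 1) (y : Fin m → R) :
    ∃ u, W.mulVec u = y := by
  have hunit : IsUnit (W * V).det := by rw [h]; exact isUnit_one
  have h1 : (W * V) * (W * V)⁻¹ = 1 := Matrix.mul_nonsing_inv _ hunit
  refine ⟨V.mulVec ((W * V)⁻¹.mulVec y), ?_⟩
  rw [Matrix.mulVec_mulVec, Matrix.mulVec_mulVec, h1, Matrix.one_mulVec]

/-- the inductive step of the comparison of two minimal resolutions -/
theorem comparison_step {n n' m m' : ℕ} (a : Fin n → ℤ) (a' : Fin n' → ℤ) (b : Fin m → ℤ)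
    (b' : Fin m' → ℤ) (D : Matrix (Fin n) (Fin m) S) (hD : ∀ i j, D i j ∈ 𝒜 (b j - a i))
    (D' : Matrix (Fin n') (Fin m') S) (hD' : ∀ i j, D' i j ∈ 𝒜 (b' j - a' i))
    (hrelD : ∀ u, D.mulVec u = 0 → ∀ j, u j ∈ 𝔪) (hrelD' : ∀ u, D'.mulVec u = 0 → ∀ j, u j ∈ 𝔪)
    (Wp : Matrix (Fin n') (Fin n) S) (hWp : ∀ i j, Wp i j ∈ 𝒜 (a j - a' i))
    (hinj : ∀ u, Wp.mulVec u = 0 → u = 0) (hsurj : ∀ y, ∃ u, Wp.mulVec u = y)
    (hker : ∀ u, u ∈ LinearMap.range (Matrix.mulVecLin D) ↔
      Wp.mulVec u ∈ LinearMap.range (Matrix.mulVecLin D')) :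
    ∃ W : Matrix (Fin m') (Fin m) S, (∀ l j, W l j ∈ 𝒜 (b j - b' l)) ∧
      (∀ u, W.mulVec u = 0 → u = 0) ∧ (∀ y, ∃ u, W.mulVec u = y) ∧ D' * W = Wp * D ∧
      ∀ e : ℤ, Fintype.card {j : Fin m // b j = e} = Fintype.card {l : Fin m' // b' l = e} := by
  classical
  let K' : Submodule S (Fin n' → S) := LinearMap.range (Matrix.mulVecLin D')
  have hK' : Homog a' K' := homog_range a' b' D' hD'
  let G := GrStr.ofSub a' K' hK'
  -- the two generating families
  have hx'mem : ∀ l, D'.mulVec (Pi.single l 1) ∈ K' := fun l => ⟨Pi.single l 1, rfl⟩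
  have hxmem : ∀ j, Wp.mulVec (D.mulVec (Pi.single j 1)) ∈ K' := fun j =>
    (hker _).1 ⟨Pi.single j 1, rfl⟩
  let x' : Fin m' → K' := fun l => ⟨D'.mulVec (Pi.single l 1), hx'mem l⟩
  let x : Fin m → K' := fun j => ⟨Wp.mulVec (D.mulVec (Pi.single j 1)), hxmem j⟩
  have hPx' : ∀ l, G.P (b' l) (x' l) := by
    intro l
    show D'.mulVec (Pi.single l 1) ∈ piece a' (b' l)
    rw [mem_piece]
    intro i
    rw [Matrix.mulVec_single_one]
    exact hD' i l
  have hPx : ∀ j, G.P (b j) (x j) := by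
    intro j
    show Wp.mulVec (D.mulVec (Pi.single j 1)) ∈ piece a' (b j)
    refine mulVec_mem_piece a' a Wp hWp (b j) _ ?_
    rw [mem_piece]
    intro i
    rw [Matrix.mulVec_single_one]
    exact hD i j
  -- linear combinations
  have hcomb' : ∀ u : Fin m' → S, ((∑ l, u l • x' l : K') : Fin n' → S) = D'.mulVec u := by
    intro u
    rw [Submodule.coe_sum]
    simp only [Submodule.coe_smul, x']
    funext i
    simp only [Finset.sum_apply, Pi.smul_apply, Matrix.mulVec_single_one, smul_eq_mul,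
      Matrix.mulVec, dotProduct, Matrix.col_apply]
    exact Finset.sum_congr rfl fun l _ => mul_comm _ _
  have hcomb : ∀ u : Fin m → S,
      ((∑ j, u j • x j : K') : Fin n' → S) = Wp.mulVec (D.mulVec u) := by
    intro u
    rw [Submodule.coe_sum]
    simp only [Submodule.coe_smul, x]
    have h1 : D.mulVec u = ∑ j, u j • D.mulVec (Pi.single j 1) := by
      funext i
      simp only [Finset.sum_apply, Pi.smul_apply, Matrix.mulVec_single_one, smul_eq_mul,
        Matrix.mulVec, dotProduct, Matrix.col_apply]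
      exact Finset.sum_congr rfl fun l _ => mul_comm _ _
    rw [h1, Matrix.mulVec_sum]
    refine Finset.sum_congr rfl fun j _ => ?_
    rw [Matrix.mulVec_smul]
  have hspan' : Submodule.span S (Set.range x') = ⊤ := by
    rw [eq_top_iff]
    rintro ⟨y, u, rfl⟩ -
    have : (⟨Matrix.mulVecLin D' u, ⟨u, rfl⟩⟩ : K') = ∑ l, u l • x' l := by
      apply Subtype.ext
      rw [hcomb' u]; rfl
    rw [this]
    exact Submodule.sum_mem _ fun l _ => Submodule.smul_mem _ _ (Submodule.subset_span ⟨l, rfl⟩)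
  have hspan : Submodule.span S (Set.range x) = ⊤ := by
    rw [eq_top_iff]
    rintro ⟨y, hy⟩ -
    obtain ⟨u₀, hu₀⟩ := hsurj y
    have h1 : u₀ ∈ LinearMap.range (Matrix.mulVecLin D) := (hker u₀).2 (hu₀ ▸ hy)
    obtain ⟨w, hw⟩ := h1
    have : (⟨y, hy⟩ : K') = ∑ j, w j • x j := by
      apply Subtype.ext
      rw [hcomb w]
      show y = Wp.mulVec (D.mulVec w)
      rw [← hu₀, ← hw]; rfl
    rw [this]
    exact Submodule.sum_mem _ fun j _ => Submodule.smul_mem _ _ (Submodule.subset_span ⟨j, rfl⟩)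
  have hrel' : ∀ u : Fin m' → S, ∑ l, u l • x' l = 0 → ∀ l, u l ∈ 𝔪 := by
    intro u hu
    apply hrelD'
    rw [← hcomb' u, hu]; rfl
  have hrel : ∀ u : Fin m → S, ∑ j, u j • x j = 0 → ∀ j, u j ∈ 𝔪 := by
    intro u hu
    apply hrelD
    apply hinj
    rw [← hcomb u, hu]; rfl
  obtain ⟨W, W', hW, -, hWx, hdet1, hdet2, hcard⟩ :=
    exists_comparison G b x hPx hspan hrel b' x' hPx' hspan' hrel'
  refine ⟨W, hW, inj_of_det W W' hdet1, surj_of_det W W' hdet2, ?_, hcard⟩
  ext i j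
  have h1 : ((∑ l, W l j • x' l : K') : Fin n' → S) i = ((x j : K') : Fin n' → S) i := by
    rw [hWx j]
  rw [hcomb' (fun l => W l j)] at h1
  rw [Matrix.mul_apply, Matrix.mul_apply]
  have h2 : (D'.mulVec fun l => W l j) i = ∑ l, D' i l * W l j := by
    simp [Matrix.mulVec, dotProduct]
  have h3 : ((x j : K') : Fin n' → S) i = ∑ c, Wp i c * D c j := by
    show (Wp.mulVec (D.mulVec (Pi.single j 1))) i = _
    rw [Matrix.mulVec_single_one]
    simp [Matrix.mulVec, dotProduct]
  rw [← h2, h1, h3]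

end PartC


section PartD
variable {k : Type u} [Field k] {r : ℕ}

local notation "S" => MvPolynomial (Fin (r + 1)) k
local notation "𝒜" => GrSyz.stdGr k (Fin (r + 1))
local notation "𝔪" => HomogeneousIdeal.toIdeal (GrSyz.irrel (GrSyz.stdGr k (Fin (r + 1))))

variable {M : Type u} [AddCommGroup M] [Module k M] [Module (MvPolynomial (Fin (r + 1)) k) M]
  [IsScalarTower k (MvPolynomial (Fin (r + 1)) k) M]
  (ℳ : ℤ → Submodule k M) [DirectSum.Decomposition ℳ]
  [SetLike.GradedSMul (GrSyz.stdGr k (Fin (r + 1))) ℳ]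

variable {ℳ}

theorem FreeRes.rel_zero (F : GrSyz.FreeRes (GrSyz.stdGr k (Fin (r + 1))) ℳ)
    (hF : F.IsMinimal (HomogeneousIdeal.toIdeal (GrSyz.irrel (GrSyz.stdGr k (Fin (r + 1))))))
    (u : Fin (F.rk 0) → S) (hu : ∑ j, u j • F.aug j = 0) (j : Fin (F.rk 0)) : u j ∈ 𝔪 := by
  have h1 : u ∈ LinearMap.ker (Fintype.linearCombination S F.aug) := by
    rw [LinearMap.mem_ker, Fintype.linearCombination_apply]; exact hu
  rw [F.exact_zero] at h1
  obtain ⟨w, rfl⟩ := h1
  exact mulVec_mem_ideal _ (F.d 0) (hF 0) w j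

theorem FreeRes.rel_succ (F : GrSyz.FreeRes (GrSyz.stdGr k (Fin (r + 1))) ℳ)
    (hF : F.IsMinimal (HomogeneousIdeal.toIdeal (GrSyz.irrel (GrSyz.stdGr k (Fin (r + 1))))))
    (i : ℕ) (u : Fin (F.rk (i + 1)) → S) (hu : (F.d i).mulVec u = 0) (j : Fin (F.rk (i + 1))) :
    u j ∈ 𝔪 := by
  have h1 : u ∈ LinearMap.ker (Matrix.mulVecLin (F.d i)) := by
    rw [LinearMap.mem_ker, Matrix.mulVecLin_apply]; exact hu
  rw [F.exact_succ i] at h1
  obtain ⟨w, rfl⟩ := h1
  exact mulVec_mem_ideal _ (F.d (i + 1)) (hF (i + 1)) w j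

theorem comparison_base (F F' : GrSyz.FreeRes (GrSyz.stdGr k (Fin (r + 1))) ℳ)
    (hF : F.IsMinimal (HomogeneousIdeal.toIdeal (GrSyz.irrel (GrSyz.stdGr k (Fin (r + 1))))))
    (hF' : F'.IsMinimal (HomogeneousIdeal.toIdeal (GrSyz.irrel (GrSyz.stdGr k (Fin (r + 1)))))) :
    ∃ W : Matrix (Fin (F'.rk 0)) (Fin (F.rk 0)) S,
      (∀ l j, W l j ∈ 𝒜 (F.deg 0 j - F'.deg 0 l)) ∧
      (∀ u, W.mulVec u = 0 → u = 0) ∧ (∀ y, ∃ u, W.mulVec u = y) ∧
      (∀ u, u ∈ LinearMap.range (Matrix.mulVecLin (F.d 0)) ↔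
        W.mulVec u ∈ LinearMap.range (Matrix.mulVecLin (F'.d 0))) ∧
      ∀ e : ℤ, Fintype.card {j : Fin (F.rk 0) // F.deg 0 j = e} =
        Fintype.card {l : Fin (F'.rk 0) // F'.deg 0 l = e} := by
  classical
  let G := GrStr.ofModule (r := r) ℳ
  have hspan : Submodule.span S (Set.range F.aug) = ⊤ := by
    rw [← Fintype.range_linearCombination, LinearMap.range_eq_top]
    exact F.aug_surjective
  have hspan' : Submodule.span S (Set.range F'.aug) = ⊤ := by
    rw [← Fintype.range_linearCombination, LinearMap.range_eq_top]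
    exact F'.aug_surjective
  obtain ⟨W, W', hW, -, hWx, hdet1, hdet2, hcard⟩ :=
    exists_comparison G (F.deg 0) F.aug F.aug_mem hspan (FreeRes.rel_zero F hF)
      (F'.deg 0) F'.aug F'.aug_mem hspan' (FreeRes.rel_zero F' hF')
  refine ⟨W, hW, inj_of_det W W' hdet1, surj_of_det W W' hdet2, ?_, hcard⟩
  intro u
  rw [← F.exact_zero, ← F'.exact_zero, LinearMap.mem_ker, LinearMap.mem_ker,
    Fintype.linearCombination_apply, Fintype.linearCombination_apply]
  have h1 : ∑ j, u j • F.aug j = ∑ l, (W.mulVec u) l • F'.aug l := by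
    simp_rw [← hWx, Finset.smul_sum, smul_smul]
    rw [Finset.sum_comm]
    refine Finset.sum_congr rfl fun l _ => ?_
    rw [← Finset.sum_smul]
    congr 1
    simp only [Matrix.mulVec, dotProduct]
    exact Finset.sum_congr rfl fun j _ => mul_comm _ _
  rw [h1]

theorem betti_eq_card (F : GrSyz.FreeRes (GrSyz.stdGr k (Fin (r + 1))) ℳ) (i : ℕ) (e : ℤ) :
    F.betti i e = Fintype.card {j : Fin (F.rk i) // F.deg i j = e} := by
  classical
  rw [Fintype.card_subtype]
  rfl

/-- two minimal graded free resolutions have the same graded Betti numbers -/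
theorem betti_eq (F F' : GrSyz.FreeRes (GrSyz.stdGr k (Fin (r + 1))) ℳ)
    (hF : F.IsMinimal (HomogeneousIdeal.toIdeal (GrSyz.irrel (GrSyz.stdGr k (Fin (r + 1))))))
    (hF' : F'.IsMinimal (HomogeneousIdeal.toIdeal (GrSyz.irrel (GrSyz.stdGr k (Fin (r + 1))))))
    (i : ℕ) (e : ℤ) : F.betti i e = F'.betti i e := by
  classical
  have main : ∀ i : ℕ, (∃ W : Matrix (Fin (F'.rk i)) (Fin (F.rk i)) S,
      (∀ l j, W l j ∈ 𝒜 (F.deg i j - F'.deg i l)) ∧
      (∀ u, W.mulVec u = 0 → u = 0) ∧ (∀ y, ∃ u, W.mulVec u = y) ∧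
      (∀ u, u ∈ LinearMap.range (Matrix.mulVecLin (F.d i)) ↔
        W.mulVec u ∈ LinearMap.range (Matrix.mulVecLin (F'.d i)))) ∧
      ∀ e : ℤ, Fintype.card {j : Fin (F.rk i) // F.deg i j = e} =
        Fintype.card {l : Fin (F'.rk i) // F'.deg i l = e} := by
    intro i
    induction i with
    | zero =>
      obtain ⟨W, h1, h2, h3, h4, h5⟩ := comparison_base F F' hF hF'
      exact ⟨⟨W, h1, h2, h3, h4⟩, h5⟩
    | succ i ih =>
      obtain ⟨⟨Wp, hWp, hinj, hsurj, hker⟩, -⟩ := ih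
      obtain ⟨W, hW, hWinj, hWsurj, hcomm, hcard⟩ :=
        comparison_step (F.deg i) (F'.deg i) (F.deg (i + 1)) (F'.deg (i + 1)) (F.d i)
          (fun a b => F.d_mem i a b) (F'.d i) (fun a b => F'.d_mem i a b)
          (FreeRes.rel_succ F hF i) (FreeRes.rel_succ F' hF' i) Wp hWp hinj hsurj hker
      refine ⟨⟨W, hW, hWinj, hWsurj, ?_⟩, hcard⟩
      intro u
      rw [← F.exact_succ i, ← F'.exact_succ i, LinearMap.mem_ker, LinearMap.mem_ker,
        Matrix.mulVecLin_apply, Matrix.mulVecLin_apply, Matrix.mulVec_mulVec, hcomm,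
        ← Matrix.mulVec_mulVec]
      constructor
      · intro h; rw [h, Matrix.mulVec_zero]
      · intro h; exact hinj _ h
  rw [betti_eq_card, betti_eq_card]
  exact (main i).2 e

end PartD

end Groth.Agent.Lib.helper24.GrMinRes
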