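import Mathlib
import Groth.Agent.Lib.helper21.TorLib

/-!
# Tor against a residue field `R ⧸ 𝔪`: vanishing, regular elements, Auslander–Buchsbaum style
counting (helper24)
-/

set_option autoImplicit false
set_option linter.style.haveILetI false

universe u

namespace Groth.Agent.Lib.helper24.GrTor

open CategoryTheory CategoryTheory.Limits MonoidalCategory Groth.Agent.H21.TorLib TensorProduct Pointwise

variable {R : Type u} [CommRing R]

/-- if `F` kills `x • 𝟙`, so do its left derived functors -/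
theorem leftDerived_map_smul_eq_zero (F : ModuleCat.{u} R ⥤ ModuleCat.{u} R) [F.Additive] (x : R)
    (hF : ∀ X : ModuleCat.{u} R, F.map (x • 𝟙 X) = 0) (n : ℕ) (X : ModuleCat.{u} R) :
    (F.leftDerived n).map (x • 𝟙 X) = 0 := by
  let P := ProjectiveResolution.of X
  have w : (x • 𝟙 P.complex) ≫ P.π = P.π ≫ (ChainComplex.single₀ _).map (x • 𝟙 X) := by
    apply HomologicalComplex.to_single_hom_ext
    simp only [HomologicalComplex.comp_f, HomologicalComplex.smul_f_apply,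
      HomologicalComplex.id_f, Linear.smul_comp, Category.id_comp,
      ChainComplex.single₀_map_f_zero]
    erw [Linear.comp_smul, Category.comp_id]
  rw [Functor.leftDerived_map_eq F n (x • 𝟙 X) (x • 𝟙 P.complex) w]
  have h1 : (F.mapHomologicalComplex (ComplexShape.down ℕ)).map (x • 𝟙 P.complex) = 0 := by
    ext i : 1
    simp only [Functor.mapHomologicalComplex_map_f, HomologicalComplex.smul_f_apply,
      HomologicalComplex.id_f, hF]
    rfl
  have h2 : (F.mapHomologicalComplex (ComplexShape.down ℕ) ⋙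
      HomologicalComplex.homologyFunctor _ _ n).map (x • 𝟙 P.complex) = 0 := by
    rw [Functor.comp_map, h1]
    exact Functor.map_zero _ _ _
  rw [h2]
  simp

/-- `x ∈ 𝔪` acts as zero on `Tor_n(R/𝔪, -)` in the second variable -/
theorem T₂_smul_eq_zero (𝔪 : Ideal R) (x : R) (hx : x ∈ 𝔪) (n : ℕ) (N : ModuleCat.{u} R) :
    T₂ n (ModuleCat.of R (R ⧸ 𝔪)) (x • 𝟙 N) = 0 := by
  apply leftDerived_map_smul_eq_zero ((tensoringLeft (ModuleCat.{u} R)).obj (ModuleCat.of R (R ⧸ 𝔪))) x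
  intro X
  apply ModuleCat.hom_ext
  apply TensorProduct.ext'
  intro q y
  show q ⊗ₜ[R] (x • y) = 0
  rw [TensorProduct.tmul_smul, TensorProduct.smul_tmul']
  have : x • q = 0 := by
    rw [Algebra.smul_def, Ideal.Quotient.algebraMap_eq,
      Ideal.Quotient.eq_zero_iff_mem.2 hx, zero_mul]
  rw [this, TensorProduct.zero_tmul]


/-- short complex `X --x--> X --g--> Y` -/
noncomputable def smulSC (x : R) {X Y : Type u} [AddCommGroup X] [Module R X] [AddCommGroup Y]
    [Module R Y] (g : X →ₗ[R] Y) (hg : ∀ y, g (x • y) = 0) : ShortComplex (ModuleCat.{u} R) where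
  X₁ := ModuleCat.of R X
  X₂ := ModuleCat.of R X
  X₃ := ModuleCat.of R Y
  f := x • 𝟙 (ModuleCat.of R X)
  g := ModuleCat.ofHom g
  zero := by
    apply ModuleCat.hom_ext
    apply LinearMap.ext
    intro y
    exact hg y

theorem smulSC_shortExact (x : R) {X Y : Type u} [AddCommGroup X] [Module R X] [AddCommGroup Y]
    [Module R Y] (g : X →ₗ[R] Y) (hreg : IsSMulRegular X x) (hsurj : Function.Surjective g)
    (hker : ∀ y, g y = 0 ↔ ∃ z, x • z = y) :
    (smulSC x g (fun y => (hker _).2 ⟨y, rfl⟩)).ShortExact := by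
  refine ModuleCat.shortComplex_shortExact _ ?_ ?_ ?_
  · intro y
    exact hker y
  · exact hreg
  · exact hsurj

/-- for a short exact sequence `0 → X --x--> X → Y → 0` with `x ∈ 𝔪`: nonvanishing of
`Tor_i(R/𝔪, X)` gives nonvanishing of `Tor_{i+1}(R/𝔪, Y)`, and vanishing of `Tor_{i+1}(R/𝔪,X)`
and `Tor_i(R/𝔪,X)` gives vanishing of `Tor_{i+1}(R/𝔪,Y)`. -/
theorem tor_smulSC (𝔪 : Ideal R) (x : R) (hx : x ∈ 𝔪) {X Y : Type u} [AddCommGroup X] [Module R X]
    [AddCommGroup Y] [Module R Y] (g : X →ₗ[R] Y) (hreg : IsSMulRegular X x)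
    (hsurj : Function.Surjective g) (hker : ∀ y, g y = 0 ↔ ∃ z, x • z = y) (i : ℕ) :
    (¬ IsZero (T i (ModuleCat.of R (R ⧸ 𝔪)) (ModuleCat.of R X)) →
      ¬ IsZero (T (i + 1) (ModuleCat.of R (R ⧸ 𝔪)) (ModuleCat.of R Y))) ∧
    (IsZero (T (i + 1) (ModuleCat.of R (R ⧸ 𝔪)) (ModuleCat.of R X)) →
      IsZero (T i (ModuleCat.of R (R ⧸ 𝔪)) (ModuleCat.of R X)) →
      IsZero (T (i + 1) (ModuleCat.of R (R ⧸ 𝔪)) (ModuleCat.of R Y))) := by
  have hE := smulSC_shortExact x g hreg hsurj hker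
  set E := smulSC x g (fun y => (hker _).2 ⟨y, rfl⟩) with hEdef
  refine ⟨fun hne hz => ?_, fun h2 h1 => isZero_right₂ _ E hE i h2 h1⟩
  obtain ⟨-, -, δ, w₁, w₂, e₁, e₂⟩ := les₂ (ModuleCat.of R (R ⧸ 𝔪)) E hE i
  have h0 : T₂ i (ModuleCat.of R (R ⧸ 𝔪)) E.f = 0 := T₂_smul_eq_zero 𝔪 x hx i _
  have he : Epi δ := e₂.epi_f h0
  have hz' : IsZero (T (i + 1) (ModuleCat.of R (R ⧸ 𝔪)) E.X₃) := hz
  have hne' : ¬ IsZero (T i (ModuleCat.of R (R ⧸ 𝔪)) E.X₁) := hne
  exact hne' (@IsZero.of_epi _ _ _ _ _ δ he hz')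


section chain

variable (J : Ideal R) (x : R)

/-- the quotient map `R/J → R/(J + (x))` -/
noncomputable def gQ : (R ⧸ J) →ₗ[R] (R ⧸ (J ⊔ Ideal.span {x})) :=
  Submodule.mapQ J (J ⊔ Ideal.span {x}) LinearMap.id (fun _ hy => Ideal.mem_sup_left hy)

theorem gQ_mk (r : R) :
    gQ J x (Ideal.Quotient.mk J r) = Ideal.Quotient.mk (J ⊔ Ideal.span {x}) r := rfl

theorem gQ_surjective : Function.Surjective (gQ J x) := by
  intro y
  obtain ⟨r, rfl⟩ := Ideal.Quotient.mk_surjective y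
  exact ⟨Ideal.Quotient.mk J r, rfl⟩

theorem smul_mk (c r : R) : c • (Ideal.Quotient.mk J r) = Ideal.Quotient.mk J (c * r) := by
  rw [Algebra.smul_def, Ideal.Quotient.algebraMap_eq, ← map_mul]

theorem gQ_ker (y : R ⧸ J) : gQ J x y = 0 ↔ ∃ z : R ⧸ J, x • z = y := by
  obtain ⟨r, rfl⟩ := Ideal.Quotient.mk_surjective y
  rw [gQ_mk, Ideal.Quotient.eq_zero_iff_mem, Submodule.mem_sup]
  constructor
  · rintro ⟨a, ha, b, hb, hab⟩
    rw [Ideal.mem_span_singleton'] at hb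
    obtain ⟨c, rfl⟩ := hb
    refine ⟨Ideal.Quotient.mk J c, ?_⟩
    rw [smul_mk, ← hab, map_add, Ideal.Quotient.eq_zero_iff_mem.2 ha, zero_add, mul_comm]
  · rintro ⟨z, hz⟩
    obtain ⟨c, rfl⟩ := Ideal.Quotient.mk_surjective z
    rw [smul_mk, Ideal.Quotient.eq] at hz
    refine ⟨r - x * c, ?_, x * c, Ideal.mem_span_singleton'.2 ⟨c, mul_comm _ _⟩, by ring⟩
    have := J.neg_mem hz
    rwa [neg_sub] at this

theorem isSMulRegular_quot (hx : ∀ f : R, x * f ∈ J → f ∈ J) : IsSMulRegular (R ⧸ J) x := by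
  intro a b hab
  obtain ⟨r, rfl⟩ := Ideal.Quotient.mk_surjective a
  obtain ⟨r', rfl⟩ := Ideal.Quotient.mk_surjective b
  have h : x • (Ideal.Quotient.mk J r) = x • (Ideal.Quotient.mk J r') := hab
  rw [smul_mk, smul_mk, Ideal.Quotient.eq, ← mul_sub] at h
  rw [Ideal.Quotient.eq]
  exact hx _ h

end chain

/-- a chain of ideals `⊥ = J 0 ⊆ J 1 ⊆ ... ⊆ J m = 𝔪` with `J (j+1) = J j + (x j)` and `x j`
regular modulo `J j` -/
structure RegChain (𝔪 : Ideal R) (m : ℕ) where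
  /-- the ideals -/
  J : ℕ → Ideal R
  /-- the elements -/
  x : ℕ → R
  J_zero : J 0 = ⊥
  J_succ : ∀ j, j < m → J (j + 1) = J j ⊔ Ideal.span {x j}
  reg : ∀ j, j < m → ∀ f : R, x j * f ∈ J j → f ∈ J j
  mem : ∀ j, j < m → x j ∈ 𝔪
  J_top : J m = 𝔪

theorem isZero_congr_left {I I' : Ideal R} (h : I = I') (N : ModuleCat.{u} R) (i : ℕ) :
    IsZero (T i (ModuleCat.of R (R ⧸ I)) N) ↔ IsZero (T i (ModuleCat.of R (R ⧸ I')) N) := by
  subst h; rfl

theorem isZero_congr_right {I I' : Ideal R} (h : I = I') (M : ModuleCat.{u} R) (i : ℕ) :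
    IsZero (T i M (ModuleCat.of R (R ⧸ I))) ↔ IsZero (T i M (ModuleCat.of R (R ⧸ I'))) := by
  subst h; rfl

theorem tor_vanish_base (N : ModuleCat.{u} R) :
    ∀ i, 0 < i → IsZero (T i (ModuleCat.of R (R ⧸ (⊥ : Ideal R))) N) := by
  intro i hi
  obtain ⟨n, rfl⟩ : ∃ n, i = n + 1 := ⟨i - 1, by omega⟩
  haveI : Module.Flat R (ModuleCat.of R (R ⧸ (⊥ : Ideal R))) :=
    Module.Flat.of_linearEquiv (Submodule.quotEquivOfEqBot (⊥ : Submodule R R) rfl)
  exact isZero_of_flat_left _ N n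

/-- **Vanishing**: `Tor_i(R/𝔪, N) = 0` for `i > m` when `𝔪` has a regular chain of length `m`. -/
theorem RegChain.isZero_tor {𝔪 : Ideal R} {m : ℕ} (c : RegChain 𝔪 m) (N : ModuleCat.{u} R) :
    ∀ i, m < i → IsZero (T i (ModuleCat.of R (R ⧸ 𝔪)) N) := by
  have hchain : ∀ j, j ≤ m → ∀ i, j < i → IsZero (T i (ModuleCat.of R (R ⧸ c.J j)) N) := by
    intro j
    induction j with
    | zero =>
      intro _ i hi
      rw [isZero_congr_left c.J_zero N i]
      exact tor_vanish_base N i hi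
    | succ j ih =>
      intro hj i hi
      rw [isZero_congr_left (c.J_succ j (by omega)) N i]
      obtain ⟨n, rfl⟩ : ∃ n, i = n + 1 := ⟨i - 1, by omega⟩
      have hE := smulSC_shortExact (c.x j) (gQ (c.J j) (c.x j))
        (isSMulRegular_quot _ _ (c.reg j (by omega))) (gQ_surjective _ _) (gQ_ker _ _)
      exact isZero_right₁ _ hE N n (ih (by omega) (n + 1) (by omega)) (ih (by omega) n (by omega))
  intro i hi
  rw [← isZero_congr_left c.J_top N i]
  exact hchain m le_rfl i hi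

/-- **Non-vanishing**: `Tor_m(R/𝔪, R/𝔪) ≠ 0`. -/
theorem RegChain.not_isZero_tor {𝔪 : Ideal R} {m : ℕ} (c : RegChain 𝔪 m) (h𝔪 : 𝔪 ≠ ⊤) :
    ¬ IsZero (T m (ModuleCat.of R (R ⧸ 𝔪)) (ModuleCat.of R (R ⧸ 𝔪))) := by
  have hchain : ∀ j, j ≤ m →
      ¬ IsZero (T j (ModuleCat.of R (R ⧸ 𝔪)) (ModuleCat.of R (R ⧸ c.J j))) := by
    intro j
    induction j with
    | zero =>
      intro _ hz
      rw [isZero_congr_right c.J_zero _ 0] at hz
      have hz' := hz.of_iso (tor0Iso (ModuleCat.of R (R ⧸ 𝔪)) (ModuleCat.of R (R ⧸ (⊥ : Ideal R)))).symm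
      have hsub : Subsingleton ((R ⧸ 𝔪) ⊗[R] (R ⧸ (⊥ : Ideal R))) :=
        ModuleCat.subsingleton_of_isZero hz'
      let e : (R ⧸ 𝔪) ⊗[R] (R ⧸ (⊥ : Ideal R)) ≃ₗ[R] (R ⧸ 𝔪) :=
        (LinearEquiv.lTensor (R ⧸ 𝔪) (Submodule.quotEquivOfEqBot (⊥ : Submodule R R) rfl)).trans
          (TensorProduct.rid R (R ⧸ 𝔪))
      have : Subsingleton (R ⧸ 𝔪) := e.symm.toEquiv.subsingleton
      have hnt : Nontrivial (R ⧸ 𝔪) := Ideal.Quotient.nontrivial_iff.mpr h𝔪
      exact not_subsingleton _ this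
    | succ j ih =>
      intro hj
      rw [isZero_congr_right (c.J_succ j (by omega)) _ (j + 1)]
      exact (tor_smulSC 𝔪 (c.x j) (c.mem j (by omega)) (gQ (c.J j) (c.x j))
        (isSMulRegular_quot _ _ (c.reg j (by omega))) (gQ_surjective _ _) (gQ_ker _ _) j).1
        (ih (by omega))
  have := hchain m le_rfl
  rwa [isZero_congr_right c.J_top _ m] at this


/-- if `Tor_m(R/𝔪, N) = 0` (top degree), then `𝔪` contains an `N`-regular element -/
theorem RegChain.exists_regular {𝔪 : Ideal R} {m : ℕ} (c : RegChain 𝔪 m) [h𝔪 : 𝔪.IsMaximal]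
    [IsNoetherianRing R] (N : Type u) [AddCommGroup N] [Module R N] [Module.Finite R N]
    (h : IsZero (T m (ModuleCat.of R (R ⧸ 𝔪)) (ModuleCat.of R N))) :
    ∃ x ∈ 𝔪, IsSMulRegular N x := by
  classical
  by_contra hcon
  push Not at hcon
  have hsub : (𝔪 : Set R) ⊆ ⋃ p ∈ associatedPrimes R N, (p : Set R) := by
    rw [biUnion_associatedPrimes_eq_zero_divisors]
    intro x hx
    have hnr := hcon x hx
    have : ¬ Function.Injective (fun y : N => x • y) := hnr
    rw [Function.Injective] at this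
    push Not at this
    obtain ⟨a, b, hab, hne⟩ := this
    refine ⟨a - b, sub_ne_zero.2 hne, ?_⟩
    rw [smul_sub]
    exact sub_eq_zero.2 hab
  have hfin : (associatedPrimes R N).Finite := associatedPrimes.finite R N
  have hsub' : (𝔪 : Set R) ⊆ ⋃ p ∈ (↑hfin.toFinset : Set (Ideal R)), ((fun p => p) p : Set R) := by
    simpa using hsub
  obtain ⟨P, hP, hle⟩ := (Ideal.subset_union_prime (f := fun p => p) ⊥ ⊥ (fun p hp _ _ => by
    rw [Set.Finite.mem_toFinset] at hp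
    exact hp.isPrime)).1 hsub'
  rw [Set.Finite.mem_toFinset] at hP
  have hPe : 𝔪 = P := h𝔪.eq_of_le hP.isPrime.ne_top hle
  subst hPe
  obtain ⟨-, j, hj⟩ := (isAssociatedPrime_iff_exists_injective_linearMap 𝔪 N).1 hP
  have hE := linSES_shortExact j (Submodule.mkQ (LinearMap.range j)) hj
    (by
      intro y
      rw [Submodule.mkQ_apply, Submodule.Quotient.mk_eq_zero]
      rfl)
    (Submodule.mkQ_surjective _)
  have h1 := isZero_left₂ (ModuleCat.of R (R ⧸ 𝔪)) _ hE m (c.isZero_tor _ (m + 1) (by omega)) h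
  exact c.not_isZero_tor h𝔪.ne_top h1

/-- **Upper bound**: a weakly regular sequence in `𝔪` on `N` with `Tor_i(R/𝔪,N) ≠ 0` has
length at most `m - i`. -/
theorem RegChain.add_length_le {𝔪 : Ideal R} {m : ℕ} (c : RegChain 𝔪 m) (rs : List R) :
    ∀ (N : Type u) [AddCommGroup N] [Module R N] (i : ℕ),
      RingTheory.Sequence.IsWeaklyRegular N rs → (∀ r ∈ rs, r ∈ 𝔪) →
      ¬ IsZero (T i (ModuleCat.of R (R ⧸ 𝔪)) (ModuleCat.of R N)) → i + rs.length ≤ m := by
  induction rs with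
  | nil =>
    intro N _ _ i _ _ hne
    by_contra hlt
    exact hne (c.isZero_tor _ i (by simpa using hlt))
  | cons r rs ih =>
    intro N _ _ i hreg hmem hne
    rw [RingTheory.Sequence.isWeaklyRegular_cons_iff] at hreg
    have h1 := (tor_smulSC 𝔪 r (hmem r (List.mem_cons_self)) (Submodule.mkQ (r • (⊤ : Submodule R N)))
      hreg.1 (Submodule.mkQ_surjective _) (by
        intro y
        rw [Submodule.mkQ_apply, Submodule.Quotient.mk_eq_zero,
          Submodule.mem_smul_pointwise_iff_exists]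
        constructor
        · rintro ⟨z, -, rfl⟩; exact ⟨z, rfl⟩
        · rintro ⟨z, rfl⟩; exact ⟨z, Submodule.mem_top, rfl⟩) i).1 hne
    have := ih (QuotSMulTop r N) (i + 1) hreg.2 (fun r' hr' => hmem r' (List.mem_cons_of_mem _ hr')) h1
    simp only [List.length_cons]
    omega

/-- **Lower bound**: if `Tor_i(R/𝔪,N) = 0` for `i > t`, there is a weakly regular sequence in `𝔪`
on `N` of length `m - t`. -/
theorem RegChain.exists_isWeaklyRegular {𝔪 : Ideal R} {m : ℕ} (c : RegChain 𝔪 m) [h𝔪 : 𝔪.IsMaximal]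
    [IsNoetherianRing R] (e : ℕ) :
    ∀ (N : Type u) [AddCommGroup N] [Module R N] [Module.Finite R N] (t : ℕ), t + e = m →
      (∀ i, t < i → IsZero (T i (ModuleCat.of R (R ⧸ 𝔪)) (ModuleCat.of R N))) →
      ∃ rs : List R, RingTheory.Sequence.IsWeaklyRegular N rs ∧ (∀ r ∈ rs, r ∈ 𝔪) ∧
        rs.length = e := by
  induction e with
  | zero =>
    intro N _ _ _ t _ _
    exact ⟨[], RingTheory.Sequence.IsWeaklyRegular.nil R N, by simp, rfl⟩
  | succ e ih =>
    intro N _ _ _ t ht hvan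
    obtain ⟨x, hx, hreg⟩ := c.exists_regular N (hvan m (by omega))
    have hker : ∀ y : N, (Submodule.mkQ (x • (⊤ : Submodule R N))) y = 0 ↔ ∃ z, x • z = y := by
      intro y
      rw [Submodule.mkQ_apply, Submodule.Quotient.mk_eq_zero,
        Submodule.mem_smul_pointwise_iff_exists]
      constructor
      · rintro ⟨z, -, rfl⟩; exact ⟨z, rfl⟩
      · rintro ⟨z, rfl⟩; exact ⟨z, Submodule.mem_top, rfl⟩
    have hvan' : ∀ i, t + 1 < i →
        IsZero (T i (ModuleCat.of R (R ⧸ 𝔪)) (ModuleCat.of R (QuotSMulTop x N))) := by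
      intro i hi
      obtain ⟨n, rfl⟩ : ∃ n, i = n + 1 := ⟨i - 1, by omega⟩
      exact (tor_smulSC 𝔪 x hx (Submodule.mkQ (x • (⊤ : Submodule R N))) hreg
        (Submodule.mkQ_surjective _) hker n).2 (hvan (n + 1) (by omega)) (hvan n (by omega))
    obtain ⟨rs, hrs, hmem, hlen⟩ := ih (QuotSMulTop x N) (t + 1) (by omega) hvan'
    refine ⟨x :: rs, ?_, ?_, by simp [hlen]⟩
    · rw [RingTheory.Sequence.isWeaklyRegular_cons_iff]
      exact ⟨hreg, hrs⟩
    · intro r hr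
      rcases List.mem_cons.1 hr with rfl | hr
      · exact hx
      · exact hmem r hr

end Groth.Agent.Lib.helper24.GrTor
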