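import Mathlib
import Groth.Prelude.Def_GrSyz
import Groth.Agent.Lib.helper24.GrMinRes2
import Groth.Agent.Lib.helper24.GrTor

/-!
# The irrelevant ideal of `k[x_0..x_n]`: maximality and regular chain (helper24)
-/

set_option autoImplicit false
set_option linter.style.haveILetI false

universe u

namespace Groth.Agent.Lib.helper24.GrTor

open Groth.Agent.Lib.helper24.GrMinRes

variable (k : Type u) [Field k] (n : ℕ)

theorem one_notMem_irrel :
    (1 : MvPolynomial (Fin (n + 1)) k) ∉ (GrSyz.irrel (GrSyz.stdGr k (Fin (n + 1)))).toIdeal := by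
  intro h1
  have := constantCoeff_of_mem_irrel h1
  simp at this

theorem irrel_ne_top : (GrSyz.irrel (GrSyz.stdGr k (Fin (n + 1)))).toIdeal ≠ ⊤ := by
  intro h
  apply one_notMem_irrel k n
  rw [h]; exact Submodule.mem_top

instance irrel_isMaximal : (GrSyz.irrel (GrSyz.stdGr k (Fin (n + 1)))).toIdeal.IsMaximal := by
  classical
  rw [Ideal.isMaximal_iff]
  refine ⟨one_notMem_irrel k n, fun J x hJ hx hxJ => ?_⟩
  obtain ⟨c, hc, hdec⟩ := exists_unit_of_notMem hx
  have hx0 : x - (DirectSum.decompose (GrSyz.stdGr k (Fin (n + 1))) x 0 : MvPolynomial (Fin (n + 1)) k) ∈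
      (GrSyz.irrel (GrSyz.stdGr k (Fin (n + 1)))).toIdeal := by
    apply mem_irrel_of_decompose_zero
    rw [DirectSum.decompose_sub, DirectSum.sub_apply, DirectSum.decompose_coe,
      DirectSum.of_eq_same]
    simp
  have hcJ : (MvPolynomial.C c : MvPolynomial (Fin (n + 1)) k) ∈ J := by
    have := J.sub_mem hxJ (hJ hx0)
    rw [sub_sub_cancel, hdec] at this
    exact this
  have : (1 : MvPolynomial (Fin (n + 1)) k) = MvPolynomial.C c⁻¹ * MvPolynomial.C c := by
    rw [← map_mul, inv_mul_cancel₀ hc, map_one]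
  rw [this]
  exact J.mul_mem_left _ hcJ

/-- the regular chain `(x_0), (x_0,x_1), …` of the irrelevant ideal -/
noncomputable def regChain :
    RegChain (GrSyz.irrel (GrSyz.stdGr k (Fin (n + 1)))).toIdeal (n + 1) where
  J j := Ideal.span (MvPolynomial.X '' {i : Fin (n + 1) | (i : ℕ) < j})
  x j := if h : j < n + 1 then MvPolynomial.X (⟨j, h⟩ : Fin (n + 1)) else 0
  J_zero := by
    have : {i : Fin (n + 1) | (i : ℕ) < 0} = ∅ := by ext i; simp
    rw [this, Set.image_empty, Ideal.span_empty]
  J_succ := by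
    intro j hj
    rw [dif_pos hj]
    have : {i : Fin (n + 1) | (i : ℕ) < j + 1} = {i : Fin (n + 1) | (i : ℕ) < j} ∪ {⟨j, hj⟩} := by
      ext i
      simp only [Set.mem_ofPred_eq, Set.mem_union, Set.mem_singleton_iff, Fin.ext_iff]
      omega
    rw [this, Set.image_union, Ideal.span_union, Set.image_singleton]
  reg := by
    intro j hj f hf
    rw [dif_pos hj] at hf
    rw [MvPolynomial.mem_ideal_span_X_image] at hf ⊢
    intro m hm
    have hm' : Finsupp.single (⟨j, hj⟩ : Fin (n + 1)) 1 + m ∈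
        (MvPolynomial.X (⟨j, hj⟩ : Fin (n + 1)) * f).support := by
      rw [MvPolynomial.mem_support_iff, MvPolynomial.coeff_X_mul]
      exact MvPolynomial.mem_support_iff.1 hm
    obtain ⟨i, hi, hne⟩ := hf _ hm'
    refine ⟨i, hi, ?_⟩
    have hij : (⟨j, hj⟩ : Fin (n + 1)) ≠ i := by
      intro h
      rw [← h] at hi
      simp at hi
    rwa [Finsupp.add_apply, Finsupp.single_eq_of_ne' hij, zero_add] at hne
  mem := by
    intro j hj
    rw [dif_pos hj]
    exact Ideal.subset_span ⟨1, one_pos,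
      (GrSyz.mem_stdGr_iff k (Fin (n + 1)) 1 _).2 (MvPolynomial.isWeightedHomogeneous_X _ _ _)⟩
  J_top := by
    apply le_antisymm
    · rw [Ideal.span_le]
      rintro _ ⟨i, -, rfl⟩
      exact Ideal.subset_span ⟨1, one_pos,
        (GrSyz.mem_stdGr_iff k (Fin (n + 1)) 1 _).2 (MvPolynomial.isWeightedHomogeneous_X _ _ i)⟩
    · intro s hs
      rw [MvPolynomial.mem_ideal_span_X_image]
      intro m hm
      have h0 := constantCoeff_of_mem_irrel hs
      have hm0 : m ≠ 0 := by
        intro h
        rw [h, MvPolynomial.mem_support_iff] at hm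
        exact hm h0
      obtain ⟨i, hi⟩ : ∃ i, m i ≠ 0 := by
        by_contra hcon
        push Not at hcon
        exact hm0 (Finsupp.ext hcon)
      exact ⟨i, i.2, hi⟩

end Groth.Agent.Lib.helper24.GrTor
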