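import Mathlib
import Groth.Agent.Lib.helper24.HilbSam

/-!
# Converse direction: the Hilbert–Samuel function detects quasi-regularity (helper24)

* `eval_eq_sum_S` : a form of degree `n` evaluated at `x` as a sum over `S d n`.
* `qr_of_φ_injective` : if all `φ x n` are injective then `x` is quasi-regular.
* `length_K` : `length (S d n →₀ A ⧸ J) = d.multichoose n` for `J` maximal.
* `φ_injective_of_length` : if `J` is maximal and `length (A ⧸ J^i) = ∑_{k<i} d.multichoose k`
  for all `i`, then all `φ x n` are injective.
-/

set_option autoImplicit false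
set_option linter.style.haveILetI false

namespace Groth.Agent.Lib.helper24.HilbSam

open MvPolynomial

universe u

variable {A : Type u} [CommRing A] {d : ℕ} (x : Fin d → A)

theorem eval_eq_sum_S {n : ℕ} (P : MvPolynomial (Fin d) A) (hP : P.IsHomogeneous n) :
    eval x P = ∑ α : S d n, coeff α.1 P * mono x α.1 := by
  rw [eval_eq_sum_mono, Finset.sum_coe_sort (S d n) (fun α => coeff α P * mono x α)]
  apply Finset.sum_subset
  · intro α hα
    rw [mem_S, Finsupp.degree_eq_weight_one]
    exact hP (mem_support_iff.1 hα)
  · intro α _ hα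
    rw [notMem_support_iff.1 hα, zero_mul]

theorem qr_of_φ_injective (h : ∀ n, Function.Injective (φ x n)) :
    ∀ (n : ℕ) (P : MvPolynomial (Fin d) A), P.IsHomogeneous n →
      eval x P ∈ Ideal.span (Set.range x) ^ (n + 1) →
        ∀ α : Fin d →₀ ℕ, coeff α P ∈ Ideal.span (Set.range x) := by
  intro n P hP hev α
  by_cases hα : α ∈ S d n
  · have h1 : φ x n (Finsupp.equivFunOnFinite.symm fun β : S d n =>
        Ideal.Quotient.mk (Ideal.span (Set.range x)) (coeff β.1 P)) = 0 := by
      rw [φ_mk, ← eval_eq_sum_S x P hP, Ideal.Quotient.eq_zero_iff_mem]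
      exact hev
    have h2 := h n (h1.trans (map_zero _).symm)
    have h3 := DFunLike.congr_fun h2 ⟨α, hα⟩
    rw [Finsupp.equivFunOnFinite_symm_apply_apply, Finsupp.zero_apply,
      Ideal.Quotient.eq_zero_iff_mem] at h3
    exact h3
  · have : coeff α P = 0 := by
      by_contra hne
      apply hα
      rw [mem_S, Finsupp.degree_eq_weight_one]
      exact hP hne
    rw [this]
    exact zero_mem _

theorem length_K (hJ : (Ideal.span (Set.range x)).IsMaximal) (n : ℕ) :
    Module.length A (S d n →₀ (A ⧸ Ideal.span (Set.range x))) = (d.multichoose n : ℕ∞) := by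
  haveI : IsSimpleModule A (A ⧸ Ideal.span (Set.range x)) :=
    isSimpleModule_iff_isCoatom.2 (Ideal.isMaximal_def.1 hJ)
  rw [Module.length_finsupp, Module.length_eq_one, mul_one, ENat.card_eq_coe_fintype_card,
    Fintype.card_coe, card_S]

theorem φ_injective_of_length (hJ : (Ideal.span (Set.range x)).IsMaximal)
    (hlen : ∀ i : ℕ, Module.length A (A ⧸ Ideal.span (Set.range x) ^ i) =
      ((∑ k ∈ Finset.range i, d.multichoose k : ℕ) : ℕ∞)) (n : ℕ) :
    Function.Injective (φ x n) := by
  -- length of the middle term via the range of φ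
  have hex : Function.Exact (LinearMap.range (φ x n)).subtype (g x n) := by
    rw [LinearMap.exact_iff, Submodule.range_subtype]
    exact LinearMap.exact_iff.1 (exact x n)
  have h1 := Module.length_eq_add_of_exact (LinearMap.range (φ x n)).subtype (g x n)
    (Submodule.subtype_injective _) (g_surjective x n) hex
  have hex2 : Function.Exact (LinearMap.ker (φ x n)).subtype (φ x n).rangeRestrict := by
    rw [LinearMap.exact_iff, Submodule.range_subtype, LinearMap.ker_rangeRestrict]
  have h2 : Module.length A (S d n →₀ (A ⧸ Ideal.span (Set.range x))) =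
      Module.length A (LinearMap.ker (φ x n)) + Module.length A (LinearMap.range (φ x n)) :=
    Module.length_eq_add_of_exact (LinearMap.ker (φ x n)).subtype (φ x n).rangeRestrict
      (Submodule.subtype_injective _) (LinearMap.surjective_rangeRestrict _) hex2
  rw [length_K x hJ] at h2
  rw [hlen (n + 1), hlen n, Finset.sum_range_succ] at h1
  -- arithmetic in ℕ∞
  have hb : Module.length A (LinearMap.range (φ x n)) ≠ ⊤ := by
    intro htop
    rw [htop, top_add] at h1
    exact ENat.natCast_ne_top _ h1
  have ha : Module.length A (LinearMap.ker (φ x n)) ≠ ⊤ := by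
    intro htop
    rw [htop, top_add] at h2
    exact ENat.natCast_ne_top _ h2
  obtain ⟨b, hb'⟩ := ENat.ne_top_iff_exists.1 hb
  obtain ⟨a, ha'⟩ := ENat.ne_top_iff_exists.1 ha
  rw [← hb'] at h1 h2
  rw [← ha'] at h2
  have h1' : (∑ k ∈ Finset.range n, d.multichoose k) + d.multichoose n =
      b + ∑ k ∈ Finset.range n, d.multichoose k := by exact_mod_cast h1
  have h2' : d.multichoose n = a + b := by exact_mod_cast h2
  have ha0 : a = 0 := by omega
  rw [ha0] at ha'
  have hker : Subsingleton (LinearMap.ker (φ x n)) := by
    rw [← Module.length_eq_zero_iff (R := A)]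
    exact ha'.symm
  rw [← LinearMap.ker_eq_bot]
  exact Submodule.subsingleton_iff_eq_bot.1 hker

end Groth.Agent.Lib.helper24.HilbSam
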