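import Mathlib

/-!
# I-adic filtration on Hom modules (Artin–Rees consequences)

* `smul_apply_mem`: `w ∈ I^k • Hom(M,N)`, `x ∈ I^j • M` ⟹ `w x ∈ I^(k+j) • N`.
* `pi_mem_smul_top`: a vector all of whose components lie in `J • N` lies in `J • (Fin r → N)`.
* `exists_forall_range_le_imp_mem`: for finite modules over a Noetherian ring and every `n` there is
  `m` such that `range u ≤ I^m • N` implies `u ∈ I^n • Hom(M,N)`.
-/
set_option autoImplicit false
set_option linter.style.haveILetI false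
universe u v

namespace Groth.Agent.Lib.helper24.HomAdic

theorem smul_apply_mem {A : Type u} [CommRing A] (I : Ideal A)
    {M : Type v} {N : Type v} [AddCommGroup M] [Module A M] [AddCommGroup N] [Module A N]
    (k j : ℕ) (w : M →ₗ[A] N) (hw : w ∈ I ^ k • (⊤ : Submodule A (M →ₗ[A] N)))
    (x : M) (hx : x ∈ I ^ j • (⊤ : Submodule A M)) :
    w x ∈ I ^ (k + j) • (⊤ : Submodule A N) := by
  refine Submodule.smul_induction_on (p := fun w => w x ∈ I ^ (k + j) • (⊤ : Submodule A N)) hw ?_ ?_
  · intro r hr w' _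
    rw [LinearMap.smul_apply, pow_add, mul_smul]
    refine Submodule.smul_mem_smul hr ?_
    have : Submodule.map w' (I ^ j • ⊤) ≤ I ^ j • ⊤ := by
      rw [Submodule.map_smul'']
      exact Submodule.smul_mono le_rfl le_top
    exact this ⟨x, hx, rfl⟩
  · intro w₁ w₂ h₁ h₂
    rw [LinearMap.add_apply]
    exact add_mem h₁ h₂

theorem pi_mem_smul_top {A : Type u} [CommRing A] (J : Ideal A)
    {N : Type v} [AddCommGroup N] [Module A N] (r : ℕ) (y : Fin r → N)
    (hy : ∀ i, y i ∈ J • (⊤ : Submodule A N)) : y ∈ J • (⊤ : Submodule A (Fin r → N)) := by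
  have : y = ∑ i, LinearMap.single A (fun _ : Fin r => N) i (y i) := by
    ext j
    simp [Finset.sum_apply, Pi.single_apply]
  rw [this]
  refine Submodule.sum_mem _ fun i _ => ?_
  have h : Submodule.map (LinearMap.single A (fun _ : Fin r => N) i) (J • ⊤) ≤ J • ⊤ := by
    rw [Submodule.map_smul'']
    exact Submodule.smul_mono le_rfl le_top
  exact h ⟨y i, hy i, rfl⟩

theorem exists_forall_range_le_imp_mem
    (A : Type u) [CommRing A] [IsNoetherianRing A] (I : Ideal A)
    (M : Type v) (N : Type v) [AddCommGroup M] [Module A M] [AddCommGroup N] [Module A N]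
    [Module.Finite A M] [Module.Finite A N] (n : ℕ) :
    ∃ m : ℕ, ∀ u : M →ₗ[A] N, LinearMap.range u ≤ I ^ m • (⊤ : Submodule A N) →
      u ∈ I ^ n • (⊤ : Submodule A (M →ₗ[A] N)) := by
  obtain ⟨r, π, hπ⟩ := Module.Finite.exists_fin' A M
  let φ : (M →ₗ[A] N) →ₗ[A] (Fin r → N) :=
    { toFun := fun u i => u (π (Pi.single i 1))
      map_add' := fun u u' => by ext i; simp
      map_smul' := fun a u => by ext i; simp }
  have hφ : Function.Injective φ := by
    intro u u' h
    have h2 : u ∘ₗ π = u' ∘ₗ π := by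
      apply LinearMap.pi_ext'
      intro i
      ext
      exact congrFun h i
    exact LinearMap.ext fun x => by
      obtain ⟨z, rfl⟩ := hπ x
      exact LinearMap.congr_fun h2 z
  obtain ⟨c, hc⟩ := Ideal.exists_pow_inf_eq_pow_smul I (LinearMap.range φ)
  refine ⟨n + c, fun u hu => ?_⟩
  have h1 : φ u ∈ I ^ (n + c) • (⊤ : Submodule A (Fin r → N)) :=
    pi_mem_smul_top _ r _ fun i => hu ⟨_, rfl⟩
  have h3 : φ u ∈ I ^ (n + c) • (⊤ : Submodule A (Fin r → N)) ⊓ LinearMap.range φ := ⟨h1, ⟨u, rfl⟩⟩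
  rw [hc (n + c) (by omega)] at h3
  have h4 : I ^ (n + c - c) • (I ^ c • (⊤ : Submodule A (Fin r → N)) ⊓ LinearMap.range φ) ≤
      Submodule.map φ (I ^ n • ⊤) := by
    rw [Submodule.map_smul'', Submodule.map_top, Nat.add_sub_cancel]
    exact Submodule.smul_mono le_rfl inf_le_right
  obtain ⟨u', hu', huu⟩ := h4 h3
  rw [← hφ huu]
  exact hu'

end Groth.Agent.Lib.helper24.HomAdic
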