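import Mathlib
import Groth.Agent.Lib.helper24.HomAdic

/-!
# Linear approximation (Artin–Rees) and unipotent endomorphisms on completions (helper24)

* `exists_approx` : finite modules `M`, `N` over a Noetherian ring: there is `c` such that for `n ≥ c`
  every linear map `ψ : M/IⁿM → N/IⁿN` agrees modulo `I^(n-c)` with a linear map `u : M → N`.
* `map_bijective_of_sub_id_mem` : if `e m - m ∈ I M` for all `m` then `AdicCompletion.map I e` is
  bijective.
-/

set_option autoImplicit false
set_option linter.style.haveILetI false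

namespace Groth.Agent.Lib.helper24.LinApprox

universe u v

section approx

variable (A : Type u) [CommRing A] [IsNoetherianRing A] (I : Ideal A)
  (M : Type v) (N : Type v) [AddCommGroup M] [Module A M] [AddCommGroup N] [Module A N]
  [Module.Finite A M] [Module.Finite A N]

omit [IsNoetherianRing A] [Module.Finite A N] in
theorem coord_mem {r : ℕ} (k : ℕ) (z : Fin r → N)
    (hz : z ∈ I ^ k • (⊤ : Submodule A (Fin r → N))) (j : Fin r) :
    z j ∈ I ^ k • (⊤ : Submodule A N) := by
  have h : Submodule.map (LinearMap.proj (R := A) (φ := fun _ : Fin r => N) j)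
      (I ^ k • ⊤) ≤ I ^ k • ⊤ := by
    rw [Submodule.map_smul'']
    exact Submodule.smul_mono le_rfl le_top
  exact h ⟨z, hz, rfl⟩

theorem exists_approx :
    ∃ c : ℕ, ∀ n ≥ c, ∀ ψ : (M ⧸ (I ^ n • ⊤ : Submodule A M)) →ₗ[A]
        (N ⧸ (I ^ n • ⊤ : Submodule A N)),
      ∃ u : M →ₗ[A] N, ∀ (m : M) (y : N),
        ψ (Submodule.Quotient.mk m) = Submodule.Quotient.mk y →
          u m - y ∈ I ^ (n - c) • (⊤ : Submodule A N) := by
  classical
  obtain ⟨r, π, hπ⟩ := Module.Finite.exists_fin' A M
  have hK : (LinearMap.ker π).FG := IsNoetherian.noetherian _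
  obtain ⟨s, κ, hκ⟩ := Submodule.fg_iff_exists_fin_generating_family.1 hK
  -- the linear system
  let L : (Fin r → N) →ₗ[A] (Fin s → N) :=
    LinearMap.pi fun i => ∑ j, (κ i j) • LinearMap.proj (R := A) (φ := fun _ : Fin r => N) j
  have hL : ∀ (y : Fin r → N) (i : Fin s), L y i = ∑ j, κ i j • y j := by
    intro y i
    simp [L, LinearMap.pi_apply, LinearMap.sum_apply]
  obtain ⟨c, hc⟩ := Ideal.exists_pow_inf_eq_pow_smul I (LinearMap.range L)
  refine ⟨c, fun n hn ψ => ?_⟩
  have hsurj : ∀ j : Fin r, ∃ y : N,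
      ψ (Submodule.Quotient.mk (π (Pi.single j 1))) = Submodule.Quotient.mk y :=
    fun j => (Submodule.Quotient.mk_surjective _ _).imp fun _ h => h.symm
  choose y hy using hsurj
  have hπa : ∀ a : Fin r → A, π a = ∑ j, a j • π (Pi.single j 1) := by
    intro a
    conv_lhs => rw [← Finset.univ_sum_single a]
    rw [map_sum]
    apply Finset.sum_congr rfl
    intro j _
    rw [← map_smul]
    congr 1
    ext i
    simp [Pi.single_apply]
  have claim1 : ∀ a : Fin r → A,
      ψ (Submodule.Quotient.mk (π a)) = Submodule.Quotient.mk (∑ j, a j • y j) := by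
    intro a
    rw [hπa a, ← Submodule.mkQ_apply, map_sum, map_sum, ← Submodule.mkQ_apply, map_sum]
    apply Finset.sum_congr rfl
    intro j _
    rw [map_smul, map_smul, map_smul, Submodule.mkQ_apply, Submodule.mkQ_apply, hy j]
  have claim2 : L y ∈ I ^ n • (⊤ : Submodule A (Fin s → N)) := by
    apply HomAdic.pi_mem_smul_top
    intro i
    rw [hL, ← Submodule.Quotient.mk_eq_zero, ← claim1]
    have : π (κ i) = 0 := by
      have : κ i ∈ LinearMap.ker π := hκ ▸ Submodule.subset_span ⟨i, rfl⟩
      exact this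
    rw [this, Submodule.Quotient.mk_zero, map_zero]
  have hmem : L y ∈ I ^ (n - c) • LinearMap.range L := by
    have h1 : L y ∈ I ^ n • (⊤ : Submodule A (Fin s → N)) ⊓ LinearMap.range L :=
      ⟨claim2, ⟨y, rfl⟩⟩
    rw [hc n hn] at h1
    exact Submodule.smul_mono le_rfl inf_le_right h1
  rw [LinearMap.range_eq_map, ← Submodule.map_smul''] at hmem
  obtain ⟨z, hz, hzL⟩ := hmem
  set y' : Fin r → N := y - z with hy'
  have hLy' : L y' = 0 := by rw [hy', map_sub, hzL, sub_self]
  let ut : (Fin r → A) →ₗ[A] N := Fintype.linearCombination A y'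
  have hut : ∀ a, ut a = ∑ j, a j • y' j := fun a => Fintype.linearCombination_apply A y' a
  have hker : LinearMap.ker π ≤ LinearMap.ker ut := by
    rw [← hκ, Submodule.span_le]
    rintro _ ⟨i, rfl⟩
    rw [SetLike.mem_coe, LinearMap.mem_ker, hut, ← hL, hLy']
    rfl
  let u : M →ₗ[A] N := (LinearMap.ker π).liftQ ut hker ∘ₗ
    (π.quotKerEquivOfSurjective hπ).symm.toLinearMap
  have hu : ∀ a, u (π a) = ut a := by
    intro a
    have : (π.quotKerEquivOfSurjective hπ).symm (π a) = Submodule.Quotient.mk a := by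
      rw [LinearEquiv.symm_apply_eq]
      rfl
    simp only [u, LinearMap.comp_apply, LinearEquiv.coe_coe, this, Submodule.liftQ_apply]
  refine ⟨u, fun m y₀ hm => ?_⟩
  obtain ⟨a, rfl⟩ := hπ m
  rw [hu, hut]
  have h1 : (∑ j, a j • y j) - y₀ ∈ I ^ n • (⊤ : Submodule A N) := by
    rw [← Submodule.Quotient.mk_eq_zero, Submodule.Quotient.mk_sub, ← claim1, hm, sub_self]
  have h2 : (∑ j, a j • y j) - y₀ ∈ I ^ (n - c) • (⊤ : Submodule A N) :=
    Submodule.smul_mono (Ideal.pow_le_pow_right (Nat.sub_le n c)) le_rfl h1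
  have h3 : ∑ j, a j • z j ∈ I ^ (n - c) • (⊤ : Submodule A N) :=
    Submodule.sum_mem _ fun j _ => Submodule.smul_mem _ _ (coord_mem A I N (n - c) z hz j)
  have : ∑ j, a j • y' j - y₀ = ((∑ j, a j • y j) - y₀) - ∑ j, a j • z j := by
    rw [hy']
    simp only [Pi.sub_apply, smul_sub, Finset.sum_sub_distrib]
    abel
  rw [this]
  exact Submodule.sub_mem _ h2 h3

end approx

section unipotent

variable {A : Type u} [CommRing A] (I : Ideal A) {M : Type v} [AddCommGroup M] [Module A M]

theorem map_mem_of_mem (δ : M →ₗ[A] M) (hδ : ∀ m, δ m ∈ I • (⊤ : Submodule A M)) (n : ℕ) (m : M)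
    (hm : m ∈ I ^ n • (⊤ : Submodule A M)) : δ m ∈ I ^ (n + 1) • (⊤ : Submodule A M) := by
  refine Submodule.smul_induction_on (p := fun m => δ m ∈ I ^ (n + 1) • (⊤ : Submodule A M)) hm ?_ ?_
  · intro a ha x _
    rw [map_smul, pow_succ, mul_smul]
    exact Submodule.smul_mem_smul ha (hδ x)
  · intro x y hx hy
    rw [map_add]
    exact add_mem hx hy

theorem pow_map_mem (δ : M →ₗ[A] M) (hδ : ∀ m, δ m ∈ I • (⊤ : Submodule A M)) (k n : ℕ) (m : M)
    (hm : m ∈ I ^ n • (⊤ : Submodule A M)) : (δ ^ k) m ∈ I ^ (n + k) • (⊤ : Submodule A M) := by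
  induction k with
  | zero => simpa using hm
  | succ k ih =>
    rw [pow_succ', Module.End.mul_apply, ← add_assoc]
    exact map_mem_of_mem I δ hδ (n + k) _ ih

theorem map_bijective_of_sub_id_mem (e : M →ₗ[A] M)
    (he : ∀ m, e m - m ∈ I • (⊤ : Submodule A M)) :
    Function.Bijective (AdicCompletion.map I e) := by
  set δ : M →ₗ[A] M := e - LinearMap.id with hδdef
  have hδ : ∀ m, δ m ∈ I • (⊤ : Submodule A M) := fun m => he m
  have heδ : ∀ m, e m = m + δ m := by
    intro m
    simp [hδdef]
  set ν : Module.End A M := -δ with hν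
  have hνmem : ∀ m, ν m ∈ I • (⊤ : Submodule A M) := by
    intro m
    rw [hν, LinearMap.neg_apply]
    exact Submodule.neg_mem _ (hδ m)
  constructor
  · -- injective
    rw [injective_iff_map_eq_zero]
    intro x hx
    obtain ⟨a, rfl⟩ := AdicCompletion.mk_surjective I M x
    rw [AdicCompletion.map_mk] at hx
    have h1 : ∀ n, e (a n) ∈ I ^ n • (⊤ : Submodule A M) := by
      intro n
      have := congrArg (fun t : AdicCompletion I M => t.val n) hx
      simp only [AdicCompletion.mk_apply_coe, AdicCompletion.val_zero, Pi.zero_apply,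
        Submodule.mkQ_apply, Submodule.Quotient.mk_eq_zero] at this
      exact this
    have key : ∀ (n : ℕ) (m : M), e m ∈ I ^ n • (⊤ : Submodule A M) →
        ∀ k ≤ n, m ∈ I ^ k • (⊤ : Submodule A M) := by
      intro n m hm k
      induction k with
      | zero =>
        intro _
        rw [pow_zero, Ideal.one_eq_top, Submodule.top_smul]
        exact Submodule.mem_top
      | succ k ih =>
        intro hk
        have h2 := map_mem_of_mem I δ hδ k m (ih (by omega))
        have h3 : e m ∈ I ^ (k + 1) • (⊤ : Submodule A M) :=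
          Submodule.smul_mono (Ideal.pow_le_pow_right hk) le_rfl hm
        have : m = e m - δ m := by rw [heδ]; abel
        rw [this]
        exact Submodule.sub_mem _ h3 h2
    apply AdicCompletion.ext
    intro n
    simp only [AdicCompletion.mk_apply_coe, AdicCompletion.val_zero, Pi.zero_apply,
      Submodule.mkQ_apply, Submodule.Quotient.mk_eq_zero]
    exact key n (a n) (h1 n) n le_rfl
  · -- surjective
    intro y
    obtain ⟨b, rfl⟩ := AdicCompletion.mk_surjective I M y
    have hb : ∀ n, b (n + 1) - b n ∈ I ^ n • (⊤ : Submodule A M) := by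
      intro n
      have := b.property (Nat.le_succ n)
      rw [SModEq.sub_mem] at this
      have h2 := Submodule.neg_mem _ this
      rwa [neg_sub] at h2
    set G : ℕ → Module.End A M := fun n => ∑ k ∈ Finset.range n, ν ^ k with hG
    have hGmem : ∀ (n j : ℕ) (m : M), m ∈ I ^ j • (⊤ : Submodule A M) →
        G n m ∈ I ^ j • (⊤ : Submodule A M) := by
      intro n j m hm
      rw [hG]
      simp only [LinearMap.sum_apply]
      refine Submodule.sum_mem _ fun k _ => ?_
      exact Submodule.smul_mono (Ideal.pow_le_pow_right (Nat.le_add_right j k)) le_rfl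
        (pow_map_mem I ν hνmem k j m hm)
    have hGsucc : ∀ n, G (n + 1) = G n + ν ^ n := by
      intro n
      rw [hG]
      simp only [Finset.sum_range_succ]
    have hcauchy : ∀ n, G n (b n) ≡ G (n + 1) (b (n + 1))
        [SMOD (I ^ n • ⊤ : Submodule A M)] := by
      intro n
      rw [SModEq.sub_mem]
      have : G n (b n) - G (n + 1) (b (n + 1)) =
          -(G n (b (n + 1) - b n) + (ν ^ n) (b (n + 1))) := by
        rw [hGsucc, LinearMap.add_apply, map_sub]
        abel
      rw [this]
      refine Submodule.neg_mem _ (Submodule.add_mem _ (hGmem n n _ (hb n)) ?_)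
      have := pow_map_mem I ν hνmem n 0 (b (n + 1)) (by
        rw [pow_zero, Ideal.one_eq_top, Submodule.top_smul]; exact Submodule.mem_top)
      rwa [zero_add] at this
    refine ⟨AdicCompletion.mk I M (AdicCompletion.AdicCauchySequence.mk I M
      (fun n => G n (b n)) hcauchy), ?_⟩
    rw [AdicCompletion.map_mk]
    apply AdicCompletion.ext
    intro n
    simp only [AdicCompletion.mk_apply_coe, Submodule.mkQ_apply]
    rw [Submodule.Quotient.eq]
    -- e (G n (b n)) - b n = - ν^n (b n)
    have he1 : (e : Module.End A M) = 1 - ν := by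
      rw [hν, hδdef]
      ext m
      simp
    have hgeom : (1 - ν) * G n = 1 - ν ^ n := by
      rw [hG]
      exact mul_neg_geom_sum ν n
    have : e (G n (b n)) - b n = -((ν ^ n) (b n)) := by
      have h := congrArg (fun f : Module.End A M => f (b n)) hgeom
      simp only [Module.End.mul_apply, LinearMap.sub_apply, Module.End.one_apply] at h
      have h' : e (G n (b n)) = (1 - ν) (G n (b n)) := by rw [← he1]
      rw [h', LinearMap.sub_apply, Module.End.one_apply, h]
      abel
    change e (G n (b n)) - b n ∈ _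
    rw [this]
    refine Submodule.neg_mem _ ?_
    have := pow_map_mem I ν hνmem n 0 (b n) (by
      rw [pow_zero, Ideal.one_eq_top, Submodule.top_smul]; exact Submodule.mem_top)
    rwa [zero_add] at this

end unipotent

end Groth.Agent.Lib.helper24.LinApprox
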