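import Mathlib
import Groth.Agent.Lib.helper24.HomAdic
import Groth.Agent.Lib.helper24.LinApprox

/-!
# Uniform Artin–Rees statements for Hom modules (helper24)

* `exists_uniform`: finite modules over a Noetherian ring: there is `c` such that for every `n`,
  `range u ≤ I^(n+c) • N` implies `u ∈ I^n • Hom(M,N)`.
* `exists_lift_approx`: there are a presentation `π : A^r → M` and `c` such that every family
  `y : Fin r → N` that is a homomorphism modulo `I^(n+c)` is congruent modulo `I^n` to (the values on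
  generators of) a homomorphism `u : M → N`.
-/
set_option autoImplicit false
set_option linter.style.haveILetI false
universe u v

namespace Groth.Agent.Lib.helper24.HomAdic

theorem exists_uniform
    (A : Type u) [CommRing A] [IsNoetherianRing A] (I : Ideal A)
    (M : Type v) (N : Type v) [AddCommGroup M] [Module A M] [AddCommGroup N] [Module A N]
    [Module.Finite A M] [Module.Finite A N] :
    ∃ c : ℕ, ∀ (n : ℕ) (u : M →ₗ[A] N), LinearMap.range u ≤ I ^ (n + c) • (⊤ : Submodule A N) →
      u ∈ I ^ n • (⊤ : Submodule A (M →ₗ[A] N)) := by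
  obtain ⟨r, π, hπ⟩ := Module.Finite.exists_fin' A M
  let φ : (M →ₗ[A] N) →ₗ[A] (Fin r → N) :=
    { toFun := fun u i => u (π (Pi.single i 1))
      map_add' := fun u u' => by ext i; simp
      map_smul' := fun a u => by ext i; simp }
  have hφ : Function.Injective φ := by
    intro u u' h
    have h2 : u ∘ₗ π = u' ∘ₗ π := by
      apply LinearMap.pi_ext'
      intro i
      ext
      exact congrFun h i
    exact LinearMap.ext fun x => by
      obtain ⟨z, rfl⟩ := hπ x
      exact LinearMap.congr_fun h2 z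
  obtain ⟨c, hc⟩ := Ideal.exists_pow_inf_eq_pow_smul I (LinearMap.range φ)
  refine ⟨c, fun n u hu => ?_⟩
  have h1 : φ u ∈ I ^ (n + c) • (⊤ : Submodule A (Fin r → N)) :=
    pi_mem_smul_top _ r _ fun i => hu ⟨_, rfl⟩
  have h3 : φ u ∈ I ^ (n + c) • (⊤ : Submodule A (Fin r → N)) ⊓ LinearMap.range φ := ⟨h1, ⟨u, rfl⟩⟩
  rw [hc (n + c) (by omega)] at h3
  have h4 : I ^ (n + c - c) • (I ^ c • (⊤ : Submodule A (Fin r → N)) ⊓ LinearMap.range φ) ≤
      Submodule.map φ (I ^ n • ⊤) := by
    rw [Submodule.map_smul'', Submodule.map_top, Nat.add_sub_cancel]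
    exact Submodule.smul_mono le_rfl inf_le_right
  obtain ⟨u', hu', huu⟩ := h4 h3
  rw [← hφ huu]
  exact hu'

theorem exists_lift_approx
    (A : Type u) [CommRing A] [IsNoetherianRing A] (I : Ideal A)
    (M : Type v) (N : Type v) [AddCommGroup M] [Module A M] [AddCommGroup N] [Module A N]
    [Module.Finite A M] [Module.Finite A N] :
    ∃ (r : ℕ) (π : (Fin r → A) →ₗ[A] M) (_ : Function.Surjective π) (c : ℕ),
      ∀ (n : ℕ) (y : Fin r → N),
        (∀ a : Fin r → A, π a = 0 → ∑ j, a j • y j ∈ I ^ (n + c) • (⊤ : Submodule A N)) →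
        ∃ u : M →ₗ[A] N, ∀ j, u (π (Pi.single j 1)) - y j ∈ I ^ n • (⊤ : Submodule A N) := by
  classical
  obtain ⟨r, π, hπ⟩ := Module.Finite.exists_fin' A M
  have hK : (LinearMap.ker π).FG := IsNoetherian.noetherian _
  obtain ⟨s, κ, hκ⟩ := Submodule.fg_iff_exists_fin_generating_family.1 hK
  let L : (Fin r → N) →ₗ[A] (Fin s → N) :=
    LinearMap.pi fun i => ∑ j, (κ i j) • LinearMap.proj (R := A) (φ := fun _ : Fin r => N) j
  have hL : ∀ (y : Fin r → N) (i : Fin s), L y i = ∑ j, κ i j • y j := by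
    intro y i
    simp [L, LinearMap.pi_apply, LinearMap.sum_apply]
  obtain ⟨c, hc⟩ := Ideal.exists_pow_inf_eq_pow_smul I (LinearMap.range L)
  refine ⟨r, π, hπ, c, fun n y hy => ?_⟩
  have claim2 : L y ∈ I ^ (n + c) • (⊤ : Submodule A (Fin s → N)) := by
    apply pi_mem_smul_top
    intro i
    rw [hL]
    apply hy
    have : κ i ∈ LinearMap.ker π := hκ ▸ Submodule.subset_span ⟨i, rfl⟩
    exact this
  have hmem : L y ∈ I ^ n • LinearMap.range L := by
    have h1 : L y ∈ I ^ (n + c) • (⊤ : Submodule A (Fin s → N)) ⊓ LinearMap.range L :=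
      ⟨claim2, ⟨y, rfl⟩⟩
    rw [hc (n + c) (by omega), Nat.add_sub_cancel] at h1
    exact Submodule.smul_mono le_rfl inf_le_right h1
  rw [LinearMap.range_eq_map, ← Submodule.map_smul''] at hmem
  obtain ⟨z, hz, hzL⟩ := hmem
  set y' : Fin r → N := y - z with hy'
  have hLy' : L y' = 0 := by rw [hy', map_sub, hzL, sub_self]
  let ut : (Fin r → A) →ₗ[A] N := Fintype.linearCombination A y'
  have hut : ∀ a, ut a = ∑ j, a j • y' j := fun a => Fintype.linearCombination_apply A y' a
  have hker : LinearMap.ker π ≤ LinearMap.ker ut := by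
    rw [← hκ, Submodule.span_le]
    rintro _ ⟨i, rfl⟩
    rw [SetLike.mem_coe, LinearMap.mem_ker, hut, ← hL, hLy']
    rfl
  let u : M →ₗ[A] N := (LinearMap.ker π).liftQ ut hker ∘ₗ
    (π.quotKerEquivOfSurjective hπ).symm.toLinearMap
  have hu : ∀ a, u (π a) = ut a := by
    intro a
    have : (π.quotKerEquivOfSurjective hπ).symm (π a) = Submodule.Quotient.mk a := by
      rw [LinearEquiv.symm_apply_eq]
      rfl
    simp only [u, LinearMap.comp_apply, LinearEquiv.coe_coe, this, Submodule.liftQ_apply]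
  refine ⟨u, fun j => ?_⟩
  rw [hu, hut]
  have : ∑ i, (Pi.single j (1 : A) : Fin r → A) i • y' i = y' j := by
    rw [Finset.sum_eq_single j]
    · rw [Pi.single_eq_same, one_smul]
    · intro b _ hb
      rw [Pi.single_eq_of_ne hb, zero_smul]
    · intro h
      exact absurd (Finset.mem_univ j) h
  rw [this, hy', Pi.sub_apply, sub_sub_cancel_left]
  exact Submodule.neg_mem _ (LinApprox.coord_mem A I N n z hz j)

end Groth.Agent.Lib.helper24.HomAdic
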