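import Mathlib

/-!
# Flatness over a finite product of rings (helper24)

`flat_pi`: a module `N` over `P = Π i, B i` (finite index) is flat as soon as every
`B i ⊗[P] N` is flat over `B i` (where `B i` is a `P`-algebra through the projection, `evalAlg`).
-/

namespace Groth.Agent.Lib.helper24.PiFlat
universe u v w
open TensorProduct Function

variable {ι : Type u} (B : ι → Type v) [∀ i, CommRing (B i)]

/-- `B i` as an algebra over the product ring, through the projection. -/
@[reducible] noncomputable def evalAlg (i : ι) : Algebra (Π i, B i) (B i) := (Pi.evalRingHom B i).toAlgebra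

attribute [local instance] evalAlg

theorem algebraMap_evalAlg (i : ι) (p : Π i, B i) : algebraMap (Π i, B i) (B i) p = p i := rfl

theorem smul_evalAlg (i : ι) (p : Π i, B i) (b : B i) : p • b = p i * b := rfl

/-- `B i` is a flat module over the product ring. -/
theorem flat_eval [DecidableEq ι] (i : ι) : Module.Flat (Π i, B i) (B i) := by
  let inc : B i →ₗ[Π i, B i] (Π i, B i) :=
    { toFun := Pi.single i
      map_add' := Pi.single_add i
      map_smul' := fun p b => by
        ext j
        by_cases h : j = i
        · subst h
          simp [smul_evalAlg]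
        · simp [h] }
  let ev : (Π i, B i) →ₗ[Π i, B i] B i := Algebra.linearMap _ _
  refine Module.Flat.of_retract inc ev ?_
  ext b
  simp [inc, ev, algebraMap_evalAlg]

variable (N : Type w) [AddCommGroup N] [Module (Π i, B i) N]

theorem flat_pi [Fintype ι] [DecidableEq ι] (H : ∀ i, Module.Flat (B i) (B i ⊗[Π i, B i] N)) : Module.Flat (Π i, B i) N := by
  have H' : ∀ i, Module.Flat (Π i, B i) (B i ⊗[Π i, B i] N) := fun i => by
    have := flat_eval B i
    have := H i
    exact Module.Flat.trans (Π i, B i) (B i) _
  -- `N` is a retract of the direct sum of the `B i ⊗ N`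
  let g : ∀ i, (B i ⊗[Π i, B i] N) →ₗ[Π i, B i] N := fun i =>
    TensorProduct.lift (LinearMap.mk₂ (Π i, B i) (fun (b : B i) (n : N) => (Pi.single i b : Π i, B i) • n)
      (fun b b' n => by rw [Pi.single_add, add_smul])
      (fun p b n => by
        rw [← smul_assoc]
        congr 1
        ext j
        by_cases h : j = i
        · subst h
          simp [smul_evalAlg]
        · simp [h])
      (fun b n n' => smul_add _ _ _)
      (fun p b n => smul_comm _ _ _))
  let G : (DirectSum ι fun i => B i ⊗[Π i, B i] N) →ₗ[Π i, B i] N :=
    DirectSum.toModule (Π i, B i) ι N g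
  let F : N →ₗ[Π i, B i] (DirectSum ι fun i => B i ⊗[Π i, B i] N) :=
    ∑ i, (DirectSum.lof (Π i, B i) ι (fun i => B i ⊗[Π i, B i] N) i) ∘ₗ
      (TensorProduct.mk (Π i, B i) (B i) N 1)
  refine Module.Flat.of_retract F G ?_
  ext n
  simp only [LinearMap.comp_apply, LinearMap.id_apply, F, G, LinearMap.sum_apply, map_sum,
    DirectSum.toModule_lof, TensorProduct.mk_apply, g, TensorProduct.lift.tmul, LinearMap.mk₂_apply]
  rw [← Finset.sum_smul]
  have : (∑ i, (Pi.single i (1 : B i) : Π i, B i)) = 1 := by
    ext j
    simp [Finset.sum_apply]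
  rw [this, one_smul]

end Groth.Agent.Lib.helper24.PiFlat
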