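import Mathlib
import Groth.Agent.Lib.helper21.FlatCrit
import Groth.Agent.Lib.helper21.Mat225

/-!
# Regular sequences and flatness (EGA 0_IV 15.1.14-15.1.16) (helper24)

* `flat_of_regular_of_flat_quot`: `B` Noetherian, `f ∈ rad B` regular on finite `N`, `N/fN` `A`-flat ⇒ `N` `A`-flat.
* `flat_take_of_flat_last`: same for a weakly regular sequence: all partial quotients are flat.
* `step`, `reg_and_flat_of_fibre`: `M` `A`-flat, finite over `B`, `fs` regular on `M/mM` ⇒ `fs` regular on `M`
  and all partial quotients flat.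
* `quotSwap`: `(M/IM)/r ≃ (M/rM)/I`.
-/

set_option linter.style.haveILetI false
set_option autoImplicit false
universe u
open Pointwise TensorProduct

namespace Groth.Agent.Lib.helper24.RegFlat

/-- `B` Noetherian, `f ∈ rad B`, `N` finite over `B`, `f` regular on `N`, `N/fN` flat over `A` ⇒ `N` flat over `A`. -/
theorem flat_of_regular_of_flat_quot {A B : Type u} [CommRing A] [CommRing B]
    [IsNoetherianRing B] [Algebra A B] (f : B) (hf : f ∈ Ideal.jacobson (⊥ : Ideal B))
    (N : Type u) [AddCommGroup N] [Module B N] [Module A N]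
    [IsScalarTower A B N] [Module.Finite B N] (hreg : IsSMulRegular N f)
    (hflat : Module.Flat A (N ⧸ (f • (⊤ : Submodule B N)))) : Module.Flat A N := by
  have key : ∀ n : ℕ, Module.Flat A (N ⧸ (f ^ (n + 1) • (⊤ : Submodule B N))) := by
    intro n
    induction n with
    | zero => rw [zero_add, pow_one]; exact hflat
    | succ n ih =>
      have h1 : (f ^ (n + 1) • (⊤ : Submodule B N)) ≤
          Submodule.comap (LinearMap.lsmul B N f) (f ^ (n + 1 + 1) • (⊤ : Submodule B N)) := by
        intro x hx
        obtain ⟨y, -, rfl⟩ := (Submodule.mem_smul_pointwise_iff_exists _ _ _).mp hx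
        rw [Submodule.mem_comap, LinearMap.lsmul_apply, smul_smul, ← pow_succ']
        exact Submodule.smul_mem_pointwise_smul _ _ _ Submodule.mem_top
      have h2 : (f ^ (n + 1 + 1) • (⊤ : Submodule B N)) ≤ (f • (⊤ : Submodule B N)) := by
        intro x hx
        obtain ⟨y, -, rfl⟩ := (Submodule.mem_smul_pointwise_iff_exists _ _ _).mp hx
        rw [pow_succ', mul_smul]
        exact Submodule.smul_mem_pointwise_smul _ _ _ Submodule.mem_top
      let g : (N ⧸ (f ^ (n + 1) • (⊤ : Submodule B N))) →ₗ[A]
          (N ⧸ (f ^ (n + 1 + 1) • (⊤ : Submodule B N))) :=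
        (Submodule.mapQ _ _ (LinearMap.lsmul B N f) h1).restrictScalars A
      let p : (N ⧸ (f ^ (n + 1 + 1) • (⊤ : Submodule B N))) →ₗ[A]
          (N ⧸ (f • (⊤ : Submodule B N))) :=
        (Submodule.factor h2).restrictScalars A
      have hg : Function.Injective g := by
        rw [injective_iff_map_eq_zero]
        intro x hx
        obtain ⟨x, rfl⟩ := Submodule.Quotient.mk_surjective _ x
        have hx' : f • x ∈ (f ^ (n + 1 + 1) • (⊤ : Submodule B N)) := by
          rw [← Submodule.Quotient.mk_eq_zero]; exact hx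
        obtain ⟨y, -, hy⟩ := (Submodule.mem_smul_pointwise_iff_exists _ _ _).mp hx'
        rw [pow_succ', mul_smul] at hy
        have := hreg hy
        rw [Submodule.Quotient.mk_eq_zero, ← this]
        exact Submodule.smul_mem_pointwise_smul _ _ _ Submodule.mem_top
      have hp : Function.Surjective p := by
        intro x
        obtain ⟨x, rfl⟩ := Submodule.Quotient.mk_surjective _ x
        exact ⟨Submodule.Quotient.mk x, rfl⟩
      have hex : Function.Exact g p := by
        intro x
        obtain ⟨x, rfl⟩ := Submodule.Quotient.mk_surjective _ x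
        constructor
        · intro hx
          have hx' : x ∈ (f • (⊤ : Submodule B N)) := by
            rw [← Submodule.Quotient.mk_eq_zero]; exact hx
          obtain ⟨y, -, rfl⟩ := (Submodule.mem_smul_pointwise_iff_exists _ _ _).mp hx'
          exact ⟨Submodule.Quotient.mk y, rfl⟩
        · rintro ⟨y, hy⟩
          obtain ⟨y, rfl⟩ := Submodule.Quotient.mk_surjective _ y
          rw [← hy]
          show (Submodule.Quotient.mk (f • y) : N ⧸ (f • (⊤ : Submodule B N))) = 0
          rw [Submodule.Quotient.mk_eq_zero]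
          exact Submodule.smul_mem_pointwise_smul _ _ _ Submodule.mem_top
      exact Groth.Agent.H21.flat_of_exact_mid g p hg hp hex
  apply Groth.Agent.H21.flat_of_flat_quot_pow_smul (Ideal.span {f})
    ((Ideal.span_singleton_le_iff_mem _).mpr hf) N
  intro n
  rw [Ideal.span_singleton_pow, Submodule.ideal_span_singleton_smul]
  exact key n

theorem flat_quot_nil_iff {A B : Type u} [CommRing A] [CommRing B] [Algebra A B]
    (M : Type u) [AddCommGroup M] [Module B M] [Module A M] [IsScalarTower A B M] :
    Module.Flat A (M ⧸ (Ideal.ofList ([] : List B) • (⊤ : Submodule B M))) ↔ Module.Flat A M := by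
  have h : (Ideal.ofList ([] : List B) • (⊤ : Submodule B M)) = ⊥ := by
    rw [Ideal.ofList_nil, Submodule.bot_smul]
  let e : (M ⧸ (Ideal.ofList ([] : List B) • (⊤ : Submodule B M))) ≃ₗ[A] M :=
    (Submodule.quotEquivOfEqBot _ h).restrictScalars A
  exact ⟨fun _ => Module.Flat.of_linearEquiv e.symm, fun _ => Module.Flat.of_linearEquiv e⟩

theorem flat_take_of_flat_last {A B : Type u} [CommRing A] [CommRing B]
    [IsNoetherianRing B] [Algebra A B] : ∀ (fs : List B) (M : Type u) [AddCommGroup M] [Module B M]
    [Module A M] [IsScalarTower A B M] [Module.Finite B M],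
    (∀ f ∈ fs, f ∈ Ideal.jacobson (⊥ : Ideal B)) →
    RingTheory.Sequence.IsWeaklyRegular M fs →
    Module.Flat A (M ⧸ (Ideal.ofList fs • (⊤ : Submodule B M))) → ∀ i ≤ fs.length,
    Module.Flat A (M ⧸ (Ideal.ofList (fs.take i) • (⊤ : Submodule B M))) := by
  intro fs
  induction fs with
  | nil =>
    intro M _ _ _ _ _ _ _ hflat i hi
    rw [List.take_nil]
    exact hflat
  | cons f rest ih =>
    intro M _ _ _ _ _ hfs hreg hflat i hi
    obtain ⟨hf, hrest⟩ := (RingTheory.Sequence.isWeaklyRegular_cons_iff M f rest).mp hreg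
    have hflat' : Module.Flat A (QuotSMulTop f M ⧸
        (Ideal.ofList rest • (⊤ : Submodule B (QuotSMulTop f M)))) :=
      Module.Flat.of_linearEquiv
        ((Submodule.quotOfListConsSMulTopEquivQuotSMulTopInner M f rest).symm.restrictScalars A)
    have IH := ih (QuotSMulTop f M) (fun g hg => hfs g (List.mem_cons_of_mem _ hg)) hrest hflat'
    cases i with
    | zero =>
      rw [List.take_zero, flat_quot_nil_iff]
      have h0 := IH 0 (Nat.zero_le _)
      rw [List.take_zero, flat_quot_nil_iff] at h0
      exact flat_of_regular_of_flat_quot f (hfs f (List.mem_cons_self)) M hf h0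
    | succ i =>
      rw [List.take_succ_cons]
      have := IH i (by simpa using hi)
      exact Module.Flat.of_linearEquiv
        ((Submodule.quotOfListConsSMulTopEquivQuotSMulTopInner M f (rest.take i)).restrictScalars A)

/-- `(M/IM)/r ≃ (M/rM)/I`. -/
noncomputable def quotSwap {B : Type u} [CommRing B] (M : Type u) [AddCommGroup M] [Module B M]
    (I : Ideal B) (r : B) :
    QuotSMulTop r (M ⧸ (I • (⊤ : Submodule B M))) ≃ₗ[B]
      (QuotSMulTop r M) ⧸ (I • (⊤ : Submodule B (QuotSMulTop r M))) :=
  (Submodule.quotEquivOfEq _ _ (by rw [Submodule.map_pointwise_smul, Submodule.map_top,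
      Submodule.range_mkQ]) ≪≫ₗ
    Submodule.quotientQuotientEquivQuotientSup (I • (⊤ : Submodule B M)) (r • ⊤)) ≪≫ₗ
  Submodule.quotEquivOfEq _ _ (sup_comm _ _) ≪≫ₗ
  (Submodule.quotEquivOfEq _ _ (by rw [Submodule.map_smul'', Submodule.map_top,
      Submodule.range_mkQ]) ≪≫ₗ
    Submodule.quotientQuotientEquivQuotientSup (r • (⊤ : Submodule B M)) (I • ⊤)).symm

section
variable {A B : Type u} [CommRing A] [CommRing B]
    [IsLocalRing A] [IsLocalRing B] [IsNoetherianRing B] [Algebra A B]
    [IsLocalHom (algebraMap A B)]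

theorem step (M : Type u) [AddCommGroup M] [Module B M] [Module A M]
    [IsScalarTower A B M] [Module.Finite B M] [Module.Flat A M] (f : B)
    (hf : IsSMulRegular
      (M ⧸ ((IsLocalRing.maximalIdeal A).map (algebraMap A B) • (⊤ : Submodule B M))) f) :
    IsSMulRegular M f ∧ Module.Flat A (QuotSMulTop f M) := by
  set m := IsLocalRing.maximalIdeal A with hm
  let u : M →ₗ[A] M := (LinearMap.lsmul B M f).restrictScalars A
  have h : Function.Injective (u.lTensor (A ⧸ m)) := by
    rw [injective_iff_map_eq_zero]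
    intro z hz
    obtain ⟨x, rfl⟩ := Groth.Agent.H21.exists_one_tmul m z
    rw [LinearMap.lTensor_tmul, Groth.Agent.H21.one_tmul_eq_zero_iff] at hz
    rw [Groth.Agent.H21.one_tmul_eq_zero_iff]
    have h1 : f • x ∈ (m.map (algebraMap A B)) • (⊤ : Submodule B M) :=
      Groth.Agent.H21.mem_map_smul_of_mem_smul (S := B) m hz
    have h2 : f • (Submodule.Quotient.mk x :
        M ⧸ (m.map (algebraMap A B) • (⊤ : Submodule B M))) = f • 0 := by
      rw [smul_zero, ← Submodule.Quotient.mk_smul, Submodule.Quotient.mk_eq_zero]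
      exact h1
    have h3 := hf h2
    rw [Submodule.Quotient.mk_eq_zero] at h3
    exact Groth.Agent.H21.mem_smul_of_mem_map_smul (S := B) m h3
  have hinj := Groth.Agent.H21.mat225_injective (S := B) u h
  have hflat := Groth.Agent.H21.mat225_flat (S := B) u h
  refine ⟨fun x y hxy => hinj hxy, ?_⟩
  have hrange : LinearMap.range u = (f • (⊤ : Submodule B M)).restrictScalars A := by
    ext x
    rw [Submodule.restrictScalars_mem, Submodule.mem_smul_pointwise_iff_exists]
    constructor
    · rintro ⟨y, rfl⟩; exact ⟨y, Submodule.mem_top, rfl⟩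
    · rintro ⟨y, -, rfl⟩; exact ⟨y, rfl⟩
  let e : (M ⧸ LinearMap.range u) ≃ₗ[A] QuotSMulTop f M :=
    Submodule.quotEquivOfEq _ _ hrange ≪≫ₗ
      Submodule.Quotient.restrictScalarsEquiv A (f • (⊤ : Submodule B M))
  exact Module.Flat.of_linearEquiv e.symm

theorem reg_and_flat_of_fibre : ∀ (fs : List B) (M : Type u) [AddCommGroup M] [Module B M]
    [Module A M] [IsScalarTower A B M] [Module.Finite B M] [Module.Flat A M],
    RingTheory.Sequence.IsWeaklyRegular
      (M ⧸ ((IsLocalRing.maximalIdeal A).map (algebraMap A B) • (⊤ : Submodule B M))) fs →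
    RingTheory.Sequence.IsWeaklyRegular M fs ∧
      ∀ i ≤ fs.length, Module.Flat A (M ⧸ (Ideal.ofList (fs.take i) • (⊤ : Submodule B M))) := by
  intro fs
  induction fs with
  | nil =>
    intro M _ _ _ _ _ _ _
    refine ⟨RingTheory.Sequence.IsWeaklyRegular.nil B M, fun i _ => ?_⟩
    rw [List.take_nil, flat_quot_nil_iff]
    infer_instance
  | cons f rest ih =>
    intro M _ _ _ _ _ _ hreg
    obtain ⟨hf', hrest'⟩ := (RingTheory.Sequence.isWeaklyRegular_cons_iff _ f rest).mp hreg
    obtain ⟨hf, hflat⟩ := step M f hf'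
    have hrest'' := ((quotSwap M ((IsLocalRing.maximalIdeal A).map (algebraMap A B))
      f).isWeaklyRegular_congr rest).mp hrest'
    obtain ⟨IH1, IH2⟩ := ih (QuotSMulTop f M) hrest''
    refine ⟨(RingTheory.Sequence.isWeaklyRegular_cons_iff M f rest).mpr ⟨hf, IH1⟩, fun i hi => ?_⟩
    cases i with
    | zero =>
      rw [List.take_zero, flat_quot_nil_iff]
      infer_instance
    | succ i =>
      rw [List.take_succ_cons]
      have := IH2 i (by simpa using hi)
      exact Module.Flat.of_linearEquiv
        ((Submodule.quotOfListConsSMulTopEquivQuotSMulTopInner M f (rest.take i)).restrictScalars A)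

end

end Groth.Agent.Lib.helper24.RegFlat
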