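import Mathlib
import Groth.Prelude.Def_Twist2
import Groth.Prelude.Def_Coh

/-!
# The twisting sheaf `O(m)` on `Proj` is trivial on an open where a degree-`m` fraction `p / q`
is invertible (helper24)

`twist_restrict_iso`: for an open `V₀` of `Proj 𝒜` and homogeneous `p ∈ 𝒜 dp`, `q ∈ 𝒜 dq` with
`dp = dq + m`, neither vanishing anywhere on `V₀`, `(Twist.twist 𝒜 m).restrict V₀.ι ≅ O_{V₀}`.
`skeleton`: an `O_X`-module with a compatible family of sections `σ W` such that `r ↦ r • σ W`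
is bijective for every open `W` is isomorphic to `O_X`.
-/

set_option autoImplicit false
set_option linter.style.haveILetI false
set_option linter.unusedSectionVars false

universe u

namespace Groth.Agent.Lib.helper24.TwistTriv

section Main
open CategoryTheory CategoryTheory.Limits AlgebraicGeometry Opposite

theorem skeleton {X : Scheme.{u}} (N : X.Modules)
    (σ : ∀ W : X.Opens, Γ(N, W))
    (hσ : ∀ ⦃W W' : X.Opens⦄ (i : W ⟶ W'), N.presheaf.map i.op (σ W') = σ W)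
    (hbij : ∀ W : X.Opens, Function.Bijective (fun r : Γ(X, W) => r • σ W)) :
    Nonempty (N ≅ Coh.structureModule X) := by
  let s : SheafOfModules.sections N := PresheafOfModules.sectionsMk (fun W => σ W.unop)
    (fun W W' i => hσ i.unop)
  let φ : Coh.structureModule X ⟶ N := N.unitHomEquiv.symm s
  have hφ : ∀ (W : X.Opens) (r : Γ(X, W)),
      (Scheme.Modules.Hom.app φ W) r = r • σ W := by
    intro W r
    have h1 : (N.unitHomEquiv φ).val (op W) = s.val (op W) := by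
      rw [Equiv.apply_symm_apply]
    have h2 : Scheme.Modules.Hom.app φ W (1 : Γ(X, W)) = σ W := h1
    have h3 : r = r • (1 : Γ(X, W)) := by rw [smul_eq_mul, mul_one]
    conv_lhs => rw [h3]
    rw [← h2]
    exact Scheme.Modules.Hom.app_smul φ r _
  have : IsIso φ := by
    rw [Scheme.Modules.Hom.isIso_iff_isIso_app]
    intro W
    rw [ConcreteCategory.isIso_iff_bijective]
    have heq : (⇑(ConcreteCategory.hom (Scheme.Modules.Hom.app φ W)) : Γ(X, W) → Γ(N, W)) =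
        fun r : Γ(X, W) => r • σ W := funext fun r => hφ W r
    rw [heq]
    exact hbij W
  exact ⟨(asIso φ).symm⟩

variable {R A : Type u} [CommRing R] [CommRing A] [Algebra R A] (𝒜 : ℕ → Submodule R A)
  [GradedAlgebra 𝒜]

/-- pointwise: a fraction of degree `m` times `q / p` (of degree `-m`) has degree zero. -/
theorem exists_A0_val_eq (x : ProjectiveSpectrum 𝒜) (m : ℤ) {dp dq : ℕ} {p q : A}
    (hp : p ∈ 𝒜 dp) (hq : q ∈ 𝒜 dq) (hdeg : (dp : ℤ) = dq + m)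
    (hpx : p ∉ x.asHomogeneousIdeal)
    (z : Twist.Loc 𝒜 x) (hz : z ∈ Twist.twistAt 𝒜 m x) :
    ∃ c : Twist.A0 𝒜 x, c.val = z * Localization.mk q ⟨p, hpx⟩ := by
  induction hz using Submodule.span_induction with
  | mem z h =>
    obtain ⟨i, j, a, s, hs, hij, rfl⟩ := h
    have hidx : j + dp = i + dq := by omega
    have hden : s.1 * p ∈ 𝒜 (i + dq) := hidx ▸ SetLike.mul_mem_graded s.2 hp
    have hdenx : s.1 * p ∈ x.asHomogeneousIdeal.toIdeal.primeCompl := fun hmem =>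
      (x.isPrime.mem_or_mem hmem).elim hs hpx
    refine ⟨HomogeneousLocalization.mk ⟨i + dq, ⟨a.1 * q, SetLike.mul_mem_graded a.2 hq⟩,
      ⟨s.1 * p, hden⟩, hdenx⟩, ?_⟩
    rw [HomogeneousLocalization.val_mk, Localization.mk_mul]
    rfl
  | zero => exact ⟨0, by rw [HomogeneousLocalization.val_zero, zero_mul]⟩
  | add z₁ z₂ _ _ h₁ h₂ =>
    obtain ⟨c₁, e₁⟩ := h₁
    obtain ⟨c₂, e₂⟩ := h₂
    exact ⟨c₁ + c₂, by rw [HomogeneousLocalization.val_add, e₁, e₂, add_mul]⟩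
  | smul e z _ h =>
    obtain ⟨c₁, e₁⟩ := h
    refine ⟨e * c₁, ?_⟩
    rw [HomogeneousLocalization.val_mul, e₁, ← mul_assoc]
    congr 1

theorem mk_mul_mk_inv (x : ProjectiveSpectrum 𝒜) {p q : A}
    (hpx : p ∉ x.asHomogeneousIdeal) (hqx : q ∉ x.asHomogeneousIdeal) :
    (Localization.mk q ⟨p, hpx⟩ : Twist.Loc 𝒜 x) * Localization.mk p ⟨q, hqx⟩ = 1 := by
  rw [Localization.mk_mul, ← Localization.mk_one, Localization.mk_eq_mk_iff,
    Localization.r_iff_exists]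
  refine ⟨1, ?_⟩
  simp only [OneMemClass.coe_one, one_mul, mul_one]
  change q * p = p * q
  exact mul_comm q p

def asO (V₀ : (Proj 𝒜).Opens) (W : (V₀ : Scheme).Opens) (r : Γ((V₀ : Scheme), W)) :
    Twist.O (𝒜 := 𝒜) (op (V₀.ι ''ᵁ W)) := r

def asSect (V₀ : (Proj 𝒜).Opens) (m : ℤ) (W : (V₀ : Scheme).Opens)
    (t : Γ((Twist.twist 𝒜 m).restrict V₀.ι, W)) : Twist.sectN (𝒜 := 𝒜) m (op (V₀.ι ''ᵁ W)) := t

def toO' (V : (Proj 𝒜).Opens) (r : Γ(Proj 𝒜, V)) : Twist.O (𝒜 := 𝒜) (op V) := r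

def toSect' (m : ℤ) (V : (Proj 𝒜).Opens) (t : Γ(Twist.twist 𝒜 m, V)) :
    Twist.sectN (𝒜 := 𝒜) m (op V) := t

theorem base_smul (m : ℤ) (V : (Proj 𝒜).Opens) (r : Γ(Proj 𝒜, V)) (t : Γ(Twist.twist 𝒜 m, V))
    (x : ↥V) :
    (toSect' 𝒜 m V (r • t)).1 x =
      ((toO' 𝒜 V r).1 x • (toSect' 𝒜 m V t).1 x : Twist.twistAt 𝒜 m x.1) := by
  rfl

theorem restr_smul (V₀ : (Proj 𝒜).Opens) (m : ℤ) (W : (V₀ : Scheme).Opens)
    (r : Γ((V₀ : Scheme), W)) (t : Γ((Twist.twist 𝒜 m).restrict V₀.ι, W)) :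
    (r • t : Γ((Twist.twist 𝒜 m).restrict V₀.ι, W)) =
      (show Γ(Twist.twist 𝒜 m, V₀.ι ''ᵁ W) from
        ((show Γ(Proj 𝒜, V₀.ι ''ᵁ W) from r) •
          (show Γ(Twist.twist 𝒜 m, V₀.ι ''ᵁ W) from t))) := by
  have e0 : (r • t : Γ((Twist.twist 𝒜 m).restrict V₀.ι, W)) =
      (show Γ(Twist.twist 𝒜 m, V₀.ι ''ᵁ W) from
        (((V₀.ι.appIso W).inv r : Γ(Proj 𝒜, V₀.ι ''ᵁ W)) •
          (show Γ(Twist.twist 𝒜 m, V₀.ι ''ᵁ W) from t))) := rfl
  rw [e0, Scheme.Opens.ι_appIso]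
  rfl

theorem smul_val_eq (V₀ : (Proj 𝒜).Opens) (m : ℤ) (W : (V₀ : Scheme).Opens)
    (r : Γ((V₀ : Scheme), W)) (t : Γ((Twist.twist 𝒜 m).restrict V₀.ι, W))
    (x : ↥(V₀.ι ''ᵁ W)) :
    (((asSect 𝒜 V₀ m W (r • t)).1 x : Twist.twistAt 𝒜 m x.1) : Twist.Loc 𝒜 x.1) =
    (((asO 𝒜 V₀ W r).1 x).val : Twist.Loc 𝒜 x.1) *
      (((asSect 𝒜 V₀ m W t).1 x : Twist.twistAt 𝒜 m x.1) : Twist.Loc 𝒜 x.1) := by
  rw [restr_smul]
  exact (congrArg Subtype.val (base_smul 𝒜 m (V₀.ι ''ᵁ W) r t x)).trans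
    (Twist.coe_smul_val (𝒜 := 𝒜) m x.1 _ _)

theorem twist_restrict_iso (V₀ : (Proj 𝒜).Opens) (m : ℤ) {dp dq : ℕ} {p q : A}
    (hp : p ∈ 𝒜 dp) (hq : q ∈ 𝒜 dq) (hdeg : (dp : ℤ) = dq + m)
    (hpV : ∀ x : ProjectiveSpectrum 𝒜, x ∈ V₀ → p ∉ x.asHomogeneousIdeal)
    (hqV : ∀ x : ProjectiveSpectrum 𝒜, x ∈ V₀ → q ∉ x.asHomogeneousIdeal) :
    Nonempty ((Twist.twist 𝒜 m).restrict V₀.ι ≅ Coh.structureModule ↑V₀) := by
  classical
  have hmemV : ∀ (W : (V₀ : Scheme).Opens) (x : ↥(V₀.ι ''ᵁ W)), x.1 ∈ V₀ := fun W x =>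
    V₀.ι_image_le W x.2
  -- the generating section `p / q`
  let σ' : ∀ W : (V₀ : Scheme).Opens, Twist.sectN (𝒜 := 𝒜) m (op (V₀.ι ''ᵁ W)) := fun W =>
    ⟨fun x => ⟨Localization.mk p ⟨q, hqV x.1 (hmemV W x)⟩,
        Submodule.subset_span ⟨dp, dq, ⟨p, hp⟩, ⟨q, hq⟩, hqV x.1 (hmemV W x), hdeg, rfl⟩⟩,
      fun x => ⟨V₀.ι ''ᵁ W, x.2, 𝟙 _, dp, dq, ⟨p, hp⟩, ⟨q, hq⟩,
        fun y => hqV y.1 (hmemV W y), Or.inl hdeg, fun _ => rfl⟩⟩
  let σ : ∀ W : (V₀ : Scheme).Opens, Γ((Twist.twist 𝒜 m).restrict V₀.ι, W) := fun W => σ' W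
  have hσv : ∀ (W : (V₀ : Scheme).Opens) (x : ↥(V₀.ι ''ᵁ W)),
      (((asSect 𝒜 V₀ m W (σ W)).1 x : Twist.twistAt 𝒜 m x.1) : Twist.Loc 𝒜 x.1) =
        Localization.mk p ⟨q, hqV x.1 (hmemV W x)⟩ := fun W x => rfl
  refine skeleton _ σ (fun W W' i => rfl) ?_
  intro W
  constructor
  · -- injective
    intro r r' hrr
    have hrr' : asO 𝒜 V₀ W r = asO 𝒜 V₀ W r' := by
      refine Subtype.ext (funext fun x => HomogeneousLocalization.val_injective _ ?_)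
      have h2 := congrArg (fun t : Γ((Twist.twist 𝒜 m).restrict V₀.ι, W) =>
        (((asSect 𝒜 V₀ m W t).1 x : Twist.twistAt 𝒜 m x.1) : Twist.Loc 𝒜 x.1)) hrr
      have h3 : ((asO 𝒜 V₀ W r).1 x).val * Localization.mk p ⟨q, hqV x.1 (hmemV W x)⟩ =
          ((asO 𝒜 V₀ W r').1 x).val * Localization.mk p ⟨q, hqV x.1 (hmemV W x)⟩ := by
        have e1 := smul_val_eq 𝒜 V₀ m W r (σ W) x
        have e2 := smul_val_eq 𝒜 V₀ m W r' (σ W) x
        rw [hσv W x] at e1 e2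
        exact e1.symm.trans (h2.trans e2)
      have h4 := congrArg (fun z => z * (Localization.mk q ⟨p, hpV x.1 (hmemV W x)⟩ :
        Twist.Loc 𝒜 x.1)) h3
      simp only [mul_assoc] at h4
      rw [mul_comm (Localization.mk p _) (Localization.mk q _),
        mk_mul_mk_inv 𝒜 x.1 (hpV x.1 (hmemV W x)) (hqV x.1 (hmemV W x)), mul_one, mul_one] at h4
      exact h4
    exact hrr'
  · -- surjective
    intro t
    let t' : Twist.sectN (𝒜 := 𝒜) m (op (V₀.ι ''ᵁ W)) := asSect 𝒜 V₀ m W t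
    choose c hc using fun x : ↥(V₀.ι ''ᵁ W) =>
      exists_A0_val_eq 𝒜 x.1 m hp hq hdeg (hpV x.1 (hmemV W x)) (t'.1 x).1 (t'.1 x).2
    have hloc : (ProjectiveSpectrum.StructureSheaf.isLocallyFraction 𝒜).pred c := by
      intro x
      obtain ⟨V', hxV', i, i', j', a, s, nin, hd, hw⟩ := t'.2 x
      refine ⟨V', hxV', i, ?_⟩
      rcases hd with hd | ha0
      · have hidx : j' + dp = i' + dq := by omega
        refine ⟨i' + dq, ⟨a.1 * q, SetLike.mul_mem_graded a.2 hq⟩,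
          ⟨s.1 * p, hidx ▸ SetLike.mul_mem_graded s.2 hp⟩, fun y hmem =>
            (y.1.isPrime.mem_or_mem hmem).elim (nin y) (hpV y.1 (hmemV W (i y))), fun y => ?_⟩
        apply HomogeneousLocalization.val_injective
        rw [HomogeneousLocalization.val_mk]
        have h5 := hc (i y)
        rw [h5]
        have h6 : ((t'.1 (i y) : Twist.twistAt 𝒜 m (i y).1) : Twist.Loc 𝒜 (i y).1) =
            Localization.mk a.1 ⟨s.1, nin y⟩ := hw y
        rw [h6, Localization.mk_mul]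
        rfl
      · refine ⟨0, 0, ⟨1, SetLike.GradedOne.one_mem⟩, fun y hmem =>
          y.1.isPrime.ne_top ((Ideal.eq_top_iff_one _).mpr hmem), fun y => ?_⟩
        apply HomogeneousLocalization.val_injective
        rw [HomogeneousLocalization.val_mk]
        have h5 := hc (i y)
        rw [h5]
        have h6 : ((t'.1 (i y) : Twist.twistAt 𝒜 m (i y).1) : Twist.Loc 𝒜 (i y).1) =
            Localization.mk a.1 ⟨s.1, nin y⟩ := hw y
        rw [h6, ha0, Localization.mk_zero, zero_mul]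
        exact (Localization.mk_zero _).symm
    let r₀ : Twist.O (𝒜 := 𝒜) (op (V₀.ι ''ᵁ W)) := ⟨c, hloc⟩
    let r : Γ((V₀ : Scheme), W) := r₀
    refine ⟨r, ?_⟩
    have hgoal : asSect 𝒜 V₀ m W (r • σ W) = t' := by
      refine Subtype.ext (funext fun x => Subtype.ext ?_)
      refine (smul_val_eq 𝒜 V₀ m W r (σ W) x).trans ?_
      rw [hσv W x]
      change (c x).val * Localization.mk p ⟨q, hqV x.1 (hmemV W x)⟩ = _
      rw [hc x, mul_assoc,
        mk_mul_mk_inv 𝒜 x.1 (hpV x.1 (hmemV W x)) (hqV x.1 (hmemV W x)), mul_one]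
    exact hgoal

end Main

end Groth.Agent.Lib.helper24.TwistTriv
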