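import Mathlib
import Groth.Agent.Lib.helper24.TwistTriv

/-!
# `O(m)` restricted along an open immersion into `Proj` (helper24)

Generalisation of `TwistTriv.twist_restrict_iso` to an arbitrary open immersion `j : Z ⟶ Proj 𝒜`
whose image avoids the zero loci of `p` and `q`; used for double restrictions
(`PicF.IsInvertible` of a restricted twisting sheaf).
-/

set_option autoImplicit false
set_option linter.style.haveILetI false
set_option linter.unusedSectionVars false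

universe u

namespace Groth.Agent.Lib.helper24.TwistTriv

section Main2
open CategoryTheory CategoryTheory.Limits AlgebraicGeometry Opposite

variable {R A : Type u} [CommRing R] [CommRing A] [Algebra R A] (𝒜 : ℕ → Submodule R A)
  [GradedAlgebra 𝒜]

/-- the section `p / q` of `O(m)` over an open where `q` does not vanish -/
def sigmaSect (V : (Proj 𝒜).Opens) (m : ℤ) {dp dq : ℕ} {p q : A}
    (hp : p ∈ 𝒜 dp) (hq : q ∈ 𝒜 dq) (hdeg : (dp : ℤ) = dq + m)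
    (hqV : ∀ x : ProjectiveSpectrum 𝒜, x ∈ V → q ∉ x.asHomogeneousIdeal) :
    Twist.sectN (𝒜 := 𝒜) m (op V) :=
  ⟨fun x => ⟨Localization.mk p ⟨q, hqV x.1 x.2⟩,
      Submodule.subset_span ⟨dp, dq, ⟨p, hp⟩, ⟨q, hq⟩, hqV x.1 x.2, hdeg, rfl⟩⟩,
    fun x => ⟨V, x.2, 𝟙 _, dp, dq, ⟨p, hp⟩, ⟨q, hq⟩,
      fun y => hqV y.1 y.2, Or.inl hdeg, fun _ => rfl⟩⟩

/-- the same, as an element of `Γ(O(m), V)` -/
def sigmaΓ (V : (Proj 𝒜).Opens) (m : ℤ) {dp dq : ℕ} {p q : A}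
    (hp : p ∈ 𝒜 dp) (hq : q ∈ 𝒜 dq) (hdeg : (dp : ℤ) = dq + m)
    (hqV : ∀ x : ProjectiveSpectrum 𝒜, x ∈ V → q ∉ x.asHomogeneousIdeal) :
    Γ(Twist.twist 𝒜 m, V) := sigmaSect 𝒜 V m hp hq hdeg hqV

theorem base_smul_val (m : ℤ) (V : (Proj 𝒜).Opens) (r : Γ(Proj 𝒜, V))
    (t : Γ(Twist.twist 𝒜 m, V)) (x : ↥V) :
    (((toSect' 𝒜 m V (r • t)).1 x : Twist.twistAt 𝒜 m x.1) : Twist.Loc 𝒜 x.1) =
      ((toO' 𝒜 V r).1 x).val * (((toSect' 𝒜 m V t).1 x : Twist.twistAt 𝒜 m x.1) :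
        Twist.Loc 𝒜 x.1) :=
  (congrArg Subtype.val (base_smul 𝒜 m V r t x)).trans (Twist.coe_smul_val (𝒜 := 𝒜) m x.1 _ _)

theorem base_bij (V : (Proj 𝒜).Opens) (m : ℤ) {dp dq : ℕ} {p q : A}
    (hp : p ∈ 𝒜 dp) (hq : q ∈ 𝒜 dq) (hdeg : (dp : ℤ) = dq + m)
    (hpV : ∀ x : ProjectiveSpectrum 𝒜, x ∈ V → p ∉ x.asHomogeneousIdeal)
    (hqV : ∀ x : ProjectiveSpectrum 𝒜, x ∈ V → q ∉ x.asHomogeneousIdeal) :
    Function.Bijective (fun r : Γ(Proj 𝒜, V) => r • sigmaΓ 𝒜 V m hp hq hdeg hqV) := by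
  classical
  have hσv : ∀ x : ↥V,
      (((toSect' 𝒜 m V (sigmaΓ 𝒜 V m hp hq hdeg hqV)).1 x : Twist.twistAt 𝒜 m x.1) :
        Twist.Loc 𝒜 x.1) = Localization.mk p ⟨q, hqV x.1 x.2⟩ := fun x => rfl
  constructor
  · intro r r' hrr
    have hrr' : toO' 𝒜 V r = toO' 𝒜 V r' := by
      refine Subtype.ext (funext fun x => HomogeneousLocalization.val_injective _ ?_)
      have h2 := congrArg (fun t : Γ(Twist.twist 𝒜 m, V) =>
        (((toSect' 𝒜 m V t).1 x : Twist.twistAt 𝒜 m x.1) : Twist.Loc 𝒜 x.1)) hrr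
      have h3 : ((toO' 𝒜 V r).1 x).val * Localization.mk p ⟨q, hqV x.1 x.2⟩ =
          ((toO' 𝒜 V r').1 x).val * Localization.mk p ⟨q, hqV x.1 x.2⟩ := by
        have e1 := base_smul_val 𝒜 m V r (sigmaΓ 𝒜 V m hp hq hdeg hqV) x
        have e2 := base_smul_val 𝒜 m V r' (sigmaΓ 𝒜 V m hp hq hdeg hqV) x
        rw [hσv x] at e1 e2
        exact e1.symm.trans (h2.trans e2)
      have h4 := congrArg (fun z => z * (Localization.mk q ⟨p, hpV x.1 x.2⟩ :
        Twist.Loc 𝒜 x.1)) h3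
      simp only [mul_assoc] at h4
      rw [mul_comm (Localization.mk p _) (Localization.mk q _),
        mk_mul_mk_inv 𝒜 x.1 (hpV x.1 x.2) (hqV x.1 x.2), mul_one, mul_one] at h4
      exact h4
    exact hrr'
  · intro t
    let t' : Twist.sectN (𝒜 := 𝒜) m (op V) := toSect' 𝒜 m V t
    choose c hc using fun x : ↥V =>
      exists_A0_val_eq 𝒜 x.1 m hp hq hdeg (hpV x.1 x.2) (t'.1 x).1 (t'.1 x).2
    have hloc : (ProjectiveSpectrum.StructureSheaf.isLocallyFraction 𝒜).pred c := by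
      intro x
      obtain ⟨V', hxV', i, i', j', a, s, nin, hd, hw⟩ := t'.2 x
      refine ⟨V', hxV', i, ?_⟩
      rcases hd with hd | ha0
      · have hidx : j' + dp = i' + dq := by omega
        refine ⟨i' + dq, ⟨a.1 * q, SetLike.mul_mem_graded a.2 hq⟩,
          ⟨s.1 * p, hidx ▸ SetLike.mul_mem_graded s.2 hp⟩, fun y hmem =>
            (y.1.isPrime.mem_or_mem hmem).elim (nin y) (hpV y.1 (i y).2), fun y => ?_⟩
        apply HomogeneousLocalization.val_injective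
        rw [HomogeneousLocalization.val_mk]
        have h5 := hc (i y)
        rw [h5]
        have h6 : ((t'.1 (i y) : Twist.twistAt 𝒜 m (i y).1) : Twist.Loc 𝒜 (i y).1) =
            Localization.mk a.1 ⟨s.1, nin y⟩ := hw y
        rw [h6, Localization.mk_mul]
        rfl
      · refine ⟨0, 0, ⟨1, SetLike.GradedOne.one_mem⟩, fun y hmem =>
          y.1.isPrime.ne_top ((Ideal.eq_top_iff_one _).mpr hmem), fun y => ?_⟩
        apply HomogeneousLocalization.val_injective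
        rw [HomogeneousLocalization.val_mk]
        have h5 := hc (i y)
        rw [h5]
        have h6 : ((t'.1 (i y) : Twist.twistAt 𝒜 m (i y).1) : Twist.Loc 𝒜 (i y).1) =
            Localization.mk a.1 ⟨s.1, nin y⟩ := hw y
        rw [h6, ha0, Localization.mk_zero, zero_mul]
        exact (Localization.mk_zero _).symm
    let r₀ : Twist.O (𝒜 := 𝒜) (op V) := ⟨c, hloc⟩
    let r : Γ(Proj 𝒜, V) := r₀
    refine ⟨r, ?_⟩
    have hgoal : toSect' 𝒜 m V (r • sigmaΓ 𝒜 V m hp hq hdeg hqV) = t' := by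
      refine Subtype.ext (funext fun x => Subtype.ext ?_)
      refine (base_smul_val 𝒜 m V r (sigmaΓ 𝒜 V m hp hq hdeg hqV) x).trans ?_
      rw [hσv x]
      change (c x).val * Localization.mk p ⟨q, hqV x.1 x.2⟩ = _
      rw [hc x, mul_assoc, mk_mul_mk_inv 𝒜 x.1 (hpV x.1 x.2) (hqV x.1 x.2), mul_one]
    exact hgoal

theorem twist_restrict_iso_of_isOpenImmersion {Z : Scheme.{u}} (j : Z ⟶ Proj 𝒜)
    [IsOpenImmersion j] (m : ℤ) {dp dq : ℕ} {p q : A}
    (hp : p ∈ 𝒜 dp) (hq : q ∈ 𝒜 dq) (hdeg : (dp : ℤ) = dq + m)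
    (hpZ : ∀ z : Z, p ∉ (j z : ProjectiveSpectrum 𝒜).asHomogeneousIdeal)
    (hqZ : ∀ z : Z, q ∉ (j z : ProjectiveSpectrum 𝒜).asHomogeneousIdeal) :
    Nonempty ((Twist.twist 𝒜 m).restrict j ≅ Coh.structureModule Z) := by
  classical
  have hmem : ∀ (W : Z.Opens) (x : ProjectiveSpectrum 𝒜), x ∈ j ''ᵁ W →
      p ∉ x.asHomogeneousIdeal ∧ q ∉ x.asHomogeneousIdeal := by
    rintro W x ⟨z, -, rfl⟩
    exact ⟨hpZ z, hqZ z⟩
  let σ : ∀ W : Z.Opens, Γ((Twist.twist 𝒜 m).restrict j, W) := fun W =>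
    sigmaΓ 𝒜 (j ''ᵁ W) m hp hq hdeg (fun x hx => (hmem W x hx).2)
  refine skeleton _ σ (fun W W' i => rfl) ?_
  intro W
  have hb := base_bij 𝒜 (j ''ᵁ W) m hp hq hdeg (fun x hx => (hmem W x hx).1)
    (fun x hx => (hmem W x hx).2)
  have hiso : Function.Bijective (fun r : Γ(Z, W) => ((j.appIso W).inv r : Γ(Proj 𝒜, j ''ᵁ W))) :=
    ConcreteCategory.bijective_of_isIso (j.appIso W).inv
  exact hb.comp hiso

end Main2

end Groth.Agent.Lib.helper24.TwistTriv
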