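import Mathlib

/-!
# Universally injective maps from projective modules into flat modules over a local ring

`univInj_of_projective_of_flat`: over a local ring, a map from a projective module to a flat
module which is injective modulo the maximal ideal is universally injective.
-/
set_option autoImplicit false
set_option linter.style.haveILetI false
universe u

namespace Groth.Agent.Lib.helper24.UnivInj

open TensorProduct IsLocalRing in
theorem exists_right_inverse_of_li {R : Type*} [CommRing R] [IsLocalRing R] {s κ : Type*}
    [Fintype s] [DecidableEq s] [Fintype κ] [DecidableEq κ]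
    (A : Matrix s κ R)
    (hLI : ∀ c : s → R, (∀ j, ∑ i, c i * A i j ∈ maximalIdeal R) → ∀ i, c i ∈ maximalIdeal R) :
    ∃ B : Matrix κ s R, A * B = 1 := by
  let K := ResidueField R
  let Ā : Matrix s κ K := A.map (residue R)
  let T : (s → K) →ₗ[K] (κ → K) := Matrix.toLin' Ā.transpose
  have hinj : LinearMap.ker T = ⊥ := by
    rw [LinearMap.ker_eq_bot']
    intro cb hc
    choose c hc' using fun i => residue_surjective (cb i)
    have h1 : ∀ j, ∑ i, c i * A i j ∈ maximalIdeal R := by
      intro j
      rw [← residue_eq_zero_iff, map_sum]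
      have h2 := congrFun hc j
      simp only [T, Matrix.toLin'_apply, Matrix.mulVec, dotProduct, Matrix.transpose_apply,
        Pi.zero_apply, Ā, Matrix.map_apply] at h2
      rw [← h2]
      refine Finset.sum_congr rfl fun i _ => ?_
      rw [map_mul, hc' i, mul_comm]
    funext i
    rw [← hc' i]
    exact (residue_eq_zero_iff _).mpr (hLI c h1 i)
  obtain ⟨g, hg⟩ := T.exists_leftInverse_of_injective hinj
  let G : Matrix s κ K := LinearMap.toMatrix' g
  have hGA : G * Ā.transpose = 1 := by
    apply Matrix.toLin'.injective
    rw [Matrix.toLin'_mul, Matrix.toLin'_one, Matrix.toLin'_toMatrix']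
    exact hg
  have hAG : Ā * G.transpose = 1 := by
    have := congrArg Matrix.transpose hGA
    rwa [Matrix.transpose_mul, Matrix.transpose_transpose, Matrix.transpose_one] at this
  choose B hB using fun (j : κ) (i : s) => residue_surjective (G.transpose j i)
  have hmap : (A * Matrix.of B).map (residue R) = 1 := by
    rw [Matrix.map_mul]
    have : (Matrix.of B).map (residue R) = G.transpose := by
      ext j i; simp [hB]
    rw [this]; exact hAG
  have hdet : IsUnit (A * Matrix.of B).det := by
    have h1 : residue R ((A * Matrix.of B).det) = 1 := by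
      rw [RingHom.map_det, RingHom.mapMatrix_apply, hmap, Matrix.det_one]
    by_contra hnu
    have : (A * Matrix.of B).det ∈ maximalIdeal R := (mem_maximalIdeal _).mpr hnu
    rw [← residue_eq_zero_iff, h1] at this
    exact one_ne_zero this
  refine ⟨Matrix.of B * (A * Matrix.of B)⁻¹, ?_⟩
  rw [← Matrix.mul_assoc, Matrix.mul_nonsing_inv _ hdet]

open TensorProduct IsLocalRing in
theorem free_case {R : Type u} [CommRing R] [IsLocalRing R] {ι : Type u} {N : Type u}
    [AddCommGroup N] [Module R N] [Module.Flat R N] (u : (ι →₀ R) →ₗ[R] N)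
    (h : Function.Injective (LinearMap.lTensor (ResidueField R) u))
    (Q : Type u) [AddCommGroup Q] [Module R Q] : Function.Injective (LinearMap.rTensor Q u) := by
  classical
  rw [injective_iff_map_eq_zero]
  intro z hz
  set w : ι →₀ Q := finsuppScalarLeft R Q ι z with hw
  have hzw : z = (finsuppScalarLeft R Q ι).symm w := by simp [hw]
  suffices hw0 : w = 0 by rw [hzw, hw0, map_zero]
  let s := w.support
  let q : s → Q := fun i => w i
  let x : s → N := fun i => u (Finsupp.single (i : ι) 1)
  have hz' : z = ∑ i : s, (Finsupp.single (i : ι) (1 : R)) ⊗ₜ[R] q i := by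
    rw [hzw]
    conv_lhs => rw [← Finsupp.sum_single w]
    rw [Finsupp.sum, map_sum]
    rw [← Finset.sum_coe_sort]
    refine Finset.sum_congr rfl fun i _ => ?_
    rw [finsuppScalarLeft_symm_apply_single]
  have hsum : ∑ i : s, q i ⊗ₜ[R] x i = (0 : Q ⊗[R] N) := by
    have := congrArg (TensorProduct.comm R N Q) hz
    rw [hz', map_sum, map_sum, map_zero] at this
    simpa [x] using this
  have hflat : Function.Injective (LinearMap.rTensor N (Submodule.span R (Set.range q)).subtype) :=
    Module.Flat.rTensor_preserves_injective_linearMap _ (Submodule.injective_subtype _)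
  obtain ⟨k, a, y, hxy, haq⟩ :=
    vanishesTrivially_of_sum_tmul_eq_zero_of_rTensor_injective R hflat hsum
  -- linear independence
  have hLI : ∀ c : s → R, (∀ j, ∑ i, c i * (Matrix.of a) i j ∈ maximalIdeal R) →
      ∀ i, c i ∈ maximalIdeal R := by
    intro c hc i₀
    let zz : ι →₀ R := ∑ i : s, c i • Finsupp.single (i : ι) 1
    have huz : u zz = ∑ j, (∑ i, c i * a i j) • y j := by
      simp only [zz, map_sum, map_smul]
      have : ∀ i : s, u (Finsupp.single (i : ι) 1) = ∑ j, a i j • y j := hxy
      simp_rw [this, Finset.smul_sum, smul_smul, Finset.sum_smul]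
      rw [Finset.sum_comm]
    have h0 : (LinearMap.lTensor (ResidueField R) u) ((1 : ResidueField R) ⊗ₜ[R] zz) = 0 := by
      rw [LinearMap.lTensor_tmul, huz, tmul_sum]
      refine Finset.sum_eq_zero fun j _ => ?_
      have hcj : ∑ i, c i * a i j ∈ maximalIdeal R := hc j
      rw [tmul_smul, smul_tmul', Algebra.smul_def, mul_one, ResidueField.algebraMap_eq,
        (residue_eq_zero_iff _).mpr hcj, zero_tmul]
    have h1 : (1 : ResidueField R) ⊗ₜ[R] zz = 0 := h (by rw [h0, map_zero])
    have h2 := congrArg (fun t => TensorProduct.rid R (ResidueField R)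
      (LinearMap.lTensor (ResidueField R) (Finsupp.lapply (i₀ : ι)) t)) h1
    simp only [LinearMap.lTensor_tmul, Finsupp.lapply_apply, TensorProduct.rid_tmul, map_zero] at h2
    have h3 : zz (i₀ : ι) = c i₀ := by
      simp only [zz, Finsupp.coe_finsetSum, Finsupp.coe_smul, Finset.sum_apply, Pi.smul_apply,
        smul_eq_mul]
      rw [Finset.sum_eq_single i₀]
      · simp
      · intro b _ hb
        rw [Finsupp.single_apply, if_neg (fun h => hb (Subtype.ext h)), mul_zero]
      · simp
    rw [h3, Algebra.smul_def, mul_one, ResidueField.algebraMap_eq, residue_eq_zero_iff] at h2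
    exact h2
  obtain ⟨B, hB⟩ := exists_right_inverse_of_li (Matrix.of a) hLI
  have hq0 : ∀ l : s, q l = 0 := by
    intro l
    have : q l = ∑ i, ((Matrix.of a * B) i l) • q i := by
      rw [hB]
      simp [Matrix.one_apply, Finset.sum_ite_eq']
    rw [this]
    simp_rw [Matrix.mul_apply, Finset.sum_smul]
    rw [Finset.sum_comm]
    refine Finset.sum_eq_zero fun j _ => ?_
    have : ∑ i, (Matrix.of a i j * B j l) • q i = B j l • ∑ i, a i j • q i := by
      rw [Finset.smul_sum]
      refine Finset.sum_congr rfl fun i _ => ?_
      rw [Matrix.of_apply, mul_comm, mul_smul]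
    rw [this, haq j, smul_zero]
  ext i
  by_cases hi : i ∈ s
  · exact hq0 ⟨i, hi⟩
  · simpa [s] using hi

open TensorProduct in
theorem flat_prod {R : Type u} [CommRing R] {N F : Type u} [AddCommGroup N] [Module R N]
    [AddCommGroup F] [Module R F] [Module.Flat R N] [Module.Flat R F] : Module.Flat R (N × F) := by
  rw [Module.Flat.iff_rTensor_preserves_injective_linearMap]
  intro A B _ _ _ _ f hf
  have hN := Module.Flat.rTensor_preserves_injective_linearMap (M := N) f hf
  have hF := Module.Flat.rTensor_preserves_injective_linearMap (M := F) f hf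
  have nat : (TensorProduct.prodRight R R B N F).toLinearMap ∘ₗ (LinearMap.rTensor (N × F) f) =
      (LinearMap.prodMap (LinearMap.rTensor N f) (LinearMap.rTensor F f)) ∘ₗ
        (TensorProduct.prodRight R R A N F).toLinearMap := by
    apply TensorProduct.ext'
    intro a nf
    simp
  have h1 : Function.Injective ((TensorProduct.prodRight R R B N F).toLinearMap ∘ₗ
      (LinearMap.rTensor (N × F) f)) := by
    rw [nat]
    exact (Function.Injective.prodMap hN hF).comp (TensorProduct.prodRight R R A N F).injective
  exact Function.Injective.of_comp h1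

open TensorProduct IsLocalRing in
theorem univInj_of_projective_of_flat {R M N : Type u} [CommRing R] [IsLocalRing R] [AddCommGroup M] [Module R M] [Module.Projective R M]
    [AddCommGroup N] [Module R N] [Module.Flat R N] (u : M →ₗ[R] N)
    (h : Function.Injective (LinearMap.lTensor (IsLocalRing.ResidueField R) u)) :
    ∀ (Q : Type u) [AddCommGroup Q] [Module R Q], Function.Injective (LinearMap.rTensor Q u) := by
  intro Q _ _
  obtain ⟨i, hi⟩ := Module.projective_def'.mp ‹Module.Projective R M›
  let p : (M →₀ R) →ₗ[R] M := Finsupp.linearCombination R id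
  have hpi : p ∘ₗ i = LinearMap.id := hi
  let u' : (M →₀ R) →ₗ[R] (N × (M →₀ R)) := LinearMap.prod (u ∘ₗ p) (LinearMap.id - i ∘ₗ p)
  have hfst : LinearMap.fst R N (M →₀ R) ∘ₗ u' = u ∘ₗ p := by
    ext; simp [u']
  have hsnd : LinearMap.snd R N (M →₀ R) ∘ₗ u' = LinearMap.id - i ∘ₗ p := by
    ext; simp [u']
  have hu' : Function.Injective (LinearMap.lTensor (ResidueField R) u') := by
    rw [injective_iff_map_eq_zero]
    intro x hx
    have h1 : LinearMap.lTensor (ResidueField R) (u ∘ₗ p) x = 0 := by
      rw [← hfst, LinearMap.lTensor_comp, LinearMap.comp_apply, hx, map_zero]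
    have h2 : LinearMap.lTensor (ResidueField R) (LinearMap.id - i ∘ₗ p) x = 0 := by
      rw [← hsnd, LinearMap.lTensor_comp, LinearMap.comp_apply, hx, map_zero]
    rw [LinearMap.lTensor_comp, LinearMap.comp_apply] at h1
    have h3 : LinearMap.lTensor (ResidueField R) p x = 0 := h (by rw [h1, map_zero])
    rw [LinearMap.lTensor_sub, LinearMap.sub_apply, LinearMap.lTensor_id, LinearMap.id_apply,
      LinearMap.lTensor_comp, LinearMap.comp_apply, h3, map_zero, sub_zero] at h2
    exact h2
  haveI : Module.Flat R (N × (M →₀ R)) := flat_prod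
  have key := free_case u' hu' Q
  rw [injective_iff_map_eq_zero]
  intro y hy
  have hui : u' ∘ₗ i = LinearMap.inl R N (M →₀ R) ∘ₗ u := by
    apply LinearMap.ext
    intro m
    have h4 : p (i m) = m := LinearMap.congr_fun hpi m
    simp [u', h4]
  have h1 : LinearMap.rTensor Q u' (LinearMap.rTensor Q i y) = 0 := by
    rw [← LinearMap.comp_apply, ← LinearMap.rTensor_comp, hui, LinearMap.rTensor_comp,
      LinearMap.comp_apply, hy, map_zero]
  have h2 : LinearMap.rTensor Q i y = 0 := key (by rw [h1, map_zero])
  have h3 : y = LinearMap.rTensor Q p (LinearMap.rTensor Q i y) := by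
    rw [← LinearMap.comp_apply, ← LinearMap.rTensor_comp, hpi, LinearMap.rTensor_id,
      LinearMap.id_apply]
  rw [h3, h2, map_zero]

end Groth.Agent.Lib.helper24.UnivInj
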