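import Mathlib
import Groth.Prelude.Def_Versch
import Groth.Prelude.Def_CartDual2

/-!
# Criterion for the Verschiebung to be trivial (helper24)
-/

namespace Groth.Agent.Lib.helper24.VerschTriv
universe u v
open CartDual
open scoped TensorProduct

section
variable (p : ℕ) [Fact p.Prime] (R : Type u) [CommRing R] [CharP R p] (A : Type v) [CommRing A]
  [HopfAlgebra R A] [Module.Finite R A] [Module.Projective R A] [Coalgebra.IsCocomm R A]

omit [Module.Finite R A] [Module.Projective R A] [Coalgebra.IsCocomm R A] in
theorem algebraMap_apply (r : R) (a : A) :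
    (algebraMap R (D R A) r) a = r * Coalgebra.counit (R := R) a := by
  simp [CartDual.coe_apply, LinearMap.convAlgebraMap_apply]

/-- If the Frobenius of the dual is trivial (`x ^ p = (x 1) ^ p • 1` for all linear forms `x`),
the Verschiebung is the trivial homomorphism. -/
theorem versch_eq_trivial
    (h : ∀ x : D R A, x ^ p = algebraMap R (D R A) ((x 1) ^ p))
    (v : A →+* FrobAlg.BaseChange p R A) (hv : Versch.IsVerschiebung p R A v) :
    v = ((Algebra.TensorProduct.includeRight (R := R) (A := A) (B := FrobAlg.Twist p R)).toRingHom.comp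
          (FrobAlg.toTwist p R).toRingHom).comp (Bialgebra.counitAlgHom R A).toRingHom := by
  rw [Versch.isVerschiebung_iff] at hv
  apply RingHom.ext
  intro a
  apply Versch.evTw_injective
  intro x
  rw [hv]
  show _ = Versch.evTw p R A x ((1 : A) ⊗ₜ[R] FrobAlg.toTwist p R (Coalgebra.counit (R := R) a))
  rw [Versch.evTw_tmul', h x, algebraMap_apply, map_mul]

end

end Groth.Agent.Lib.helper24.VerschTriv
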